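import Cfsg.Agent.Lib.PGroups.Frattini
import Cfsg.Agent.Lib.PGroups.Series
import Cfsg.Agent.Lib.PGroups.ClassTwo
import Cfsg.Agent.Lib.FusionExamples.SmallEssential
import Cfsg.Agent.Lib.Transfer.Tate

/-!
Nonabelian groups of order `p ^ 4`: either a characteristic maximal subgroup above the Frattini
subgroup, or Frattini subgroup of order `p` and centre of order `p ^ 2`.
-/

set_option autoImplicit false
set_option linter.style.haveILetI false
set_option linter.unusedSectionVars false

open scoped commutatorElement

namespace CfsgLib.OrderDegrees.FusFifth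

open CfsgLib.FusionExamples

variable {p : ℕ} [hp : Fact p.Prime] {V : Type*} [Group V] [Finite V]

theorem card_eq_prime_of_le {G : Type*} [Group G] [Finite G] (hG : IsPGroup p G) {H : Subgroup G}
    (hne : H ≠ ⊥) (hle : Nat.card H ≤ p) : Nat.card H = p :=
  le_antisymm hle (by
    haveI : Nontrivial H := H.nontrivial_iff_ne_bot.mpr hne
    obtain ⟨i, hi, hic⟩ := (hG.to_subgroup H).nontrivial_iff_card.mp inferInstance
    exact hic ▸ Nat.le_self_pow (by omega) p)

theorem index_eq_prime_of_range {G H : Type*} [Group G] [Group H] [Finite H] (f : G →* H)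
    {K : Subgroup H} (hK : Nat.card K = p) (hle : f.range ≤ K) (hne : f.range ≠ ⊥) :
    f.ker.index = p := by
  rw [Subgroup.index_ker]
  exact (hp.out.eq_one_or_self_of_dvd _ (hK ▸ Subgroup.card_dvd_of_le hle)).resolve_left
    fun h => hne (Subgroup.card_eq_one.mp h)

/-- A nonabelian group of order `p ^ 4`. -/
theorem fourth_cases (hcard : Nat.card V = p ^ 4) (hna : ∃ a b : V, a * b ≠ b * a) :
    (∃ M : Subgroup V, M.Normal ∧ M.index = p ∧ (frattini V).relIndex M = p ∧
        ∀ β : MulAut V, ∀ m ∈ M, β m ∈ M) ∨
      (Nat.card (frattini V) = p ∧ (Subgroup.center V).index = p ^ 2 ∧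
        frattini V ≤ Subgroup.center V) := by
  have hV : IsPGroup p V := IsPGroup.of_card hcard
  obtain ⟨a₀, b₀, hab⟩ := hna
  have hnab : commutator V ≠ ⊥ := fun h => hab (commutatorElement_eq_one_iff_mul_comm.mp (by
    have := Subgroup.commutator_mem_commutator (Subgroup.mem_top a₀) (Subgroup.mem_top b₀)
    rwa [← commutator_def, h, Subgroup.mem_bot] at this))
  have hnc := CfsgLib.PGroups.not_isCyclic_of_commutator_ne_bot hnab
  have hcy : ∀ N : Subgroup V, N ≤ Subgroup.center V → ∀ [N.Normal], Nat.card (V ⧸ N) ≤ p → False := by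
    intro N hN _ hq
    haveI : IsCyclic (V ⧸ N) := by
      obtain ⟨j, hj⟩ := IsPGroup.iff_card.mp (hV.to_quotient N)
      rw [hj] at hq
      have hj1 : j ≤ 1 := (Nat.pow_le_pow_iff_right hp.out.one_lt).mp (hq.trans_eq (pow_one p).symm)
      rcases Nat.le_one_iff_eq_zero_or_eq_one.mp hj1 with rfl | rfl
      · haveI := (Nat.card_eq_one_iff_unique.mp (hj.trans (pow_zero p))).1
        exact isCyclic_of_subsingleton
      · exact isCyclic_of_prime_card (hj.trans (pow_one p))
    refine hab (commutative_of_cyclic_center_quotient (G' := V ⧸ N) (QuotientGroup.mk' N)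
      (by rw [QuotientGroup.ker_mk']; exact hN) a₀ b₀)
  obtain ⟨i, hi⟩ := IsPGroup.iff_card.mp (hV.to_subgroup (frattini V))
  have hidx := CfsgLib.PGroups.pow_le_index_frattini hV hnc
  have hci := (frattini V).card_mul_index
  rw [hi, hcard] at hci
  have hi2 : i ≤ 2 := by
    by_contra hlt
    have h1 : p ^ 5 ≤ p ^ i * (frattini V).index := by
      rw [show 5 = 3 + 2 by rfl, pow_add]
      exact Nat.mul_le_mul (Nat.pow_le_pow_right hp.out.pos (by omega)) hidx
    rw [hci] at h1
    exact absurd ((Nat.pow_le_pow_iff_right hp.out.one_lt).mp h1) (by omega)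
  have hi1 : 1 ≤ i := by
    by_contra h0
    refine hnab (le_bot_iff.mp ((CfsgLib.PGroups.commutator_le_frattini hV).trans ?_))
    rw [le_bot_iff, ← Subgroup.card_eq_one, hi, show i = 0 by omega, pow_zero]
  have hcomle : commutator V ≤ frattini V := CfsgLib.PGroups.commutator_le_frattini hV
  rcases (show i = 1 ∨ i = 2 by omega) with rfl | rfl
  · -- three generators
    rw [pow_one] at hi
    refine Or.inr ⟨hi, ?_⟩
    have hC : commutator V = frattini V := Subgroup.eq_of_le_of_card_ge hcomle (by
      rw [hi]; exact (card_eq_prime_of_le hV hnab ((Subgroup.card_le_of_le hcomle).trans hi.le)).ge)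
    have hΦZ : frattini V ≤ Subgroup.center V := fun x hx => Subgroup.mem_center_iff.mpr fun g => by
      have h1 := CfsgLib.FusionExamples.MaxClass.trivial_mod hV (K := (⊥ : Subgroup V)) (L := frattini V)
        bot_le (by simp [hi]) (a := MulAut.conj g)
        (fun y hy => by rw [Subgroup.mem_bot.mp hy, map_one]; exact one_mem _)
        (fun y hy => (inferInstance : (frattini V).Normal).conj_mem y hy g)
        (r := (hV g).choose) (by rw [← map_pow, (hV g).choose_spec, map_one]) hx
      rw [Subgroup.mem_bot, inv_mul_eq_one, MulAut.conj_apply, eq_mul_inv_iff_mul_eq] at h1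
      exact h1.symm
    refine ⟨?_, hΦZ⟩
    have hcen : ∀ v w : V, ⁅v, w⁆ ∈ Subgroup.center V := fun v w => hΦZ (hC ▸
      Subgroup.commutator_mem_commutator (Subgroup.mem_top v) (Subgroup.mem_top w))
    have hmem : ∀ v w : V, ⁅v, w⁆ ∈ commutator V := fun v w =>
      Subgroup.commutator_mem_commutator (Subgroup.mem_top v) (Subgroup.mem_top w)
    have hCp : Nat.card (commutator V) = p := hC ▸ hi
    let f : V →* commutator V × commutator V :=
      { toFun := fun v => (⟨⁅v, a₀⁆, hmem _ _⟩, ⟨⁅v, b₀⁆, hmem _ _⟩)
        map_one' := Prod.ext (Subtype.ext (commutatorElement_one_left _))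
          (Subtype.ext (commutatorElement_one_left _))
        map_mul' := fun v w => Prod.ext
          (Subtype.ext (CfsgLib.PGroups.commutatorElement_mul_left (hcen w a₀)))
          (Subtype.ext (CfsgLib.PGroups.commutatorElement_mul_left (hcen w b₀))) }
    have hker : ∀ v, v ∈ f.ker ↔ Commute v a₀ ∧ Commute v b₀ := fun v => by
      rw [MonoidHom.mem_ker, Prod.ext_iff]
      simp [f, Subtype.ext_iff, commutatorElement_eq_one_iff_commute]
    have hK2 : p ^ 2 ≤ Nat.card f.ker := by
      have h1 := f.ker.card_mul_index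
      rw [Subgroup.index_ker, hcard] at h1
      have h2 : Nat.card f.range ≤ p ^ 2 := by
        refine (Subgroup.card_le_card_group _).trans ?_
        rw [Nat.card_prod, hCp, pow_two]
      by_contra hlt
      have h3 : Nat.card f.ker * Nat.card f.range < p ^ 2 * p ^ 2 :=
        lt_of_lt_of_le (Nat.mul_lt_mul_of_pos_right (Nat.not_le.mp hlt) Nat.card_pos)
          (Nat.mul_le_mul_left _ h2)
      rw [h1, ← pow_add] at h3
      exact lt_irrefl _ h3
    -- the two generators and the kernel generate `V`
    set H := f.ker ⊔ Subgroup.zpowers a₀ ⊔ Subgroup.zpowers b₀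
    have ha : a₀ ∈ H := Subgroup.mem_sup_left (Subgroup.mem_sup_right (Subgroup.mem_zpowers _))
    have hb : b₀ ∈ H := Subgroup.mem_sup_right (Subgroup.mem_zpowers _)
    have hk : f.ker ≤ H := le_sup_left.trans le_sup_left
    have hc : (⟨⁅a₀, b₀⁆, hmem _ _⟩ : commutator V) ≠ 1 := fun h =>
      hab (commutatorElement_eq_one_iff_mul_comm.mp (congrArg Subtype.val h))
    have hgen : ∀ q : commutator V, ∃ k : ℤ, q.1 = ⁅a₀, b₀⁆ ^ k := fun q => by
      obtain ⟨k, hk⟩ := mem_zpowers_of_prime_card hCp (g' := q) hc
      exact ⟨k, (congrArg Subtype.val hk).symm⟩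
    have htop : ∀ v, v ∈ H := by
      intro v
      obtain ⟨k, hk'⟩ := hgen ⟨⁅v, b₀⁆, hmem _ _⟩
      obtain ⟨l, hl⟩ := hgen ⟨⁅v, a₀⁆, hmem _ _⟩
      have h2 : f v = f (a₀ ^ k * b₀ ^ (-l)) := by
        have e1 : f a₀ = (1, ⟨⁅a₀, b₀⁆, hmem _ _⟩) := Prod.ext (Subtype.ext (commutatorElement_self _)) rfl
        have e2 : f b₀ = (⟨⁅b₀, a₀⁆, hmem _ _⟩, 1) := Prod.ext rfl (Subtype.ext (commutatorElement_self _))
        rw [map_mul, map_zpow, map_zpow, e1, e2]
        refine Prod.ext (Subtype.ext ?_) (Subtype.ext ?_)
        · show ⁅v, a₀⁆ = ((1 ^ k * (⟨⁅b₀, a₀⁆, hmem _ _⟩ : commutator V) ^ (-l) : commutator V) : V)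
          have e3 : ∀ (q : V) (hq : q ∈ commutator V), q = ⁅a₀, b₀⁆⁻¹ →
              (((⟨q, hq⟩ : commutator V) ^ (-l) : commutator V) : V) = ⁅a₀, b₀⁆ ^ l := fun q hq e => by
            rw [Subgroup.coe_zpow]; show q ^ (-l) = _
            rw [e, inv_zpow, zpow_neg, inv_inv]
          rw [one_zpow, one_mul, e3 _ _ (commutatorElement_inv a₀ b₀).symm]
          exact hl
        · show ⁅v, b₀⁆ = (((⟨⁅a₀, b₀⁆, hmem _ _⟩ : commutator V) ^ k * 1 ^ (-l) : commutator V) : V)
          rw [one_zpow, mul_one, Subgroup.coe_zpow]
          exact hk'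
      have h3 : v * (a₀ ^ k * b₀ ^ (-l))⁻¹ ∈ f.ker := by
        rw [MonoidHom.mem_ker, map_mul, map_inv, h2, mul_inv_cancel]
      have := mul_mem (hk h3) (mul_mem (zpow_mem ha k) (zpow_mem hb (-l)))
      rwa [inv_mul_cancel_right] at this
    have hK : Nat.card f.ker = p ^ 2 := by
      obtain ⟨j, hj⟩ := IsPGroup.iff_card.mp (hV.to_subgroup f.ker)
      rw [hj] at hK2 ⊢
      have hj2 := (Nat.pow_le_pow_iff_right hp.out.one_lt).mp hK2
      have h1 := f.ker.card_mul_index
      rw [Subgroup.index_ker, hcard, hj] at h1
      by_contra hne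
      have hj3 : 3 ≤ j := by
        by_contra hlt
        exact hne (by rw [show j = 2 by omega])
      have h2 : Nat.card f.range ≤ p := by
        have : p ^ 3 * Nat.card f.range ≤ p ^ 3 * p := by
          rw [← pow_succ]
          exact le_trans (Nat.mul_le_mul_right _ (Nat.pow_le_pow_right hp.out.pos hj3)) h1.le
        exact Nat.le_of_mul_le_mul_left this (pow_pos hp.out.pos 3)
      -- the range is too small
      have hA : f a₀ ≠ 1 := fun h => hc (congrArg Prod.snd h)
      have heq : Subgroup.zpowers (f a₀) = f.range := by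
        refine Subgroup.eq_of_le_of_card_ge (Subgroup.zpowers_le.mpr ⟨a₀, rfl⟩) (h2.trans ?_)
        have hord : orderOf (f a₀) ∣ p := by
          refine orderOf_dvd_of_pow_eq_one (Prod.ext ?_ ?_) <;>
            exact (pow_card_eq_one' (x := ((_ : commutator V)))) |> fun h => by rw [hCp] at h; exact h
        rw [Nat.card_zpowers, (hp.out.eq_one_or_self_of_dvd _ hord).resolve_left
          (mt orderOf_eq_one_iff.mp hA)]
      obtain ⟨k, hk'⟩ := Subgroup.mem_zpowers_iff.mp (heq.ge (⟨b₀, rfl⟩ : f b₀ ∈ f.range))
      have h4 := congrArg (fun q : commutator V × commutator V => (q.1 : V)) hk'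
      simp [f, commutatorElement_self] at h4
      exact hab (commutatorElement_eq_one_iff_mul_comm.mp h4.symm).symm
    have hcK : f.ker ≤ Subgroup.center V := fun w hw => Subgroup.mem_center_iff.mpr fun v => by
      obtain ⟨hwa, hwb⟩ := (hker w).mp hw
      have hle : H ≤ Subgroup.centralizer ({w} : Set V) := by
        refine sup_le (sup_le (fun u hu => ?_) (Subgroup.zpowers_le.mpr ?_)) (Subgroup.zpowers_le.mpr ?_) <;>
          refine Subgroup.mem_centralizer_singleton_iff.mpr ?_
        · exact congrArg Subtype.val (IsPGroup.commutative_of_card_eq_prime_sq hK ⟨u, hu⟩ ⟨w, hw⟩)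
        · exact hwa.eq.symm
        · exact hwb.eq.symm
      exact Subgroup.mem_centralizer_singleton_iff.mp (hle (htop v))
    obtain ⟨j, hj⟩ := IsPGroup.iff_card.mp (hV.to_subgroup (Subgroup.center V))
    have h2j : 2 ≤ j := (Nat.pow_le_pow_iff_right hp.out.one_lt).mp
      (hK ▸ hj ▸ Subgroup.card_le_of_le hcK)
    have h1 := (Subgroup.center V).card_mul_index
    rw [hj, hcard] at h1
    have hj2 : j = 2 := by
      by_contra hne
      refine hcy (Subgroup.center V) le_rfl ?_
      rw [← Subgroup.index_eq_card]
      have : p ^ 3 * (Subgroup.center V).index ≤ p ^ 3 * p := by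
        rw [← pow_succ]
        exact le_trans (Nat.mul_le_mul_right _ (Nat.pow_le_pow_right hp.out.pos (by omega))) h1.le
      exact Nat.le_of_mul_le_mul_left this (pow_pos hp.out.pos 3)
    subst hj2
    rw [show p ^ 4 = p ^ 2 * p ^ 2 by rw [← pow_add]] at h1
    exact Nat.eq_of_mul_eq_mul_left (pow_pos hp.out.pos 2) h1
  · -- two generators
    left
    have hΦi : (frattini V).index = p ^ 2 := by
      rw [show p ^ 4 = p ^ 2 * p ^ 2 by rw [← pow_add]] at hci
      exact Nat.eq_of_mul_eq_mul_left (pow_pos hp.out.pos 2) hci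
    suffices h : ∃ M : Subgroup V, M.index = p ∧ frattini V ≤ M ∧ ∀ β : MulAut V, ∀ m ∈ M, β m ∈ M by
      obtain ⟨M, hMi, hΦM, hinv⟩ := h
      refine ⟨M, SmallEssential.normal_of_inv hinv, hMi, ?_, hinv⟩
      have h1 := Subgroup.relIndex_mul_index hΦM
      rw [hMi, hΦi, pow_two] at h1
      exact Nat.eq_of_mul_eq_mul_right hp.out.pos h1
    have hΦc : ∀ u ∈ frattini V, ∀ w ∈ frattini V, Commute u w := fun u hu w hw =>
      (congrArg Subtype.val (IsPGroup.commutative_of_card_eq_prime_sq hi ⟨u, hu⟩ ⟨w, hw⟩) :)
    have hchar : ∀ β : MulAut V, ∀ x ∈ frattini V, β x ∈ frattini V := fun β x hx =>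
      ((Subgroup.characteristic_iff_map_eq.mp (inferInstance : (frattini V).Characteristic)) β).le
        ⟨x, hx, rfl⟩
    by_cases hcen : frattini V ≤ Subgroup.center V
    · -- the kernel of the power map
      have hCle : Nat.card (commutator V) ≤ p := by
        have hcl : commutator V ≤ Subgroup.center V := hcomle.trans hcen
        obtain ⟨T, T₂, hTgen⟩ : ∃ a b : V, ∀ v, v ∈ frattini V ⊔ Subgroup.zpowers a ⊔ Subgroup.zpowers b := by
          obtain ⟨a, -, ha⟩ := SetLike.exists_of_lt (lt_top_iff_ne_top.mpr (fun h : frattini V = ⊤ => by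
            rw [h, Subgroup.index_top] at hΦi
            exact absurd hΦi.symm (Nat.one_lt_pow two_ne_zero hp.out.one_lt).ne'))
          have h1 := CfsgLib.PGroups.prime_mul_card_le hV (lt_of_le_of_ne le_sup_left fun he =>
            ha (he ▸ Subgroup.mem_sup_right (Subgroup.mem_zpowers a)) :
            frattini V < frattini V ⊔ Subgroup.zpowers a)
          by_cases htop : frattini V ⊔ Subgroup.zpowers a = ⊤
          · exact ⟨a, 1, fun v => Subgroup.mem_sup_left (htop.ge (Subgroup.mem_top v))⟩
          obtain ⟨b, -, hb⟩ := SetLike.exists_of_lt (lt_top_iff_ne_top.mpr htop)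
          have h2 := CfsgLib.PGroups.prime_mul_card_le hV (lt_of_le_of_ne le_sup_left fun he =>
            hb (he ▸ Subgroup.mem_sup_right (Subgroup.mem_zpowers b)) :
            frattini V ⊔ Subgroup.zpowers a < frattini V ⊔ Subgroup.zpowers a ⊔ Subgroup.zpowers b)
          have htop' : frattini V ⊔ Subgroup.zpowers a ⊔ Subgroup.zpowers b = ⊤ := by
            refine Subgroup.eq_top_of_le_card _ ?_
            rw [hcard]
            refine le_trans ?_ ((Nat.mul_le_mul_left p h1).trans h2)
            rw [hi, ← pow_succ', ← pow_succ']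
          exact ⟨a, b, fun v => htop'.ge (Subgroup.mem_top v)⟩
        have hone : ⁅T, T₂⁆ ^ p = 1 := by
          rw [← CfsgLib.PGroups.commutatorElement_pow_left
            (hcl (Subgroup.commutator_mem_commutator (Subgroup.mem_top _) (Subgroup.mem_top _))) p,
            commutatorElement_eq_one_iff_commute.mpr
              (Subgroup.mem_center_iff.mp (hcen (CfsgLib.PGroups.pow_mem_frattini hV T)) T₂).symm]
        refine le_trans (Subgroup.card_le_of_le (H := commutator V) (K := Subgroup.zpowers ⁅T, T₂⁆) ?_)
          (by rw [Nat.card_zpowers]; exact Nat.le_of_dvd hp.out.pos (orderOf_dvd_of_pow_eq_one hone))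
        haveI : (Subgroup.zpowers ⁅T, T₂⁆).Normal := ⟨fun x hx g => by
          have hxc : x ∈ Subgroup.center V := (Subgroup.zpowers_le.mpr
            (hcl (Subgroup.commutator_mem_commutator (Subgroup.mem_top _) (Subgroup.mem_top _)))) hx
          rw [Subgroup.mem_center_iff.mp hxc g, mul_inv_cancel_right]; exact hx⟩
        set π := QuotientGroup.mk' (Subgroup.zpowers ⁅T, T₂⁆)
        have hTT : Commute (π T) (π T₂) :=
          MaxClass.mk_commutator_eq_one_iff.mpr (Subgroup.mem_zpowers _)
        have hcz : ∀ z ∈ frattini V, ∀ w, Commute (π w) (π z) := fun z hz w =>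
          Commute.map (show Commute w z from Subgroup.mem_center_iff.mp (hcen hz) w) π
        have hall : ∀ g : V, g ∈ ({T, T₂} : Set V) → ∀ w, Commute (π w) (π g) := by
          intro g hg w
          have hle : frattini V ⊔ Subgroup.zpowers T ⊔ Subgroup.zpowers T₂ ≤
              (Subgroup.centralizer ({π g} : Set _)).comap π := by
            refine sup_le (sup_le (fun z hz => ?_) (Subgroup.zpowers_le.mpr ?_)) (Subgroup.zpowers_le.mpr ?_) <;>
              refine Subgroup.mem_centralizer_singleton_iff.mpr ?_
            · exact (hcz z hz g).symm.eq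
            · rcases hg with rfl | rfl
              exacts [rfl, hTT.eq]
            · rcases hg with rfl | rfl
              exacts [hTT.symm.eq, rfl]
          exact Subgroup.mem_centralizer_singleton_iff.mp (hle (hTgen w))
        rw [commutator_def, Subgroup.commutator_le]
        intro v _ w _
        refine MaxClass.mk_commutator_eq_one_iff.mp ?_
        have hle : frattini V ⊔ Subgroup.zpowers T ⊔ Subgroup.zpowers T₂ ≤
            (Subgroup.centralizer ({π v} : Set _)).comap π := by
          refine sup_le (sup_le (fun z hz => ?_) (Subgroup.zpowers_le.mpr ?_)) (Subgroup.zpowers_le.mpr ?_) <;>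
            refine Subgroup.mem_centralizer_singleton_iff.mpr ?_
          · exact (hcz z hz v).symm.eq
          · exact (hall T (Or.inl rfl) v).symm.eq
          · exact (hall T₂ (Or.inr rfl) v).symm.eq
        exact (Subgroup.mem_centralizer_singleton_iff.mp (hle (hTgen w))).symm
      have hCp : Nat.card (commutator V) = p := card_eq_prime_of_le hV hnab hCle
      let f : V →* Abelianization V := (powMonoidHom p).comp Abelianization.of
      have hf : ∀ v, v ∈ f.ker ↔ v ^ p ∈ commutator V := fun v => by
        rw [MonoidHom.mem_ker]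
        show Abelianization.of v ^ p = 1 ↔ _
        rw [← map_pow]
        exact QuotientGroup.eq_one_iff _
      have hKp : Nat.card ((frattini V).map (Abelianization.of : V →* Abelianization V)) = p := by
        have h1 : Nat.card ((frattini V).map (Abelianization.of : V →* Abelianization V)) * p = p ^ 2 := by
          rw [← hi]
          have hk : (Abelianization.of : V →* Abelianization V).ker = commutator V := QuotientGroup.ker_mk' _
          rw [← Subgroup.relIndex_ker, hk]
          have h2 := Subgroup.relIndex_mul_relIndex ⊥ (commutator V) (frattini V) bot_le hcomle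
          rw [Subgroup.relIndex_bot_left, Subgroup.relIndex_bot_left, hCp, mul_comm] at h2
          exact h2
        rw [pow_two] at h1
        exact Nat.eq_of_mul_eq_mul_right hp.out.pos h1
      refine ⟨f.ker, index_eq_prime_of_range f hKp ?_ ?_, ?_, fun β m hm => ?_⟩
      · rintro _ ⟨v, rfl⟩
        exact ⟨v ^ p, CfsgLib.PGroups.pow_mem_frattini hV v, map_pow _ _ _⟩
      · intro hb
        have hle : frattini V ≤ commutator V := CfsgLib.PGroups.frattini_le_of (p := p) le_rfl fun v => by
          refine (hf v).mp (MonoidHom.mem_ker.mpr ?_)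
          exact Subgroup.mem_bot.mp (hb ▸ ⟨v, rfl⟩)
        have h3 := Subgroup.card_le_of_le hle
        rw [hi, hCp, pow_two] at h3
        nlinarith [hp.out.two_le]
      · refine CfsgLib.PGroups.frattini_le_of (p := p) (fun x hx => ?_) fun v => ?_
        · exact (hf x).mpr (pow_mem hx p)
        · rw [hf]
          have hmem : Abelianization.of (v ^ p) ∈
              (frattini V).map (Abelianization.of : V →* Abelianization V) :=
            ⟨_, CfsgLib.PGroups.pow_mem_frattini hV v, rfl⟩
          have h4 := pow_card_eq_one' (x := (⟨_, hmem⟩ : (frattini V).map (Abelianization.of : V →* Abelianization V)))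
          rw [hKp] at h4
          exact (QuotientGroup.eq_one_iff _).mp ((map_pow _ _ _).trans (congrArg Subtype.val h4))
      · rw [hf] at hm ⊢
        rw [← map_pow]
        exact ((Subgroup.characteristic_iff_map_eq.mp (inferInstance : (commutator V).Characteristic)) β).le
          ⟨_, hm, rfl⟩
    · -- the centralizer of the Frattini subgroup
      obtain ⟨u, hu, huc⟩ := SetLike.not_le_iff_exists.mp hcen
      set A := frattini V ⊓ Subgroup.center V
      have hA1 : A ≠ ⊥ := by
        intro hA
        have hne : (frattini V).map (MonoidHom.id V) ≠ ⊥ := by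
          rw [Subgroup.map_id]
          intro h
          rw [h] at hu
          exact huc (Subgroup.mem_bot.mp hu ▸ one_mem _)
        haveI : ((frattini V).map (MonoidHom.id V)).Normal := by rw [Subgroup.map_id]; infer_instance
        obtain ⟨c, hc, hc1⟩ := CfsgLib.Transfer.exists_mem_inf_center_ne_one hV hne
        rw [Subgroup.map_id] at hc
        replace hc : c ∈ A := hc
        rw [hA, Subgroup.mem_bot] at hc
        exact hc1 hc
      have hAlt : A < frattini V := lt_of_le_of_ne inf_le_left fun h => huc ((h.ge hu).2)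
      have hAp : Nat.card A = p := card_eq_prime_of_le hV hA1 (by
        have h1 := CfsgLib.PGroups.prime_mul_card_le hV hAlt
        rw [hi, pow_two] at h1
        exact Nat.le_of_mul_le_mul_left h1 hp.out.pos)
      have hval : ∀ v, ⁅v, u⁆ ∈ A := fun v => by
        obtain ⟨r, hr⟩ := hV v
        haveI : A.Normal := ⟨fun x hx g => by
          rw [Subgroup.mem_center_iff.mp hx.2 g, mul_inv_cancel_right]; exact hx⟩
        have h1 := MaxClass.trivial_mod hV (L := frattini V) inf_le_left (by rw [hi, hAp, pow_two])
          (a := MulAut.conj v) (fun x hx => (inferInstance : A.Normal).conj_mem x hx v)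
          (fun x hx => (inferInstance : (frattini V).Normal).conj_mem x hx v)
          (by rw [← map_pow, hr, map_one]) hu
        have h2 := (inferInstance : A.Normal).conj_mem _ h1 u
        rw [commutatorElement_def]
        simpa [MulAut.conj_apply, mul_assoc] using h2
      let f : V →* V :=
        { toFun := fun v => ⁅v, u⁆
          map_one' := commutatorElement_one_left _
          map_mul' := fun v w => CfsgLib.PGroups.commutatorElement_mul_left (hval w).2 }
      have hker : ∀ v, v ∈ f.ker ↔ ∀ w ∈ frattini V, Commute v w := by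
        intro v
        constructor
        · intro hv w hw
          have hvu : Commute v u := commutatorElement_eq_one_iff_commute.mp hv
          have hsup : A ⊔ Subgroup.zpowers u = frattini V := by
            refine Subgroup.eq_of_le_of_card_ge (sup_le inf_le_left (Subgroup.zpowers_le.mpr hu)) ?_
            rw [hi, pow_two]
            exact le_trans (Nat.mul_le_mul_left p hAp.ge) (CfsgLib.PGroups.prime_mul_card_le hV
              (lt_of_le_of_ne le_sup_left fun he => huc
                ((he.ge (Subgroup.mem_sup_right (Subgroup.mem_zpowers u))).2)))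
          have hle : A ⊔ Subgroup.zpowers u ≤ Subgroup.centralizer ({v} : Set V) :=
            sup_le (fun x hx => Subgroup.mem_centralizer_singleton_iff.mpr
              (Subgroup.mem_center_iff.mp hx.2 v).symm)
              (Subgroup.zpowers_le.mpr (Subgroup.mem_centralizer_singleton_iff.mpr hvu.eq.symm))
          exact (Subgroup.mem_centralizer_singleton_iff.mp (hle (hsup.ge hw))).symm
        · exact fun h => commutatorElement_eq_one_iff_commute.mpr (h u hu)
      refine ⟨f.ker, index_eq_prime_of_range f hAp ?_ ?_, fun x hx => ?_, fun β m hm => ?_⟩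
      · rintro _ ⟨v, rfl⟩
        exact hval v
      · intro hb
        exact huc (Subgroup.mem_center_iff.mpr fun v => (commutatorElement_eq_one_iff_mul_comm.mp
          (Subgroup.mem_bot.mp (hb ▸ ⟨v, rfl⟩ : f v ∈ (⊥ : Subgroup V)))))
      · exact (hker x).mpr fun w hw => hΦc x hx w hw
      · rw [hker] at hm ⊢
        intro w hw
        have := (hm _ (hchar β⁻¹ w hw)).map β.toMonoidHom
        simpa using this

end CfsgLib.OrderDegrees.FusFifth
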