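import Cfsg.Agent.Lib.OrderDegrees.FusFifth.Basic

/-!
The exceptional group shape of order `p ^ 5` without abelian subgroup of index `p`.
-/

set_option autoImplicit false

open scoped commutatorElement

namespace CfsgLib.OrderDegrees.FusFifth

/-- Generators `x e d` with `⁅x, e⁆` of order `p` centralised by `x, d`, and `⁅x, d⁆` central. -/
structure TBData (p : ℕ) {G : Type*} [Group G] (x e d : G) : Prop where
  c_ne : ⁅x, d⁆ ≠ 1
  c_central : ∀ g, Commute ⁅x, d⁆ g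
  c_pow : ⁅x, d⁆ ^ p = 1
  ed : Commute e d
  nd : Commute ⁅x, e⁆ d
  nx : Commute ⁅x, e⁆ x
  ne_mem : ⁅⁅x, e⁆, e⁆ ∈ Subgroup.zpowers ⁅x, d⁆
  ne_ne : ⁅⁅x, e⁆, e⁆ ≠ 1
  ep : e ^ p ∈ Subgroup.zpowers ⁅x, d⁆
  dp : d ^ p ∈ Subgroup.zpowers ⁅x, d⁆

/-- The exceptional shape. -/
def TypeB (p : ℕ) (G : Type*) [Group G] : Prop := ∃ x e d : G, TBData p x e d

end CfsgLib.OrderDegrees.FusFifth
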