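import Cfsg.Agent.Lib.OrderDegrees.FusFifth.Quot
import Cfsg.Agent.Lib.OrderDegrees.FusFifth.LargeGroup
import Cfsg.Agent.Lib.OrderDegrees.FusFifth.TypeB

/-!
Essential subgroups of index `p` of a group of order `p ^ 5` without abelian subgroup of index `p`.
-/

set_option autoImplicit false
set_option linter.style.haveILetI false
set_option linter.unusedSectionVars false

open scoped commutatorElement

namespace CfsgLib.OrderDegrees.FusFifth

open Cfsg Cfsg.FusionSystem CfsgLib.Alperin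

variable {p : ℕ} [hp : Fact p.Prime] {Ω : Type*} [Group Ω] {S : Subgroup Ω} [Finite S]
  {F : FusionSystem S}

theorem natCast_dvd_two (hp2 : p ≠ 2) : ¬ (p : ℤ) ∣ 2 := fun h =>
  hp2 ((Nat.prime_dvd_prime_iff_eq hp.out Nat.prime_two).mp (Int.natCast_dvd_natCast.mp h))

/-- An essential subgroup of order `p ^ 4` only occurs for `p = 3`, in the exceptional shape. -/
theorem large_cases (hS : IsPGroup p S) (hF : F.IsSaturated p) (hp2 : p ≠ 2)
    (hcardS : Nat.card S = p ^ 5) (hab : NoAb p S) {E₀ : Subgroup S} (hcard : Nat.card E₀ = p ^ 4)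
    (hE : F.IsEssential p (E₀.map S.subtype)) : p = 3 ∧ TypeB p S := by
  set E := E₀.map S.subtype with hEd
  have hEle : E ≤ S := Subgroup.map_subtype_le E₀
  haveI := finite_of_le hEle
  haveI := finite_autGroup F hEle
  have hVc : Nat.card E = p ^ 4 := by rw [hEd, Subgroup.card_subtype, hcard]
  have hV : IsPGroup p E := IsPGroup.of_card hVc
  haveI hEn : E₀.Normal := by
    haveI := hS.isNilpotent
    have hlt : E₀ < Subgroup.normalizer (E₀ : Set S) :=
      Group.normalizerCondition_of_isNilpotent (G := S) E₀ (lt_top_iff_ne_top.mpr fun h => by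
        rw [h, Subgroup.card_top, hcardS] at hcard
        exact absurd (Nat.pow_right_injective hp.out.two_le hcard) (by omega))
    refine Subgroup.normalizer_eq_top_iff.mp (Subgroup.eq_top_of_le_card _ ?_)
    have h1 := CfsgLib.PGroups.prime_mul_card_le hS hlt
    rwa [hcard, ← pow_succ', ← hcardS] at h1
  obtain ⟨g, -, hgE⟩ := SetLike.exists_of_lt (lt_top_iff_ne_top.mpr (fun h : E₀ = ⊤ => by
    rw [h, Subgroup.card_top, hcardS] at hcard
    exact absurd (Nat.pow_right_injective hp.out.two_le hcard) (by omega)))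
  have hgN : (g : Ω) ∈ Subgroup.normalizer (E : Set Ω) :=
    (mem_normalizer_map_iff g).mpr (by rw [Subgroup.normalizer_eq_top E₀]; exact Subgroup.mem_top g)
  set t := conjAut E g hgN with ht
  have htX : t ∈ F.autGroup E := autInducedBy_le_autGroup F hEle (conjAut_mem g.2 hgN)
  obtain ⟨rt, hrt⟩ := CfsgLib.FusionModels.Pearl.exists_pow_conjAut hS g.2 hgN
  set ι := Subgroup.inclusion hEle with hι
  have hιE : ∀ v : E, ι v ∈ E₀ := fun v => by
    obtain ⟨x, hx, hxv⟩ := v.2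
    exact (Subtype.ext hxv : x = ι v) ▸ hx
  have hιinj : Function.Injective ι := Subgroup.inclusion_injective hEle
  have hιt : ∀ v : E, ι (t v) = g * ι v * g⁻¹ := fun v => Subtype.ext rfl
  have hcom : ∀ v : E, ⁅g, ι v⁆ = ι (t v * v⁻¹) := fun v => by
    rw [map_mul, map_inv, hιt, commutatorElement_def]
  have hna : ∃ a b : E, a * b ≠ b * a := by
    by_contra! hall
    refine hab E₀ hcard.ge fun x hx y hy => ?_
    exact Subtype.ext (congrArg Subtype.val (hall ⟨_, x, hx, rfl⟩ ⟨_, y, hy, rfl⟩) :)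
  rcases fourth_cases hVc hna with ⟨M, hMn, hMi, hΦM, hMinv⟩ | ⟨hΦc, hZi, hΦZ⟩
  · haveI := hMn
    exact (CfsgLib.FusionModels.Pearl.false_of_invariant_maximal hS hF hE M hMi (Or.inl hΦM)
      fun β _ => hMinv β).elim
  set Z := Subgroup.center E
  set Φ := frattini E
  have hZc : Nat.card Z = p ^ 2 := by
    have h1 := Z.card_mul_index
    rw [hZi, hVc, show p ^ 4 = p ^ 2 * p ^ 2 by rw [← pow_add]] at h1
    exact Nat.eq_of_mul_eq_mul_right (pow_pos hp.out.pos 2) h1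
  have hΦch : ∀ β : MulAut E, ∀ x ∈ Φ, β x ∈ Φ := fun β x hx =>
    ((Subgroup.characteristic_iff_map_eq.mp (inferInstance : Φ.Characteristic)) β).le ⟨x, hx, rfl⟩
  have hZch : ∀ β : MulAut E, ∀ x ∈ Z, β x ∈ Z := fun β x hx =>
    ((Subgroup.characteristic_iff_map_eq.mp (inferInstance : Z.Characteristic)) β).le ⟨x, hx, rfl⟩
  have hinn : ∀ α ∈ F.autGroup E, (∀ v : E, v⁻¹ * α v ∈ Z) → (∀ v ∈ Z, v⁻¹ * α v ∈ Φ) → α ∈ Inn E :=
    fun α hα h1 h2 => CfsgLib.FusionModels.Pearl.mem_inn_of_stabilize hS hE Z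
      (fun β _ => hZch β) hα h1 h2
  have hZΦ : ∀ (α : MulAut E) (r : ℕ), α ^ p ^ r = 1 → ∀ v ∈ Z, v⁻¹ * α v ∈ Φ := fun α r hr v hv =>
    CfsgLib.FusionExamples.MaxClass.trivial_mod hV hΦZ (by rw [hZc, hΦc, pow_two]) (hΦch α) (hZch α)
      hr hv
  have hΦfix : ∀ (α : MulAut E) (r : ℕ), α ^ p ^ r = 1 → ∀ v ∈ Φ, α v = v := fun α r hr v hv => by
    have h1 := CfsgLib.FusionExamples.MaxClass.trivial_mod hV (K := (⊥ : Subgroup E)) bot_le
      (by simp [hΦc, Φ]) (fun y hy => by rw [Subgroup.mem_bot.mp hy, map_one]; exact one_mem _)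
      (hΦch α) hr hv
    rw [Subgroup.mem_bot, inv_mul_eq_one] at h1
    exact h1.symm
  have hΦp : ∀ v ∈ Φ, v ^ p = 1 := fun v hv =>
    orderOf_dvd_iff_pow_eq_one.mp (hΦc ▸ Subgroup.orderOf_dvd_natCard _ hv)
  have hpow : ∀ v : E, v ^ p ∈ Φ := fun v => CfsgLib.PGroups.pow_mem_frattini hV v
  have hcomΦ : ∀ v w : E, ⁅v, w⁆ ∈ Φ := fun v w =>
    CfsgLib.PGroups.commutator_le_frattini hV
      (Subgroup.commutator_mem_commutator (Subgroup.mem_top v) (Subgroup.mem_top w))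
  have htinn : t ∉ Inn E := fun h => hgE (by
    have h1 := CfsgLib.FusionModels.Pearl.mem_of_mem_inn hE g.2 hgN h
    obtain ⟨x, hx, hxg⟩ := h1
    exact (Subtype.ext hxg : x = g) ▸ hx)
  have hnt : ∃ x : E, x⁻¹ * t x ∉ Z := by
    by_contra! hall
    exact htinn (hinn t htX hall (hZΦ t rt hrt))
  -- no invariant maximal subgroup above the centre
  have hmove : ∀ L : Subgroup E, Z ≤ L → L.index = p → ∃ α ∈ F.autGroup E, ∃ x ∈ L, α x ∉ L := by
    intro L hZL hLi
    by_contra! hL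
    set qΦ := QuotientGroup.mk' Φ
    haveI hLn : L.Normal := ⟨fun x hx v => by
      have h := L.mul_mem (hZL (hΦZ (hcomΦ v x))) hx
      rwa [commutatorElement_def, inv_mul_cancel_right] at h⟩
    let K : Subgroup (F.autGroup E) :=
      { carrier := {β | (∀ v, v⁻¹ * (β : MulAut E) v ∈ L) ∧ (∀ v ∈ L, v⁻¹ * (β : MulAut E) v ∈ Z) ∧
          ∀ v ∈ Z, v⁻¹ * (β : MulAut E) v ∈ Φ}
        one_mem' := ⟨fun v => by simp, fun v _ => by simp, fun v _ => by simp⟩
        mul_mem' := by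
          rintro a b ⟨a1, a2, a3⟩ ⟨b1, b2, b3⟩
          refine ⟨fun v => ?_, fun v hv => ?_, fun v hv => ?_⟩
          · have := L.mul_mem (b1 v) (a1 ((b : MulAut E) v))
            simpa [mul_assoc] using this
          · have := Z.mul_mem (b2 v hv) (a2 _ (hL _ b.2 v hv))
            simpa [mul_assoc] using this
          · have := Φ.mul_mem (b3 v hv) (a3 _ (hZch (b : MulAut E) v hv))
            simpa [mul_assoc] using this
        inv_mem' := by
          rintro a ⟨a1, a2, a3⟩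
          refine ⟨fun v => ?_, fun v hv => ?_, fun v hv => ?_⟩
          · simpa using L.inv_mem (a1 ((a : MulAut E)⁻¹ v))
          · simpa using Z.inv_mem (a2 _ (hL _ (a⁻¹).2 v hv))
          · simpa using Φ.inv_mem (a3 _ (hZch (a : MulAut E)⁻¹ v hv)) }
    have hKn : K.Normal := ⟨fun β hβ γ => ⟨fun v => by
        have := hL _ γ.2 _ (hβ.1 ((γ : MulAut E)⁻¹ v))
        simpa [map_mul, map_inv] using this,
      fun v hv => by
        have := hZch (γ : MulAut E) _ (hβ.2.1 _ (hL _ (γ⁻¹).2 v hv))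
        simpa [map_mul, map_inv] using this,
      fun v hv => by
        have := hΦch (γ : MulAut E) _ (hβ.2.2 _ (hZch (γ : MulAut E)⁻¹ v hv))
        simpa [map_mul, map_inv] using this⟩⟩
    have hKp : IsPGroup p K := by
      rintro ⟨β, hβ⟩
      set b : MulAut E := (β : MulAut E) with hb
      have hit : ∀ (n : ℕ) (v : E), ∃ w ∈ Z, (b ^ n) v = v * (v⁻¹ * b v) ^ n * w := by
        intro n
        induction n with
        | zero => exact fun v => ⟨1, one_mem _, by simp⟩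
        | succ n ih =>
          intro v
          obtain ⟨w, hw, he⟩ := ih v
          set d := v⁻¹ * b v with hd
          have hdn : (d ^ n)⁻¹ * b (d ^ n) ∈ Z := hβ.2.1 _ (L.pow_mem (hβ.1 v) n)
          refine ⟨(d ^ n)⁻¹ * b (d ^ n) * b w, Z.mul_mem hdn (hZch b w hw), ?_⟩
          rw [pow_succ' b, MulAut.mul_apply, he, map_mul, map_mul,
            show b v = v * d from (mul_inv_cancel_left _ _).symm, pow_succ' d]
          simp only [mul_assoc, mul_inv_cancel_left]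
      have hbp : b ^ p ∈ Inn E := by
        refine hinn _ (pow_mem β.2 p) (fun v => ?_) fun v hv => ?_
        · obtain ⟨w, hw, he⟩ := hit p v
          rw [he, mul_assoc, inv_mul_cancel_left]
          exact Z.mul_mem (hΦZ (hpow _)) hw
        · exact ((K.pow_mem hβ p).2.2 v hv)
      obtain ⟨e, he⟩ := hbp
      obtain ⟨r, hr⟩ := hV e
      exact ⟨1 + r, Subtype.ext (Subtype.ext (by
        show b ^ p ^ (1 + r) = 1
        rw [pow_add, pow_one, pow_mul, ← he, ← map_pow, hr, map_one]))⟩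
    have hmem : (⟨t, htX⟩ : F.autGroup E) ∈ K := by
      refine ⟨fun v => ?_, fun v hv => ?_, hZΦ t rt hrt⟩
      · exact CfsgLib.FusionExamples.MaxClass.trivial_mod hV (L := ⊤) le_top
          (by rw [Subgroup.card_top, ← L.card_mul_index, hLi, mul_comm]) (hL t htX)
          (fun x _ => Subgroup.mem_top _) hrt (Subgroup.mem_top v)
      · refine CfsgLib.FusionExamples.MaxClass.trivial_mod hV hZL ?_ (hZch t) (hL t htX) hrt hv
        have h1 := L.card_mul_index
        rw [hLi, hVc, show p ^ 4 = p * p ^ 2 * p by ring] at h1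
        rw [hZc, Nat.eq_of_mul_eq_mul_right hp.out.pos h1]
    refine htinn ((isRadical_of_essential hS hE).2 ▸ ⟨⟨t, htX⟩, ?_, rfl⟩)
    exact (le_sSup ⟨hKn, hKp⟩ : K ≤ pCore p (F.autGroup E)) hmem
  -- properties of the torus elements
  let H₀ : Subgroup (MulAut E) :=
    { carrier := {β | (∀ v ∈ Z, v⁻¹ * β v ∈ Φ) ∧ (∀ v ∈ Φ, β v = v) ∧ β ∈ F.autGroup E}
      one_mem' := ⟨fun v _ => by simp, fun v _ => rfl, one_mem _⟩
      mul_mem' := by
        rintro a b ⟨a1, a2, a3⟩ ⟨b1, b2, b3⟩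
        refine ⟨fun v hv => ?_, fun v hv => by rw [MulAut.mul_apply, b2 v hv, a2 v hv], mul_mem a3 b3⟩
        have := Φ.mul_mem (b1 v hv) (a1 _ (hZch b v hv))
        simpa [mul_assoc] using this
      inv_mem' := by
        rintro a ⟨a1, a2, a3⟩
        refine ⟨fun v hv => by simpa using Φ.inv_mem (a1 _ (hZch a⁻¹ v hv)), fun v hv => ?_,
          inv_mem a3⟩
        nth_rw 1 [← a2 v hv]
        exact MulAut.inv_apply_self _ _ _ }
  have hH₀ : Subgroup.closure {β : MulAut E | β ∈ F.autGroup E ∧ ∃ k, β ^ p ^ k = 1} ≤ H₀ :=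
    (Subgroup.closure_le _).mpr fun β ⟨hβ, k, hk⟩ => ⟨hZΦ β k hk, hΦfix β k hk, hβ⟩
  set qZ := QuotientGroup.mk' Z
  have hqZ : ∀ x y : E, x⁻¹ * y ∈ Z ↔ qZ x = qZ y := fun x y => QuotientGroup.eq.symm
  set qΦ := QuotientGroup.mk' Φ
  have hqΦ : ∀ x y : E, x⁻¹ * y ∈ Φ ↔ qΦ x = qΦ y := fun x y => QuotientGroup.eq.symm
  -- comparison of `T t` with `t ^ n T`
  have hδ : ∀ T ∈ H₀, ∀ n : ℕ, (∀ x : E, (T (t x))⁻¹ * (t ^ n) (T x) ∈ Z) →
      (T * t)⁻¹ * (t ^ n * T) ∈ Inn E := by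
    intro T hT n hTn
    have htn : t ^ n ∈ H₀ := pow_mem (hH₀ (Subgroup.subset_closure ⟨htX, rt, hrt⟩)) n
    have htH : t ∈ H₀ := hH₀ (Subgroup.subset_closure ⟨htX, rt, hrt⟩)
    refine hinn _ (mul_mem (inv_mem (mul_mem hT.2.2 htX)) (mul_mem htn.2.2 hT.2.2)) (fun v => ?_)
      (mul_mem (inv_mem (mul_mem hT htH)) (mul_mem htn hT)).1
    have h1 := hZch (T * t)⁻¹ _ (hTn v)
    rw [map_mul, map_inv, ← MulAut.mul_apply _ T t, MulAut.inv_apply_self] at h1
    exact h1
  -- the centre of `E` is not central in `S`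
  obtain ⟨d, hd, hdΦ⟩ := SetLike.exists_of_lt (lt_of_le_of_ne hΦZ fun h => by
    have h2 : Nat.card Φ = Nat.card Z := by rw [h]
    rw [hΦc, hZc, pow_two] at h2
    nlinarith [hp.out.two_le])
  set c := ⁅g, ι d⁆ with hcd
  have hcne : c ≠ 1 → ∀ u ∈ Φ, ι u ∈ Subgroup.zpowers c := by
    intro hc u hu
    have h1 : (t d * d⁻¹ : E) ∈ Φ := by
      rw [Subgroup.mem_center_iff.mp (Z.inv_mem hd) (t d) ]
      exact hZΦ t rt hrt d hd
    obtain ⟨k, hk⟩ := mem_zpowers_of_prime_card hΦc (g := (⟨_, h1⟩ : Φ)) (g' := ⟨u, hu⟩) (fun h => hc (by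
      rw [hcd, hcom, show t d * d⁻¹ = 1 from congrArg Subtype.val h, map_one]))
    refine ⟨k, ?_⟩
    show c ^ k = ι u
    rw [hcd, hcom, ← map_zpow]
    exact congrArg ι (congrArg Subtype.val hk)
  -- the eigenspace of the central involution
  have hpm : 1 ≤ p := hp.out.pos
  obtain ⟨T, hT, z, c', hzZ, htz, htc', hgen, -, hTz, hTc', hTt⟩ :=
    exists_torus_quot (F := F) hS hEle (M := Z) hZi (fun x => hΦZ (hpow x))
      (fun x y => hΦZ (hcomΦ x y)) g.2 hgN hnt hmove (l := p - 1) (m := p - 1)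
      ⟨(p : ℤ) - 2, by push_cast [Nat.cast_sub hpm]; ring⟩
  have hTH := hH₀ hT
  have hqT : ∀ v : E, qZ (T v) = (qZ v)⁻¹ := by
    intro v
    have hexp : ∀ x : E, qZ x ^ p = 1 := fun x => by
      rw [← map_pow]; exact (QuotientGroup.eq_one_iff _).mpr (hΦZ (hpow x))
    have hneg : ∀ x : E, qZ (x ^ (p - 1)) = (qZ x)⁻¹ := fun x => by
      refine eq_inv_of_mul_eq_one_left ?_
      rw [map_pow, ← pow_succ, Nat.sub_add_cancel hpm, hexp]
    have h1 : qZ (T z) = (qZ z)⁻¹ := ((hqZ _ _).mp hTz).trans (hneg z)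
    have h2 : qZ (T c') = (qZ c')⁻¹ := ((hqZ _ _).mp hTc').trans (hneg c')
    obtain ⟨i, j, hij⟩ := hgen v
    have h3 : qZ v = qZ z ^ i * qZ c' ^ j := by
      rw [← map_zpow, ← map_zpow, ← map_mul]; exact ((hqZ _ _).mp hij).symm
    have h4 : qZ (T v) = qZ (T (z ^ i * c' ^ j)) := by
      refine ((hqZ _ _).mp ?_).symm
      rw [← map_inv, ← map_mul]
      exact hZch T _ hij
    have hcc : Commute (qZ z) (qZ c') := by
      refine CfsgLib.FusionExamples.MaxClass.mk_commutator_eq_one_iff.mpr (hΦZ (hcomΦ _ _))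
    rw [h4, map_mul, map_zpow, map_zpow, map_mul, map_zpow, map_zpow, h1, h2, h3, mul_inv_rev,
      inv_zpow, inv_zpow, ((hcc.zpow_zpow i j).inv_inv).eq]
  have hcomm : ∀ x y : E, qΦ x * qΦ y = qΦ y * qΦ x := fun x y =>
    (CfsgLib.FusionExamples.MaxClass.mk_commutator_eq_one_iff.mpr (hcomΦ x y)).eq
  let W : Subgroup E :=
    { carrier := {v | qΦ (T v) = (qΦ v)⁻¹}
      one_mem' := by simp
      mul_mem' := fun {a b} ha hb => by
        show qΦ (T (a * b)) = (qΦ (a * b))⁻¹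
        rw [map_mul, map_mul, ha, hb, map_mul, mul_inv_rev, ← mul_inv_rev, ← mul_inv_rev, hcomm]
      inv_mem' := fun {a} ha => by
        show qΦ (T a⁻¹) = (qΦ a⁻¹)⁻¹
        rw [map_inv, map_inv, ha, map_inv] }
  have hWZ : ∀ v ∈ W, v ∈ Z → v ∈ Φ := by
    intro v hvW hvZ
    have h1 : qΦ (T v) = qΦ v := ((hqΦ _ _).mp (hTH.1 v hvZ)).symm
    rw [show qΦ (T v) = (qΦ v)⁻¹ from hvW, eq_comm, eq_inv_iff_mul_eq_one, ← map_mul] at h1
    have h2 : v ^ 2 ∈ Φ := by rw [pow_two]; exact (QuotientGroup.eq_one_iff _).mp h1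
    obtain ⟨q, hq⟩ : ∃ q, p = 2 * q + 1 := hp.out.odd_of_ne_two hp2
    have h3 := Φ.mul_mem (Φ.inv_mem (Φ.pow_mem h2 q)) (hpow v)
    rwa [← pow_mul, hq, pow_succ, inv_mul_cancel_left] at h3
  have hWsurj : ∀ v : E, ∃ w ∈ W, v⁻¹ * w ∈ Z := by
    intro v
    obtain ⟨u, hu⟩ : ∃ u, u = T v * v := ⟨_, rfl⟩
    have huZ : u ∈ Z := by
      have h1 := hqT v
      rw [eq_inv_iff_mul_eq_one, ← map_mul, ← hu] at h1
      exact (QuotientGroup.eq_one_iff _).mp h1
    set s := (p - 1) / 2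
    have hodd := Nat.odd_iff.mp (hp.out.odd_of_ne_two hp2)
    refine ⟨v * u ^ s, ?_, by rw [inv_mul_cancel_left]; exact Z.pow_mem huZ s⟩
    show qΦ (T (v * u ^ s)) = (qΦ (v * u ^ s))⁻¹
    have h1 : qΦ (T u) = qΦ u := ((hqΦ _ _).mp (hTH.1 u huZ)).symm
    have h2 : qΦ u ^ (2 * s + 1) = 1 := by
      rw [show 2 * s + 1 = p by omega, ← map_pow]; exact (QuotientGroup.eq_one_iff _).mpr (hpow u)
    have h3 : qΦ (T v) = qΦ u * (qΦ v)⁻¹ := by rw [hu, map_mul, mul_inv_cancel_right]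
    have h4 : qΦ u ^ (s + 1) = (qΦ u ^ s)⁻¹ := by
      rw [eq_inv_iff_mul_eq_one, ← pow_add, show s + 1 + s = 2 * s + 1 by omega]; exact h2
    rw [map_mul, map_pow, map_mul, map_pow, h1, h3, map_mul, map_pow, mul_inv_rev, ← h4,
      mul_assoc, show (qΦ v)⁻¹ * qΦ u ^ s = qΦ u ^ s * (qΦ v)⁻¹ from
        (show Commute (qΦ v) (qΦ u ^ s) from Commute.pow_right (hcomm v u) s).inv_left.eq,
      ← mul_assoc, ← pow_succ']
  have htp : t ^ p ∈ Inn E := by
    have hidx : E₀.index = p := by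
      have h1 := E₀.card_mul_index
      rw [hcard, hcardS, pow_succ] at h1
      exact Nat.eq_of_mul_eq_mul_left (pow_pos hp.out.pos 4) h1
    have hgp : g ^ p ∈ E₀ := hidx ▸ Subgroup.pow_index_mem E₀ g
    refine ⟨⟨_, g ^ p, hgp, rfl⟩, MulEquiv.ext fun x => Subtype.ext ?_⟩
    have hit : ∀ (m : ℕ) (y : E), (((t ^ m) y : E) : Ω) = (g : Ω) ^ m * y * ((g : Ω) ^ m)⁻¹ := by
      intro m
      induction m with
      | zero => simp
      | succ m ih => intro y; rw [pow_succ, MulAut.mul_apply, ih, ht, conjAut_apply, pow_succ]; group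
    rw [hit, MulAut.conj_apply]
    simp
  have hinnΦ : ∀ a ∈ Inn E, ∀ v : E, qΦ (a v) = qΦ v := by
    rintro _ ⟨e, rfl⟩ v
    rw [MulAut.conj_apply, map_mul, map_mul, map_inv, hcomm, mul_inv_cancel_right]
  have htW : ∀ v ∈ W, t v ∈ W := by
    intro v hv
    have hI := hδ T hTH ((p - 1) * (p - 1)) hTt
    have hpc : t ^ ((p - 1) * (p - 1)) * t⁻¹ ∈ Inn E := by
      obtain ⟨k, hk⟩ : ∃ k, (p - 1) * (p - 1) = p * k + 1 := by
        refine ⟨p - 2, ?_⟩
        obtain ⟨n, rfl⟩ : ∃ n, p = n + 2 := ⟨p - 2, by have := hp.out.two_le; omega⟩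
        simp; ring
      rw [hk, pow_succ, mul_inv_cancel_right, pow_mul]
      exact pow_mem htp k
    have h1 : qΦ (T (t v)) = qΦ (t (T v)) := by
      have h2 := hinnΦ _ hI v
      have h3 : qΦ ((t ^ ((p - 1) * (p - 1))) (T v)) = qΦ (T (t v)) := by
        have h4 : (T * t) (((T * t)⁻¹ * (t ^ ((p - 1) * (p - 1)) * T)) v) =
            (t ^ ((p - 1) * (p - 1))) (T v) := by
          rw [← MulAut.mul_apply, mul_inv_cancel_left]; rfl
        rw [← h4]
        refine ((hqΦ _ _).mp ?_)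
        rw [← MulAut.mul_apply _ T t v, ← map_inv, ← map_mul]
        exact hΦch _ _ ((hqΦ _ _).mpr h2)
      rw [← h3]
      have h5 := hinnΦ _ hpc (t (T v))
      rwa [MulAut.mul_apply, MulAut.inv_apply_self] at h5
    show qΦ (T (t v)) = (qΦ (t v))⁻¹
    rw [h1, ← map_inv qΦ, ← map_inv t]
    refine (hqΦ _ _).mp ?_
    rw [← map_inv t, ← map_mul]
    exact hΦch t _ ((hqΦ _ _).mpr (by rw [map_inv qΦ]; exact hv))
  obtain ⟨e, heW, hec⟩ := hWsurj c'
  set n := t e * e⁻¹ with hn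
  have hnW : n ∈ W := W.mul_mem (htW e heW) (W.inv_mem heW)
  have hqn : qZ n = qZ z := by
    have h2 : qZ (t c') = qZ c' * qZ z := by rw [← map_mul]; exact (hqZ _ _).mp htc'
    have h3 : qZ (t e) = qZ (t c') := by
      refine ((hqZ _ _).mp ?_).symm
      rw [← map_inv, ← map_mul]
      exact hZch t _ hec
    rw [hn, map_mul, h3, h2, map_inv, ← (hqZ _ _).mp hec]
    rw [(show Commute (qZ c') (qZ z) from
      CfsgLib.FusionExamples.MaxClass.mk_commutator_eq_one_iff.mpr (hΦZ (hcomΦ _ _))).eq,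
      mul_inv_cancel_right]
  have hgn : ⁅g, ι n⁆ = ι (t n * n⁻¹) := hcom n
  have hgnΦ : t n * n⁻¹ ∈ Φ := by
    refine hWZ _ (W.mul_mem (htW n hnW) (W.inv_mem hnW)) ?_
    rw [← QuotientGroup.eq_one_iff]
    show qZ (t n * n⁻¹) = 1
    have h1 : qZ (t n) = qZ n := by
      have h2 : qZ (t z) = qZ z := (hqZ _ _).mp htz
      have h3 : qZ (t n) = qZ (t z) := by
        refine ((hqZ _ _).mp ?_).symm
        rw [← map_inv, ← map_mul]
        exact hZch t _ ((hqZ _ _).mpr hqn.symm)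
      rw [h3, h2, hqn]
    rw [map_mul, map_inv, h1, mul_inv_cancel]
  have hnZ : n ∉ Z := fun h => hzZ ((QuotientGroup.eq_one_iff _).mp
    (hqn.symm.trans ((QuotientGroup.eq_one_iff _).mpr h)))
  have hgen' : ∀ v : E, ∃ i j : ℤ, ∃ u ∈ Z, v = n ^ i * e ^ j * u := fun v => by
    obtain ⟨i, j, hij⟩ := hgen v
    refine ⟨i, j, _, ?_, (mul_inv_cancel_left (n ^ i * e ^ j) v).symm⟩
    rw [hqZ, map_mul, map_zpow, map_zpow, hqn, ← (hqZ _ _).mp hec, ← map_zpow, ← map_zpow, ← map_mul]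
    exact (hqZ _ _).mp hij
  have hen : ⁅e, n⁆ ≠ 1 := by
    intro h
    rw [commutatorElement_eq_one_iff_commute] at h
    refine hnZ (Subgroup.mem_center_iff.mpr fun v => ?_)
    obtain ⟨i, j, u, hu, rfl⟩ := hgen' v
    exact ((((Commute.refl n).zpow_left i).mul_left (h.zpow_left j)).mul_left
      (Subgroup.mem_center_iff.mp hu n : n * u = u * n).symm).eq
  -- adjust `g`
  obtain ⟨a, ha⟩ : ∃ a : ℤ, t n * n⁻¹ * ⁅e, n⁆ ^ a = 1 := by
    obtain ⟨k, hk⟩ := mem_zpowers_of_prime_card hΦc (g := (⟨_, hcomΦ e n⟩ : Φ))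
      (g' := ⟨_, Φ.inv_mem hgnΦ⟩) (fun h => hen (congrArg Subtype.val h))
    exact ⟨k, by rw [show ⁅e, n⁆ ^ k = (t n * n⁻¹)⁻¹ from congrArg Subtype.val hk, mul_inv_cancel]⟩
  set x := g * ι e ^ a with hx
  have hxe : ⁅x, ι e⁆ = ι n := by
    rw [hn, ← hcom, hx]
    simp only [commutatorElement_def]
    group
  have hxE : x ∉ E₀ := fun h => hgE (by
    have := E₀.mul_mem h (E₀.inv_mem (E₀.zpow_mem (hιE e) a))
    rwa [hx, mul_inv_cancel_right] at this)
  have heZ : ∀ v : E, Commute (ι v) (ι d) := fun v =>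
    (show Commute v d from Subgroup.mem_center_iff.mp hd v).map ι
  have hxd : ⁅x, ι d⁆ = c := by
    have h1 : ι e ^ a * ι d * (ι e ^ a)⁻¹ = ι d := by
      rw [((heZ e).zpow_left a).eq, mul_inv_cancel_right]
    rw [hcd, hx, commutatorElement_def, commutatorElement_def, mul_inv_rev,
      show g * ι e ^ a * ι d * ((ι e ^ a)⁻¹ * g⁻¹) = g * (ι e ^ a * ι d * (ι e ^ a)⁻¹) * g⁻¹ by group,
      h1]
  have hxn : Commute (ι n) x := by
    refine (commutatorElement_eq_one_iff_commute.mp ?_).symm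
    have hpe : ⁅e ^ a, n⁆ = ⁅e, n⁆ ^ a := by
      have hce := Subgroup.mem_center_iff.mp (hΦZ (hcomΦ e n))
      have hconj : e * n * e⁻¹ = ⁅e, n⁆ * n := by rw [commutatorElement_def]; group
      have : ∀ k : ℤ, e ^ k * n * (e ^ k)⁻¹ = ⁅e, n⁆ ^ k * n := by
        intro k
        induction k using Int.induction_on with
        | zero => simp
        | succ k ih =>
          calc e ^ ((k : ℤ) + 1) * n * (e ^ ((k : ℤ) + 1))⁻¹
              = e * (e ^ (k : ℤ) * n * (e ^ (k : ℤ))⁻¹) * e⁻¹ := by group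
            _ = e * ⁅e, n⁆ ^ (k : ℤ) * e⁻¹ * (e * n * e⁻¹) := by rw [ih]; group
            _ = _ := by
              rw [((show Commute e ⁅e, n⁆ from hce e).zpow_right k).eq, mul_inv_cancel_right, hconj,
                ← mul_assoc, ← zpow_add_one]
        | pred k ih =>
          have h5 : e⁻¹ * n * e = ⁅e, n⁆⁻¹ * n := by
            have hc1 : Commute e⁻¹ ⁅e, n⁆ := (show Commute e ⁅e, n⁆ from hce e).inv_left
            have h6 : e⁻¹ * ⁅e, n⁆ * n * e = n := by rw [mul_assoc _ _ n, ← hconj]; group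
            rw [hc1.eq, mul_assoc, mul_assoc, ← mul_assoc e⁻¹] at h6
            exact eq_inv_mul_of_mul_eq h6
          calc e ^ (-(k : ℤ) - 1) * n * (e ^ (-(k : ℤ) - 1))⁻¹
              = e⁻¹ * (e ^ (-(k : ℤ)) * n * (e ^ (-(k : ℤ)))⁻¹) * e := by group
            _ = e⁻¹ * ⁅e, n⁆ ^ (-(k : ℤ)) * e * (e⁻¹ * n * e) := by rw [ih]; group
            _ = _ := by
              rw [((show Commute e⁻¹ ⁅e, n⁆ from (show Commute e ⁅e, n⁆ from hce e).inv_left).zpow_right
                _).eq, inv_mul_cancel_right, h5, ← mul_assoc, zpow_sub_one]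
      rw [commutatorElement_def, this a, mul_inv_cancel_right]
    have hcx : ∀ u : E, u ∈ Φ → g * ι u * g⁻¹ = ι u := fun u hu => by
      rw [← hιt, hΦfix t rt hrt u hu]
    rw [hx, show ⁅g * ι e ^ a, ι n⁆ = g * ⁅ι e ^ a, ι n⁆ * g⁻¹ * ⁅g, ι n⁆ by
        simp only [commutatorElement_def]; group, ← map_zpow, ← map_commutatorElement, hpe,
      hcx _ (Φ.zpow_mem (hcomΦ e n) a), hgn, ← map_mul,
      Subgroup.mem_center_iff.mp (hΦZ hgnΦ) (⁅e, n⁆ ^ a), ha, map_one]
  have hxnd : ⁅x, ι d⁆ ≠ 1 := by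
    intro h1
    rw [commutatorElement_eq_one_iff_commute] at h1
    set A := (Z ⊔ Subgroup.zpowers n).map ι
    have hcentA : ∀ a ∈ A, ∀ b ∈ A, Commute a b := by
      rintro _ ⟨u, hu, rfl⟩ _ ⟨w, hw, rfl⟩
      refine Commute.map ?_ ι
      exact commute_sup_zpowers (fun a ha b _ => (Subgroup.mem_center_iff.mp ha b).symm)
        (fun a ha => (Subgroup.mem_center_iff.mp ha n).symm) hu hw
    have hdx : ∀ u ∈ Z, Commute (ι u) x := by
      intro u hu
      have hlt : Φ < Φ ⊔ Subgroup.zpowers d := lt_of_le_of_ne le_sup_left fun he =>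
        hdΦ (he ▸ Subgroup.mem_sup_right (Subgroup.mem_zpowers d))
      have heq : Φ ⊔ Subgroup.zpowers d = Z := by
        refine Subgroup.eq_of_le_of_card_ge (sup_le hΦZ (Subgroup.zpowers_le.mpr hd)) ?_
        rw [hZc, pow_two]
        exact le_trans (Nat.mul_le_mul_left p hΦc.ge) (CfsgLib.PGroups.prime_mul_card_le hV hlt)
      have hle : Φ ⊔ Subgroup.zpowers d ≤ (Subgroup.centralizer ({x} : Set S)).comap ι := by
        refine sup_le (fun w hw => ?_) (Subgroup.zpowers_le.mpr ?_) <;>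
          refine Subgroup.mem_centralizer_singleton_iff.mpr ?_
        · have h2 : g * ι w * g⁻¹ = ι w := by rw [← hιt, hΦfix t rt hrt w hw]
          rw [mul_inv_eq_iff_eq_mul] at h2
          have h3 : Commute (ι w) (ι e ^ a) :=
            ((show Commute w e from (Subgroup.mem_center_iff.mp (hΦZ hw) e).symm).map ι).zpow_right a
          exact (Commute.mul_right (show Commute (ι w) g from h2.symm) h3).eq
        · exact h1.symm.eq
      exact Subgroup.mem_centralizer_singleton_iff.mp (hle (heq.ge hu))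
    refine hxE ?_
    have hxA : x ∈ A := by
      refine hab.mem hS ?_ hcentA ?_
      · rw [Subgroup.card_map_of_injective hιinj, pow_succ' p 2, ← hZc]
        exact CfsgLib.PGroups.prime_mul_card_le hV (lt_of_le_of_ne le_sup_left fun he =>
          hnZ (he ▸ Subgroup.mem_sup_right (Subgroup.mem_zpowers n)))
      · rintro _ ⟨u, hu, rfl⟩
        obtain ⟨v, hv, _, ⟨i, rfl⟩, rfl⟩ := Subgroup.mem_sup_of_normal_left.mp hu
        rw [map_mul, map_zpow]
        exact (hdx v hv).mul_left (hxn.zpow_left i)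
    obtain ⟨u, -, hu⟩ := hxA
    rw [← hu]; exact hιE u
  have hcn : c ≠ 1 := hxd ▸ hxnd
  refine ⟨?_, x, ι e, ι d, ?_⟩
  · -- `p = 3`
    by_contra hp3
    have h3 : ¬ (p : ℤ) ∣ 3 := fun h =>
      hp3 ((Nat.prime_dvd_prime_iff_eq hp.out Nat.prime_three).mp (Int.natCast_dvd_natCast.mp h))
    obtain ⟨m, hm⟩ := exists_mul_modEq (natCast_dvd_two hp2) 1
    obtain ⟨T₂, hT₂, z₂, c₂, -, -, -, -, -, -, -, hT₂t⟩ :=
      exists_torus_quot (F := F) hS hEle (M := Z) hZi (fun x => hΦZ (hpow x))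
        (fun x y => hΦZ (hcomΦ x y)) g.2 hgN hnt hmove (l := 2) (m := m) hm
    have hT₂H := hH₀ hT₂
    obtain ⟨w, hw⟩ := hδ T₂ hT₂H (2 * 2) hT₂t
    have h1 := DFunLike.congr_fun hw d
    rw [MulAut.conj_apply, Subgroup.mem_center_iff.mp hd w, mul_inv_cancel_right, MulAut.mul_apply] at h1
    have h2 : T₂ (t d) = (t ^ (2 * 2)) (T₂ d) := by
      have h3 := congrArg (T₂ * t) h1
      rwa [MulAut.apply_inv_self] at h3
    obtain ⟨k, htd, hkΦ⟩ : ∃ k, t d = d * k ∧ k ∈ Φ :=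
      ⟨_, (mul_inv_cancel_left _ _).symm, hZΦ t rt hrt d hd⟩
    obtain ⟨j, hTd, hjΦ⟩ : ∃ j, T₂ d = d * j ∧ j ∈ Φ :=
      ⟨_, (mul_inv_cancel_left _ _).symm, hT₂H.1 d hd⟩
    rw [hTd, htd, map_mul, hT₂H.2.1 k hkΦ, hTd, map_mul,
      CfsgLib.PGroups.mulAut_iterate_eq t htd (hΦfix t rt hrt k hkΦ),
      hΦfix (t ^ (2 * 2)) rt (by rw [← pow_mul, mul_comm, pow_mul, hrt, one_pow]) j hjΦ,
      mul_assoc, mul_assoc, mul_right_inj,
      (show Commute j k from Subgroup.mem_center_iff.mp (hΦZ hkΦ) j).eq, mul_left_inj] at h2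
    have hk1 : k = 1 := by
      have h4 : k ^ (3 : ℤ) = 1 := by
        rw [show (3 : ℤ) = ((2 * 2 : ℕ) : ℤ) - 1 by norm_num, zpow_sub, zpow_natCast, ← h2, zpow_one,
          mul_inv_cancel]
      obtain ⟨r, hr⟩ := exists_mul_modEq h3 1
      have h5 := zpow_eq_zpow_of_dvd (hΦp k hkΦ) hr
      rw [zpow_mul, h4, one_zpow, zpow_one] at h5
      exact h5.symm
    refine hcn ?_
    rw [hcd, hcom, htd, hk1, mul_one, mul_inv_cancel, map_one]
  · exact
    { c_ne := hxd ▸ hcn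
      c_central := fun v => by
        haveI : (Φ.map ι).Normal := ⟨by
          rintro _ ⟨u, hu, rfl⟩ v
          obtain ⟨w, hw, hwv⟩ := mem_normalizer_conj ((mem_normalizer_map_iff v).mpr
            (by rw [Subgroup.normalizer_eq_top E₀]; exact Subgroup.mem_top v)) u.2
          refine ⟨⟨_, w, hw, hwv⟩, ?_, Subtype.ext rfl⟩
          have hmem : conjAut E (v : Ω) ((mem_normalizer_map_iff v).mpr
              (by rw [Subgroup.normalizer_eq_top E₀]; exact Subgroup.mem_top v)) u ∈ Φ := hΦch _ u hu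
          exact hmem⟩
        have hcΦ : c ∈ Φ.map ι := ⟨t d * d⁻¹, by
          rw [Subgroup.mem_center_iff.mp (Z.inv_mem hd) (t d)]; exact hZΦ t rt hrt d hd, (hcom d).symm⟩
        have h1 := commutator_mem_of_layer hS (A := (⊥ : Subgroup S)) (K := Φ.map ι) bot_le
          (by rw [Subgroup.card_map_of_injective hιinj, hΦc]; simp) v hcΦ
        rw [Subgroup.mem_bot, commutatorElement_eq_one_iff_commute] at h1
        rw [hxd]
        exact h1.symm
      c_pow := by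
        rw [hxd, hcd, hcom, ← map_pow, hΦp, map_one]
        rw [Subgroup.mem_center_iff.mp (Z.inv_mem hd) (t d)]; exact hZΦ t rt hrt d hd
      ed := heZ e
      nd := by rw [hxe]; exact heZ n
      nx := by rw [hxe]; exact hxn
      ne_mem := by rw [hxe, hxd, ← map_commutatorElement]; exact hcne hcn _ (hcomΦ n e)
      ne_ne := by
        rw [hxe, ← map_commutatorElement, Ne, map_eq_one_iff _ hιinj, ← commutatorElement_inv e n,
          inv_eq_one]
        exact hen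
      ep := by rw [hxd, ← map_pow]; exact hcne hcn _ (hpow e)
      dp := by rw [hxd, ← map_pow]; exact hcne hcn _ (hpow d) }

end CfsgLib.OrderDegrees.FusFifth
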