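import Cfsg.Agent.Lib.OrderDegrees.FusFifth.Elementary
import Cfsg.Agent.Lib.OrderDegrees.FusFifth.Large

/-!
Fusion systems over groups of order `p ^ 5` without abelian subgroup of index `p`: assembly.
-/

set_option autoImplicit false
set_option linter.style.haveILetI false
set_option linter.unusedSectionVars false

namespace CfsgLib.OrderDegrees.FusFifth

open Cfsg Cfsg.FusionSystem CfsgLib.Alperin CfsgLib.FusionExamples CfsgLib.FusionExamples.SmallEssential

variable {p : ℕ} [hp : Fact p.Prime] {Ω : Type*} [Group Ω] {S : Subgroup Ω} [Finite S]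
  {F : FusionSystem S}

/-- Unless `p = 3` and the shape is exceptional, every essential subgroup is a pearl. -/
theorem pearl_of_essential (hS : IsPGroup p S) (hF : F.IsSaturated p) (hp2 : p ≠ 2)
    (hcardS : Nat.card S = p ^ 5) (hab : NoAb p S) (hnB : ¬ (p = 3 ∧ TypeB p S)) {E : Subgroup Ω}
    (hE : F.IsEssential p E) :
    (∀ x ∈ E, x ^ p = 1) ∧
      (Nat.card E = p ^ 2 ∨ (Nat.card E = p ^ 3 ∧ ¬ IsMulCommutative ↥E)) := by
  have hEle : E ≤ S := hE.2.1.1
  haveI := finite_of_le hEle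
  have hlt := CfsgLib.FusionModels.Pearl.lt_of_essential hS hF hE
  obtain ⟨E₀, rfl⟩ : ∃ E₀ : Subgroup S, E₀.map S.subtype = E :=
    ⟨E.subgroupOf S, Subgroup.map_subgroupOf_eq_of_le hEle⟩
  have hcE : Nat.card (E₀.map S.subtype) = Nat.card E₀ := Subgroup.card_subtype S E₀
  obtain ⟨k, hk⟩ := IsPGroup.iff_card.mp (hS.to_subgroup E₀)
  have hk5 : k < 5 := by
    have h1 : Nat.card E₀ < Nat.card S := lt_of_le_of_ne (Subgroup.card_le_card_group E₀) fun he => by
      refine hlt.ne ?_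
      rw [Subgroup.eq_top_of_card_eq E₀ he, ← MonoidHom.range_eq_map, Subgroup.range_subtype]
    rw [hk, hcardS] at h1
    exact (Nat.pow_lt_pow_iff_right hp.out.one_lt).mp h1
  have hk4 : k ≠ 4 := fun h => hnB (large_cases hS hF hp2 hcardS hab (by rw [hk, h]) hE)
  have hle : Nat.card (E₀.map S.subtype) ≤ p ^ 3 :=
    hcE.trans_le (hk.trans_le (Nat.pow_le_pow_right hp.out.pos (by omega)))
  rcases exists_chain_or_exp hp2 (isPGroup_of_le hS hEle) hle with ⟨K₁, K₂, hK⟩ | ⟨hgt, hexp⟩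
  · exact (false_of_chain hS hE hlt.ne hK).elim
  refine ⟨fun x hx => congrArg Subtype.val (hexp ⟨x, hx⟩), ?_⟩
  rw [hcE, hk] at hgt ⊢
  have hk2 : 1 < k := by
    by_contra hh
    have := Nat.pow_le_pow_right hp.out.pos (show k ≤ 1 by omega)
    rw [pow_one] at this
    omega
  rcases (show k = 2 ∨ k = 3 by omega) with rfl | rfl
  · exact Or.inl rfl
  refine Or.inr ⟨rfl, fun hcm => hnB ?_⟩
  refine elementary_cases hS hF hp2 hcardS hab (fun P hP hPE => large_cases hS hF hp2 hcardS hab hP hPE)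
    hE hk (fun x hx y hy => ?_) fun x hx => ?_
  · exact Subtype.ext (congrArg Subtype.val
      (hcm.is_comm.comm ⟨(x : Ω), x, hx, rfl⟩ ⟨(y : Ω), y, hy, rfl⟩) :)
  · exact Subtype.ext (congrArg Subtype.val (hexp ⟨(x : Ω), x, hx, rfl⟩) :)

/-- The final step, from the exceptional shape and from the pearls. -/
theorem exists_abelian_index (hS : IsPGroup p S) (hF : F.IsSaturated p) (hp2 : p ≠ 2)
    (hcardS : Nat.card S = p ^ 5) (hcore : F.core = ⊥)
    (hTB : NoAb p S → p = 3 → TypeB p S → False)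
    (hMC : NoAb p S → (∀ E, F.IsEssential p E → (∀ x ∈ E, x ^ p = 1) ∧
      (Nat.card E = p ^ 2 ∨ (Nat.card E = p ^ 3 ∧ ¬ IsMulCommutative ↥E))) →
      ∀ E, F.IsEssential p E → False) :
    ∃ A : Subgroup Ω, A ≤ S ∧ IsMulCommutative ↥A ∧ (A.subgroupOf S).index = p := by
  by_contra hno
  have hab : NoAb p S := by
    intro A hA hAcom
    obtain ⟨k, hk⟩ := IsPGroup.iff_card.mp (hS.to_subgroup A)
    rw [hk] at hA
    have hk4 := (Nat.pow_le_pow_iff_right hp.out.one_lt).mp hA
    obtain ⟨B, hBA, hBc⟩ : ∃ B : Subgroup S, B ≤ A ∧ Nat.card B = p ^ 4 := by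
      obtain ⟨B', hB'⟩ := Sylow.exists_subgroup_card_pow_prime (G := A) p
        (n := 4) (by rw [hk]; exact pow_dvd_pow p hk4)
      exact ⟨B'.map A.subtype, Subgroup.map_subtype_le B', by rw [Subgroup.card_subtype, hB']⟩
    refine hno ⟨B.map S.subtype, Subgroup.map_subtype_le B, ⟨⟨?_⟩⟩, ?_⟩
    · rintro ⟨_, a, ha, rfl⟩ ⟨_, b, hb, rfl⟩
      exact Subtype.ext (congrArg Subtype.val (hAcom a (hBA ha) b (hBA hb)).eq :)
    · rw [Subgroup.subgroupOf, Subgroup.comap_map_eq_self_of_injective S.subtype_injective]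
      have h1 := B.card_mul_index
      rw [hBc, hcardS, pow_succ p 4] at h1
      exact Nat.eq_of_mul_eq_mul_left (pow_pos hp.out.pos 4) h1
  have hnB : ¬ (p = 3 ∧ TypeB p S) := fun h => hTB hab h.1 h.2
  obtain ⟨E, hE⟩ := exists_essential hS hF (fun h => by
    rw [h, Subgroup.card_bot] at hcardS
    exact absurd hcardS.symm (Nat.one_lt_pow (by omega) hp.out.one_lt).ne') hcore
  exact hMC hab (fun E hE => pearl_of_essential hS hF hp2 hcardS hab hnB hE) E hE

end CfsgLib.OrderDegrees.FusFifth
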