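import Cfsg.Agent.Lib.FusionExamples.SmallEssential
import Cfsg.Agent.Lib.FusionBasics.Normal
import Cfsg.Agent.Lib.FusionModels.PearlMaxClass

/-!
Fusion systems over a group of order `p ^ 5`: tools for extending automorphisms one step and for
recognising the trivial cases.
-/

set_option autoImplicit false
set_option linter.style.haveILetI false
set_option linter.unusedSectionVars false

open scoped commutatorElement

namespace CfsgLib.OrderDegrees.FusFifth

open Cfsg Cfsg.FusionSystem CfsgLib.Alperin CfsgLib.FusionExamples.SmallEssential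

variable {p : ℕ} [hp : Fact p.Prime]

/-- No abelian subgroup of order at least `p ^ 4`. -/
def NoAb (p : ℕ) (G : Type*) [Group G] : Prop :=
  ∀ A : Subgroup G, p ^ 4 ≤ Nat.card A → ¬ ∀ x ∈ A, ∀ y ∈ A, Commute x y

section Group

variable {G : Type*} [Group G] [Finite G]

/-- Commutation moves a normal subgroup into an invariant subgroup of index at most `p`. -/
theorem commutator_mem_of_layer (hG : IsPGroup p G) {A K : Subgroup G} [A.Normal] [K.Normal]
    (hAK : A ≤ K) (hcard : Nat.card K ≤ p * Nat.card A) (g : G) {k : G} (hk : k ∈ K) :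
    ⁅g, k⁆ ∈ A := by
  obtain ⟨r, hr⟩ := hG g
  have h1 := CfsgLib.FusionExamples.MaxClass.trivial_mod hG hAK hcard (a := MulAut.conj g)
    (fun x hx => (inferInstance : A.Normal).conj_mem x hx g)
    (fun x hx => (inferInstance : K.Normal).conj_mem x hx g)
    (by rw [← map_pow, hr, map_one]) hk
  have h2 := (inferInstance : A.Normal).conj_mem _ h1 k
  rw [commutatorElement_def]
  simpa [MulAut.conj_apply, mul_assoc] using h2

/-- Adjoining a commuting element to an abelian subgroup. -/
theorem commute_sup_zpowers {A : Subgroup G} {x : G} (hA : ∀ a ∈ A, ∀ b ∈ A, Commute a b)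
    (hx : ∀ a ∈ A, Commute a x) {a b : G} (ha : a ∈ A ⊔ Subgroup.zpowers x)
    (hb : b ∈ A ⊔ Subgroup.zpowers x) : Commute a b := by
  have hle : A ⊔ Subgroup.zpowers x ≤ Subgroup.centralizer ((A : Set G) ∪ {x}) := by
    refine sup_le (fun c hc => ?_) (Subgroup.zpowers_le.mpr ?_)
    · refine Subgroup.mem_centralizer_iff.mpr fun d hd => ?_
      rcases hd with hd | rfl
      · exact hA d hd c hc
      · exact (hx c hc).eq.symm
    · refine Subgroup.mem_centralizer_iff.mpr fun d hd => ?_
      rcases hd with hd | rfl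
      · exact hx d hd
      · rfl
  have hle2 : A ⊔ Subgroup.zpowers x ≤ Subgroup.centralizer ({a} : Set G) := by
    refine sup_le (fun c hc => ?_) (Subgroup.zpowers_le.mpr ?_) <;>
      refine Subgroup.mem_centralizer_singleton_iff.mpr ?_
    · exact Subgroup.mem_centralizer_iff.mp (hle ha) c (Or.inl hc)
    · exact Subgroup.mem_centralizer_iff.mp (hle ha) x (Or.inr rfl)
  exact (Subgroup.mem_centralizer_singleton_iff.mp (hle2 hb)).symm

/-- An abelian subgroup of order `p ^ 3` has no further element commuting with it. -/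
theorem NoAb.mem (hab : NoAb p G) (hG : IsPGroup p G) {A : Subgroup G} (hAc : p ^ 3 ≤ Nat.card A)
    (hA : ∀ a ∈ A, ∀ b ∈ A, Commute a b) {x : G} (hx : ∀ a ∈ A, Commute a x) : x ∈ A := by
  by_contra hxA
  refine hab (A ⊔ Subgroup.zpowers x) ?_ fun a ha b hb => commute_sup_zpowers hA hx ha hb
  calc p ^ 4 = p * p ^ 3 := by rw [← pow_succ']
    _ ≤ p * Nat.card A := Nat.mul_le_mul_left p hAc
    _ ≤ _ := CfsgLib.PGroups.prime_mul_card_le hG
      (lt_of_le_of_ne le_sup_left fun he => hxA (he ▸ Subgroup.mem_sup_right (Subgroup.mem_zpowers x)))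

end Group

variable {Ω : Type*} [Group Ω] {S : Subgroup Ω} [Finite S] {F : FusionSystem S}

/-- The element of `↥(P.map S.subtype)` given by an element of `P`. -/
def el (P : Subgroup S) (x : S) (hx : x ∈ P) : ↥(P.map S.subtype) := ⟨x, x, hx, rfl⟩

theorem exists_el {P : Subgroup S} (z : ↥(P.map S.subtype)) : ∃ x, ∃ hx : x ∈ P, el P x hx = z := by
  obtain ⟨_, x, hx, rfl⟩ := z
  exact ⟨x, hx, rfl⟩

@[simp] theorem coe_el (P : Subgroup S) (x : S) (hx : x ∈ P) : ((el P x hx : ↥(P.map S.subtype)) : Ω) = x :=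
  rfl

theorem mem_normalizer_map_iff {P : Subgroup S} (g : S) :
    (g : Ω) ∈ Subgroup.normalizer ((P.map S.subtype : Subgroup Ω) : Set Ω) ↔
      g ∈ Subgroup.normalizer (P : Set S) := by
  haveI := finite_of_le (Subgroup.map_subtype_le P)
  constructor
  · intro h
    refine mem_normalizer fun x hx => ?_
    obtain ⟨y, hy, he⟩ := mem_normalizer_conj h (show (x : Ω) ∈ P.map S.subtype from ⟨x, hx, rfl⟩)
    exact (Subtype.ext he : y = g * x * g⁻¹) ▸ hy
  · intro h
    refine mem_normalizer ?_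
    rintro _ ⟨x, hx, rfl⟩
    exact ⟨g * x * g⁻¹, (Subgroup.mem_normalizer_iff.mp h x).mp hx, rfl⟩

theorem normalizerIn_map (P : Subgroup S) :
    normalizerIn S (P.map S.subtype) = (Subgroup.normalizer (P : Set S)).map S.subtype := by
  ext x
  constructor
  · rintro ⟨hx, hN⟩
    exact ⟨⟨x, hx⟩, (mem_normalizer_map_iff ⟨x, hx⟩).mp hN, rfl⟩
  · rintro ⟨g, hg, rfl⟩
    exact ⟨g.2, (mem_normalizer_map_iff g).mpr hg⟩

/-- A subgroup is fully normalized as soon as no conjugate has a larger normalizer. -/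
theorem fullyNormalized_of_card {P : Subgroup S}
    (h : ∀ Q : Subgroup S, F.IsConj (P.map S.subtype) (Q.map S.subtype) →
      Nat.card (Subgroup.normalizer (Q : Set S)) ≤ Nat.card (Subgroup.normalizer (P : Set S))) :
    F.IsFullyNormalized (P.map S.subtype) := by
  refine ⟨Subgroup.map_subtype_le P, fun Q hQ => ?_⟩
  have hQS := CfsgLib.Alperin.IsConj.right_le hQ
  have he : (Q.subgroupOf S).map S.subtype = Q := Subgroup.map_subgroupOf_eq_of_le hQS
  rw [← he] at hQ ⊢
  rw [normalizerIn_map, normalizerIn_map, Subgroup.card_subtype, Subgroup.card_subtype]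
  exact h _ hQ

theorem fullyNormalized_of_normal (P : Subgroup S) [P.Normal] : F.IsFullyNormalized (P.map S.subtype) :=
  fullyNormalized_of_card fun Q _ => by
    rw [Subgroup.normalizer_eq_top P, Subgroup.card_top]
    exact Subgroup.card_le_card_group _

/-- Without an essential structure, the automizer normalizes the group induced by `S` when the
normalizer is only one step larger. -/
theorem autGroup_le_normalizer (hS : IsPGroup p S) (hF : F.IsSaturated p) {P : Subgroup S}
    (hP : P ≠ ⊤) (hfn : F.IsFullyNormalized (P.map S.subtype))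
    (hne : ¬ F.IsEssential p (P.map S.subtype))
    (hcard : Nat.card (Subgroup.normalizer (P : Set S)) ≤ p * Nat.card P) :
    F.autGroup (P.map S.subtype) ≤
      Subgroup.normalizer (autInducedBy S (P.map S.subtype) : Set (MulAut ↥(P.map S.subtype))) := by
  set P' := P.map S.subtype with hP'
  have hP'S : P' ≤ S := Subgroup.map_subtype_le P
  haveI := finite_of_le hP'S
  have hlt : P' < S := lt_of_le_of_ne hP'S fun he => hP (by
    refine eq_top_iff.mpr fun x _ => ?_
    obtain ⟨y, hy, hyx⟩ := he.ge x.2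
    exact (Subtype.ext hyx : y = x) ▸ hy)
  have heq : extendableAut F P' = F.autGroup P' :=
    Classical.not_not.mp fun h => hne (essential_of_extendableAut_ne hS hF hlt hfn h)
  rw [← heq]
  refine (Subgroup.closure_le _).mpr ?_
  rintro α ⟨Q, hPQ, φ, hφ, hαx⟩
  haveI := finite_of_le (dom_le hφ)
  haveI : Finite (MulAut P') :=
    Finite.of_injective (fun f : MulAut P' => (f : P' → P')) fun _ _ h => MulEquiv.ext (congrFun h)
  refine mem_normalizer ?_
  intro β hβ
  obtain ⟨g, hg, hgx⟩ := mem_autInducedBy_iff.mp hβ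
  -- `Q` contains the whole normalizer
  have hgQ : g ∈ Q := by
    obtain ⟨u, hu, huP⟩ := SetLike.exists_of_lt
      (lt_normalizerIn (isPGroup_of_le hS (dom_le hφ)) hPQ)
    have huN : u ∈ normalizerIn S P' := ⟨dom_le hφ hu.1, hu.2⟩
    have hgN : g ∈ normalizerIn S P' := ⟨hg, normalizer_of_induced hgx⟩
    haveI := finite_of_le (normalizerIn_le S P')
    have hlt' : P' < normalizerIn S P' ⊓ Q :=
      lt_of_le_of_ne (le_inf (le_normalizerIn hP'S) hPQ.le) fun he => huP (he ▸ ⟨huN, hu.1⟩)
    haveI := finite_of_le (inf_le_left.trans (normalizerIn_le S P') : normalizerIn S P' ⊓ Q ≤ S)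
    obtain ⟨i, hi⟩ := IsPGroup.iff_card.mp (isPGroup_of_le hS hP'S)
    obtain ⟨j, hj⟩ := IsPGroup.iff_card.mp (isPGroup_of_le hS (inf_le_left.trans (normalizerIn_le S P') :
      normalizerIn S P' ⊓ Q ≤ S))
    have h1 : Nat.card P' < Nat.card (normalizerIn S P' ⊓ Q : Subgroup Ω) := by
      refine lt_of_le_of_ne (Subgroup.card_le_of_le hlt'.le) fun h => hlt'.ne ?_
      exact Subgroup.eq_of_le_of_card_ge hlt'.le h.ge
    rw [hi, hj] at h1
    have hij := (Nat.pow_lt_pow_iff_right hp.out.one_lt).mp h1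
    have h2 : Nat.card (normalizerIn S P') ≤ Nat.card (normalizerIn S P' ⊓ Q : Subgroup Ω) := by
      rw [hj, hP', normalizerIn_map, Subgroup.card_subtype]
      refine hcard.trans ?_
      rw [← Subgroup.card_subtype S P, ← hP', hi, ← pow_succ']
      exact Nat.pow_le_pow_right hp.out.pos hij
    exact ((Subgroup.eq_of_le_of_card_ge inf_le_left h2).ge hgN).2
  refine mem_autInducedBy_iff.mpr ⟨φ ⟨g, hgQ⟩, apply_mem hφ _, fun x => ?_⟩
  have hy : ∀ y : P', ((α y : P') : Ω) = φ (Subgroup.inclusion hPQ.le y) := fun y => (hαx y).symm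
  obtain ⟨y, rfl⟩ := α.surjective x
  rw [MulAut.mul_apply, MulAut.mul_apply, MulAut.inv_apply_self, hy, hy]
  rw [show (Subgroup.inclusion hPQ.le (β y)) =
    ⟨g, hgQ⟩ * Subgroup.inclusion hPQ.le y * ⟨g, hgQ⟩⁻¹ from Subtype.ext (hgx y)]
  rw [map_mul, map_mul, map_inv]

/-- Automorphisms normalizing the group induced by `S` extend to the normalizer. -/
theorem exists_extension (hS : IsPGroup p S) (hF : F.IsSaturated p) {P : Subgroup S}
    (hfn : F.IsFullyNormalized (P.map S.subtype)) {α : MulAut ↥(P.map S.subtype)}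
    (hα : α ∈ F.autGroup (P.map S.subtype))
    (hn : α ∈ Subgroup.normalizer
      (autInducedBy S (P.map S.subtype) : Set (MulAut ↥(P.map S.subtype)))) :
    ∃ g : S → S, Rep F (Subgroup.normalizer (P : Set S)) g ∧
      (∀ x ∈ Subgroup.normalizer (P : Set S), g x ∈ Subgroup.normalizer (P : Set S)) ∧
      ∀ (x : S) (hx : x ∈ P), (g x : Ω) = (α (el P x hx) : ↥(P.map S.subtype)) := by
  obtain ⟨f, hf, hfP, hfα⟩ := Rep.of_aut hα
  obtain ⟨g, hg, hgf⟩ := hf.extend hfP (receptive_of_fullyNormalized hS hF hfn) Subgroup.le_normalizer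
    (by
      intro ψ e
      rintro _ ⟨r, hr, rfl⟩
      have hrP : ∀ x ∈ P, r * x * r⁻¹ ∈ P := fun x hx => (Subgroup.mem_normalizer_iff.mp hr x).mp hx
      have hrN := (mem_normalizer_map_iff r).mpr hr
      have hc := (Subgroup.mem_normalizer_iff.mp hn _).mp (conjAut_mem r.2 hrN)
      obtain ⟨s, hs, hsx⟩ := mem_autInducedBy_iff.mp hc
      refine Rep.mem_extender e (s := ⟨s, hs⟩) hrP fun x hx => Subtype.ext ?_
      rw [← hfα _ (hrP x hx)]
      have h1 := hsx (α (el P x hx))
      rw [MulAut.mul_apply, MulAut.mul_apply, MulAut.inv_apply_self] at h1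
      refine Eq.trans ?_ (h1.trans (congrArg (fun w : Ω => s * w * s⁻¹) (hfα x hx)))
      rfl)
  refine ⟨g, hg, fun x hx => ?_, fun x hx => ?_⟩
  · refine mem_normalizer fun y hy => ?_
    obtain ⟨α', -, hα'⟩ := hf.exists_aut hfP
    obtain ⟨z, hz⟩ := α'.surjective (el P y hy)
    obtain ⟨w, hw, rfl⟩ := exists_el z
    have hwy : f w = y := Subtype.ext ((hα' w hw).symm.trans (congrArg Subtype.val hz))
    have hxP : x * w * x⁻¹ ∈ P := (Subgroup.mem_normalizer_iff.mp hx w).mp hw
    have h1 : g (x * w * x⁻¹) = g x * g w * (g x)⁻¹ := by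
      have hwN := Subgroup.le_normalizer (H := P) hw
      rw [hg.map_mul (mul_mem hx hwN) (inv_mem hx), hg.map_mul hx hwN, hg.map_inv hx]
    rw [hgf _ hxP, hgf _ hw, hwy] at h1
    rw [← h1]
    exact hfP _ hxP
  · rw [hgf x hx]
    exact (hfα x hx).symm

/-- A map of the system on all of `S` is an automorphism. -/
theorem exists_mulAut {g : S → S} (hg : Rep F ⊤ g) : ∃ β : MulAut S, ∀ x, β x = g x := by
  let f : S →* S := MonoidHom.mk' g fun a b => hg.map_mul (Subgroup.mem_top a) (Subgroup.mem_top b)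
  have hinj : Function.Injective f := fun a b h => hg.inj (Subgroup.mem_top a) (Subgroup.mem_top b) h
  exact ⟨MulEquiv.ofBijective f ⟨hinj, Finite.surjective_of_injective hinj⟩, fun x => rfl⟩

/-- Without essential subgroups the whole of `S` is normal. -/
theorem exists_essential (hS : IsPGroup p S) (hF : F.IsSaturated p) (hS1 : S ≠ ⊥)
    (hcore : F.core = ⊥) : ∃ E, F.IsEssential p E := by
  by_contra hno
  refine hS1 (le_bot_iff.mp (hcore ▸ CfsgLib.FusionBasics.le_core ?_))
  refine CfsgLib.FusionBasics.isNormal_of_generators hS hF fun P hP => ?_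
  rcases hP with rfl | hP
  · exact ⟨le_rfl, fun α _ x _ => (α x).2⟩
  · exact absurd ⟨P, hP⟩ hno

/-- The hyperfocal subgroup lies in a subgroup containing all displacements of the generating
automorphisms. -/
theorem hyperfocal_le (hS : IsPGroup p S) (hF : F.IsSaturated p) {K : Subgroup S}
    (hK : commutator S ≤ K)
    (hgen : ∀ P : Subgroup Ω, (P = S ∨ F.IsEssential p P) → ∀ α ∈ F.autGroup P, ∀ x : P,
      (x : Ω)⁻¹ * ((α x : P) : Ω) ∈ K.map S.subtype) :
    F.hyperfocalSubgroup p ≤ K.map S.subtype := by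
  set K' := K.map S.subtype
  let E : FusionSystem S :=
    { Hom := fun P => {φ | φ ∈ F.Hom P ∧ ∀ x : P, (x : Ω)⁻¹ * φ x ∈ K'}
      le_of_mem := fun h => F.le_of_mem h.1
      injective_of_mem := fun h => F.injective_of_mem h.1
      conj_mem := fun {P g} hP hg => ⟨F.conj_mem hP hg, fun x => by
        refine ⟨⟨x, hP x.2⟩⁻¹ * (⟨g, hg⟩ * ⟨x, hP x.2⟩ * ⟨g, hg⟩⁻¹), hK ?_, rfl⟩
        have := Subgroup.commutator_mem_commutator (Subgroup.mem_top (⟨x, hP x.2⟩ : S)⁻¹)
          (Subgroup.mem_top (⟨g, hg⟩ : S))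
        rw [commutatorElement_def, inv_inv] at this
        rw [commutator_def]
        simpa [mul_assoc] using this⟩
      comp_mem := fun {P Q φ ψ} hφ hψ h => ⟨F.comp_mem hφ.1 hψ.1 h, fun x => by
        have := K'.mul_mem (hφ.2 x) (hψ.2 ⟨φ x, h x⟩)
        rwa [mul_assoc, mul_inv_cancel_left] at this⟩
      inv_mem := fun {P φ} hφ => by
        obtain ⟨ψ, hψ, hψx⟩ := F.inv_mem hφ.1
        refine ⟨ψ, ⟨hψ, ?_⟩, hψx⟩
        rintro ⟨_, x, rfl⟩
        have := K'.inv_mem (hφ.2 x)
        rw [mul_inv_rev, inv_inv] at this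
        rwa [hψx] }
  have hall := alperin hS hF E fun P hP α hα => by
    have hPS : P ≤ S := by
      rcases hP with rfl | hP
      exacts [le_rfl, hP.1.1]
    exact (mem_autGroup_iff E hPS).mpr ⟨(mem_autGroup_iff F hPS).mp hα, hgen P hP α hα⟩
  refine (Subgroup.closure_le _).mpr ?_
  rintro _ ⟨P, α, x, hP, -, rfl⟩
  exact (hall P ((mem_autGroup_iff F hP).mp α.2)).2 x

end CfsgLib.OrderDegrees.FusFifth
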