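import Cfsg.Agent.Lib.OrderDegrees.FusFifth.ElementarySetup
import Cfsg.Agent.Lib.OrderDegrees.FusFifth.TypeB

/-!
Elementary abelian essential subgroups of order `p ^ 3` in a group of order `p ^ 5` without abelian
subgroup of index `p`.
-/

set_option autoImplicit false
set_option linter.style.haveILetI false
set_option linter.unusedSectionVars false
set_option linter.unusedVariables false

open scoped commutatorElement

namespace CfsgLib.OrderDegrees.FusFifth

open Cfsg Cfsg.FusionSystem CfsgLib.Alperin CfsgLib.FusionExamples CfsgLib.FusionExamples.SmallEssential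

variable {p : ℕ} [hp : Fact p.Prime] {Ω : Type*} [Group Ω] {S : Subgroup Ω} [Finite S]
  {F : FusionSystem S}

/-- An automorphism of an essential subgroup normalizing a conjugation extends to all of `S`, when
the normalizer has index `p` and is not essential. -/
theorem exists_extend_top (hS : IsPGroup p S) (hF : F.IsSaturated p) (hcardS : Nat.card S = p ^ 5)
    {E₀ : Subgroup S} (hE : F.IsEssential p (E₀.map S.subtype)) (hcard : Nat.card E₀ = p ^ 3)
    (hM : Nat.card (Subgroup.normalizer (E₀ : Set S)) = p ^ 4)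
    (hne : ¬ F.IsEssential p ((Subgroup.normalizer (E₀ : Set S)).map S.subtype)) {n₀ : S}
    (hn₀ : n₀ ∈ Subgroup.normalizer (E₀ : Set S)) (hn₀' : n₀ ∉ E₀)
    {T : MulAut ↥(E₀.map S.subtype)} (hT : T ∈ F.autGroup (E₀.map S.subtype)) {k : ℕ}
    (hTt : T * conjAut (E₀.map S.subtype) n₀ ((mem_normalizer_map_iff n₀).mpr hn₀) =
      conjAut (E₀.map S.subtype) n₀ ((mem_normalizer_map_iff n₀).mpr hn₀) ^ k * T) :
    ∃ β : MulAut S, (∀ y ∈ Subgroup.normalizer (E₀ : Set S), β y ∈ Subgroup.normalizer (E₀ : Set S)) ∧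
      ∀ (e : S) (he : e ∈ E₀),
        ((β e : S) : Ω) = (T (el E₀ e he) : ↥(E₀.map S.subtype)) := by
  have hTn : T ∈ Subgroup.normalizer
      (autInducedBy S (E₀.map S.subtype) : Set (MulAut ↥(E₀.map S.subtype))) := by
    refine mem_normalizer_autInducedBy hS hn₀ hn₀' (by rw [hM, hcard, ← pow_succ']) ?_
    rw [hTt, mul_inv_cancel_right]
    exact pow_mem (conjAut_mem n₀.2 _) k
  obtain ⟨g, hg, hgN, hgT⟩ := exists_extension hS hF hE.2.1 hT hTn
  set M := Subgroup.normalizer (E₀ : Set S) with hMd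
  haveI := normal_of_card hS hcardS hM
  obtain ⟨α, hα, hαg⟩ := hg.exists_aut hgN
  have hMtop : M ≠ ⊤ := fun h => by
    rw [h, Subgroup.card_top, hcardS] at hM
    exact absurd (Nat.pow_right_injective hp.out.two_le hM) (by omega)
  have hαn := autGroup_le_normalizer hS hF hMtop (fullyNormalized_of_normal M) hne (by
    rw [Subgroup.normalizer_eq_top M, Subgroup.card_top, hcardS, hM, ← pow_succ']) hα
  obtain ⟨g', hg', -, hg'α⟩ := exists_extension hS hF (fullyNormalized_of_normal M) hα hαn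
  rw [Subgroup.normalizer_eq_top M] at hg'
  obtain ⟨β, hβ⟩ := exists_mulAut hg'
  have heq : ∀ y ∈ M, β y = g y := fun y hy => Subtype.ext (by rw [hβ, hg'α y hy]; exact hαg y hy)
  refine ⟨β, fun y hy => heq y hy ▸ hgN y hy, fun e he => ?_⟩
  rw [heq e (Subgroup.le_normalizer he), hgT e he]

/-- A power of an element of order `p` lies outside a subgroup unless the exponent is divisible. -/
theorem dvd_of_zpow_mem {G : Type*} [Group G] {H : Subgroup G} {a : G} (hap : a ^ p ∈ H) (ha : a ∉ H)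
    {i : ℤ} (hi : a ^ i ∈ H) : (p : ℤ) ∣ i := by
  by_contra hd
  obtain ⟨r, k, hk⟩ := exists_mul_modEq hd 1
  refine ha ?_
  have h1 : a ^ (i * r) ∈ H := by rw [zpow_mul, zpow_natCast]; exact pow_mem hi r
  rw [show i * r = 1 + (p : ℤ) * k by omega, zpow_add, zpow_one, zpow_mul, zpow_natCast] at h1
  exact (Subgroup.mul_mem_cancel_right H (Subgroup.zpow_mem _ hap k)).mp h1

/-- An elementary abelian essential subgroup of order `p ^ 3` only occurs for `p = 3`, in the
exceptional shape. -/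
theorem elementary_cases (hS : IsPGroup p S) (hF : F.IsSaturated p) (hp2 : p ≠ 2)
    (hcardS : Nat.card S = p ^ 5) (hab : NoAb p S)
    (hext : ∀ P : Subgroup S, Nat.card P = p ^ 4 → F.IsEssential p (P.map S.subtype) →
      p = 3 ∧ TypeB p S)
    {E₀ : Subgroup S} (hE : F.IsEssential p (E₀.map S.subtype)) (hcard : Nat.card E₀ = p ^ 3)
    (hcom : ∀ x ∈ E₀, ∀ y ∈ E₀, x * y = y * x) (hexp : ∀ x ∈ E₀, x ^ p = 1) :
    p = 3 ∧ TypeB p S := by
  by_contra hgoal
  haveI := hS.isNilpotent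
  set M := Subgroup.normalizer (E₀ : Set S) with hMd
  have hMtop : M ≠ ⊤ := fun h => by
    haveI := Subgroup.normalizer_eq_top_iff.mp h
    exact not_normal_of_elementary hS hF hcardS hE hcard hcom hexp
  have hlt : E₀ < M := Group.normalizerCondition_of_isNilpotent (G := S) E₀
    (lt_top_iff_ne_top.mpr fun h => by
      rw [h, Subgroup.card_top, hcardS] at hcard
      exact absurd (Nat.pow_right_injective hp.out.two_le hcard) (by omega))
  have hMc : Nat.card M = p ^ 4 := by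
    obtain ⟨k, hk⟩ := IsPGroup.iff_card.mp (hS.to_subgroup M)
    have h1 := CfsgLib.PGroups.prime_mul_card_le hS hlt
    have h2 : Nat.card M < p ^ 5 := hcardS ▸ lt_of_le_of_ne (Subgroup.card_le_card_group M)
      fun he => hMtop (Subgroup.eq_top_of_card_eq M he)
    rw [hcard, hk, ← pow_succ'] at h1
    rw [hk] at h2
    rw [hk, le_antisymm (Nat.le_of_lt_succ ((Nat.pow_lt_pow_iff_right hp.out.one_lt).mp h2))
      ((Nat.pow_le_pow_iff_right hp.out.one_lt).mp h1)]
  haveI hMn : M.Normal := normal_of_card hS hcardS hMc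
  have hMne : ¬ F.IsEssential p (M.map S.subtype) := fun h => hgoal (hext M hMc h)
  obtain ⟨x, -, hxM⟩ := SetLike.exists_of_lt (lt_top_iff_ne_top.mpr hMtop)
  set E' := E₀.map (MulAut.conj x).toMonoidHom with hE'
  have hE'M : E' ≤ M := by
    rintro _ ⟨e, he, rfl⟩
    exact hMn.conj_mem e (hlt.le he) x
  have hE'c : Nat.card E' = p ^ 3 := by
    rw [hE', Subgroup.card_map_of_injective (MulEquiv.injective _), hcard]
  have hE'ne : ¬ E' ≤ E₀ := fun he =>
    hxM (SmallEssential.mem_normalizer fun e he' => he ⟨e, he', rfl⟩)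
  set A := E₀ ⊓ E' with hAd
  have hAc : Nat.card A = p ^ 2 := by
    obtain ⟨k, hk⟩ := IsPGroup.iff_card.mp (hS.to_subgroup A)
    have h1 := Subgroup.relIndex_mul_relIndex ⊥ A E₀ bot_le inf_le_left
    rw [Subgroup.relIndex_bot_left, Subgroup.relIndex_bot_left, Subgroup.inf_relIndex_left, hk,
      hcard] at h1
    have h2 := Subgroup.relIndex_mul_relIndex ⊥ E' M bot_le hE'M
    rw [Subgroup.relIndex_bot_left, Subgroup.relIndex_bot_left, hE'c, hMc, pow_succ p 3] at h2
    have h3 := Nat.eq_of_mul_eq_mul_left (pow_pos hp.out.pos 3) h2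
    have h4 : E'.relIndex E₀ ≤ p :=
      (Subgroup.relIndex_le_of_le_right hlt.le (by rw [h3]; exact hp.out.ne_zero)).trans_eq h3
    have h5 : p ^ 3 ≤ p ^ (k + 1) := by
      rw [← h1, pow_succ p k]
      exact Nat.mul_le_mul_left _ h4
    have h6 := (Nat.pow_le_pow_iff_right hp.out.one_lt).mp h5
    have h7 : k ≤ 3 := (Nat.pow_le_pow_iff_right hp.out.one_lt).mp
      (hk ▸ hcard ▸ Subgroup.card_le_of_le (inf_le_left : A ≤ E₀))
    have h8 : k ≠ 3 := fun h => hE'ne <| by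
      have h9 : A = E₀ := Subgroup.eq_of_le_of_card_ge inf_le_left (by rw [hk, h, hcard])
      have h10 : E₀ ≤ E' := h9 ▸ inf_le_right
      rw [Subgroup.eq_of_le_of_card_ge h10 (by rw [hcard, hE'c])]
    rw [hk, show k = 2 by omega]
  have hsup : E₀ ⊔ E' = M := Subgroup.eq_of_le_of_card_ge (sup_le hlt.le hE'M) (by
    rw [hMc, pow_succ' p 3, ← hcard]
    exact CfsgLib.PGroups.prime_mul_card_le hS
      (lt_of_le_of_ne le_sup_left fun he => hE'ne (he ▸ le_sup_right)))
  have hAM : ∀ a ∈ A, ∀ y ∈ M, Commute a y := by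
    intro a ha y hy
    have hle : E₀ ⊔ E' ≤ Subgroup.centralizer ({a} : Set S) := by
      refine sup_le (fun e he => Subgroup.mem_centralizer_singleton_iff.mpr
        (hcom e he a ha.1)) ?_
      rintro _ ⟨e, he, rfl⟩
      obtain ⟨b, hb, hba⟩ := ha.2
      refine Subgroup.mem_centralizer_singleton_iff.mpr ?_
      rw [← hba]
      show MulAut.conj x e * MulAut.conj x b = MulAut.conj x b * MulAut.conj x e
      rw [← map_mul, ← map_mul, hcom e he b hb]
    exact (Subgroup.mem_centralizer_singleton_iff.mp (hle (hsup.ge hy))).symm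
  have hAchar : ∀ a : S, (∀ y ∈ M, Commute a y) → a ∈ A := by
    intro a ha
    refine ⟨mem_of_centralizes hE fun e he => ha e (hlt.le he), x⁻¹ * a * x,
      mem_of_centralizes hE fun e he => ?_, by simp [mul_assoc]⟩
    have h2 := ha (x * e * x⁻¹) (hMn.conj_mem e (hlt.le he) x)
    refine show x⁻¹ * a * x * e = e * (x⁻¹ * a * x) from ?_
    calc x⁻¹ * a * x * e = x⁻¹ * (a * (x * e * x⁻¹)) * x := by group
      _ = x⁻¹ * (x * e * x⁻¹ * a) * x := by rw [h2.eq]
      _ = e * (x⁻¹ * a * x) := by group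
  haveI hAn : A.Normal := ⟨fun a ha g => hAchar _ fun y hy => by
    have h2 := hAM a ha (g⁻¹ * y * g) (by simpa using hMn.conj_mem y hy g⁻¹)
    show g * a * g⁻¹ * y = y * (g * a * g⁻¹)
    calc g * a * g⁻¹ * y = g * (a * (g⁻¹ * y * g)) * g⁻¹ := by group
      _ = g * (g⁻¹ * y * g * a) * g⁻¹ := by rw [h2.eq]
      _ = y * (g * a * g⁻¹) := by group⟩
  obtain ⟨e0, he0, he0A⟩ := SetLike.exists_of_lt (lt_of_le_of_ne (inf_le_left : A ≤ E₀)
    fun h => by
      have h2 : p ^ 2 = p ^ 3 := by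
        rw [← hAc, ← hcard]; exact congrArg (fun H : Subgroup S => Nat.card H) h
      exact absurd (Nat.pow_right_injective hp.out.two_le h2) (by omega))
  set n := ⁅x, e0⁆ with hnd
  have hnM : n ∈ M := by
    rw [hnd, commutatorElement_def]
    exact mul_mem (hMn.conj_mem e0 (hlt.le he0) x) (inv_mem (hlt.le he0))
  have hnE : n ∉ E₀ := by
    intro h
    have h1 : x * e0 * x⁻¹ ∈ A := ⟨by
      have := E₀.mul_mem h he0
      rwa [hnd, commutatorElement_def, inv_mul_cancel_right] at this, ⟨e0, he0, rfl⟩⟩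
    have h5 := hAn.conj_mem _ h1 x⁻¹
    rw [show x⁻¹ * (x * e0 * x⁻¹) * x⁻¹⁻¹ = e0 by group] at h5
    exact he0A h5
  set πA := QuotientGroup.mk' A
  have hcenA : ∀ g h u : S, Commute (πA ⁅g, h⁆) (πA u) := by
    intro g h u
    have hQc : Nat.card (S ⧸ A) ≤ p ^ 3 := by
      have h1 := Subgroup.card_eq_card_quotient_mul_card_subgroup A
      rw [hcardS, hAc, show p ^ 5 = p ^ 3 * p ^ 2 by rw [← pow_add]] at h1
      exact (Nat.eq_of_mul_eq_mul_right (pow_pos hp.out.pos 2) h1).ge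
    have hna : πA x * πA e0 ≠ πA e0 * πA x := fun h1 =>
      hnE (MaxClass.mk_commutator_eq_one_iff.mp h1).1
    rw [map_commutatorElement]
    exact (Subgroup.mem_center_iff.mp ((commutator_facts (hS.to_quotient A) hQc hna).2 _ _) _).symm
  have hnA : ∀ g, ⁅g, n⁆ ∈ A := fun g =>
    MaxClass.mk_commutator_eq_one_iff.mp (hcenA x e0 g).eq.symm
  have hMsup : E₀ ⊔ Subgroup.zpowers n = M :=
    Subgroup.eq_of_le_of_card_ge (sup_le hlt.le (Subgroup.zpowers_le.mpr hnM)) (by
      rw [hMc, pow_succ' p 3, ← hcard]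
      exact CfsgLib.PGroups.prime_mul_card_le hS (lt_of_le_of_ne le_sup_left fun he =>
        hnE (he ▸ Subgroup.mem_sup_right (Subgroup.mem_zpowers n))))
  set c := ⁅n, e0⁆ with hcd
  have hcA : c ∈ A := by
    rw [hcd, ← commutatorElement_inv]
    exact inv_mem (hnA e0)
  have hAe0 : A ⊔ Subgroup.zpowers e0 = E₀ :=
    Subgroup.eq_of_le_of_card_ge (sup_le inf_le_left (Subgroup.zpowers_le.mpr he0)) (by
      rw [hcard, pow_succ' p 2, ← hAc]
      exact CfsgLib.PGroups.prime_mul_card_le hS (lt_of_le_of_ne le_sup_left fun he =>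
        he0A (he.ge (Subgroup.mem_sup_right (Subgroup.mem_zpowers e0)))))
  set C := Subgroup.zpowers c with hCd
  have hdisp : ∀ e ∈ E₀, ⁅n, e⁆ ∈ C := by
    intro e he
    obtain ⟨a, ha, b, ⟨i, rfl⟩, rfl⟩ := Subgroup.mem_sup_of_normal_left.mp (hAe0.ge he)
    have h1 : n * e0 ^ i * n⁻¹ = c ^ i * e0 ^ i := by
      rw [← conj_zpow, ← (show Commute c e0 from hAM c hcA e0 (hlt.le he0)).mul_zpow, hcd,
        commutatorElement_def, inv_mul_cancel_right]
    refine ⟨i, ?_⟩
    show c ^ i = ⁅n, a * e0 ^ i⁆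
    have h2 : Commute a n := hAM a ha n hnM
    calc c ^ i = a * c ^ i * a⁻¹ := by
          rw [((hAM a ha c (hlt.le hcA.1)).zpow_right i).eq, mul_inv_cancel_right]
      _ = a * (n * e0 ^ i * n⁻¹) * (e0 ^ i)⁻¹ * a⁻¹ := by rw [h1]; group
      _ = (a * n) * e0 ^ i * n⁻¹ * (e0 ^ i)⁻¹ * a⁻¹ := by group
      _ = ⁅n, a * e0 ^ i⁆ := by rw [h2.eq, commutatorElement_def]; group
  have hc1 : c ≠ 1 := by
    intro h
    refine hnE (mem_of_centralizes hE fun e he => ?_)
    obtain ⟨i, hi⟩ := Subgroup.mem_zpowers_iff.mp (hdisp e he)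
    rw [h, one_zpow] at hi
    exact commutatorElement_eq_one_iff_commute.mp hi.symm
  have hcp : c ^ p = 1 := hexp c hcA.1
  have hCc : Nat.card C = p := by rw [hCd, Nat.card_zpowers, orderOf_eq_prime hcp hc1]
  have hCA : C ≤ A := Subgroup.zpowers_le.mpr hcA
  have hMM : ∀ y ∈ M, ∀ y' ∈ M, ⁅y, y'⁆ ∈ C := by
    let H : S → Subgroup S := fun y' =>
      { carrier := {y | y ∈ M ∧ ⁅y, y'⁆ ∈ C}
        one_mem' := ⟨one_mem M, by rw [commutatorElement_one_left]; exact one_mem C⟩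
        mul_mem' := by
          rintro a b ⟨haM, ha⟩ ⟨hbM, hb⟩
          refine ⟨mul_mem haM hbM, ?_⟩
          rw [show ⁅a * b, y'⁆ = a * ⁅b, y'⁆ * a⁻¹ * ⁅a, y'⁆ by
            simp only [commutatorElement_def]; group,
            ← (hAM _ (hCA hb) a haM).eq, mul_inv_cancel_right]
          exact mul_mem hb ha
        inv_mem' := by
          rintro a ⟨haM, ha⟩
          refine ⟨inv_mem haM, ?_⟩
          rw [show ⁅a⁻¹, y'⁆ = a⁻¹ * ⁅a, y'⁆⁻¹ * a⁻¹⁻¹ by simp only [commutatorElement_def]; group,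
            ← ((hAM _ (hCA ha) a⁻¹ (inv_mem haM)).inv_left).eq, mul_inv_cancel_right]
          exact inv_mem ha }
    have hH : ∀ y', (∀ e ∈ E₀, ⁅e, y'⁆ ∈ C) → ⁅n, y'⁆ ∈ C → ∀ y ∈ M, ⁅y, y'⁆ ∈ C :=
      fun y' h1 h2 y hy => ((sup_le (fun e he => ⟨hlt.le he, h1 e he⟩)
        (Subgroup.zpowers_le.mpr ⟨hnM, h2⟩) : E₀ ⊔ Subgroup.zpowers n ≤ H y') (hMsup.ge hy)).2
    have h3 : ∀ e ∈ E₀, ∀ y ∈ M, ⁅y, e⁆ ∈ C := fun e he => hH e (fun e' he' => by
      rw [commutatorElement_eq_one_iff_commute.mpr (hcom e' he' e he)]; exact one_mem C) (hdisp e he)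
    have h4 : ∀ y ∈ M, ⁅y, n⁆ ∈ C := hH n (fun e he => by
      rw [← commutatorElement_inv]; exact inv_mem (hdisp e he))
      (by rw [commutatorElement_self]; exact one_mem C)
    intro y hy y' hy'
    refine hH y' (fun e he => ?_) ?_ y hy <;> rw [← commutatorElement_inv]
    exacts [inv_mem (h3 e he y' hy'), inv_mem (h4 y' hy')]
  haveI hCn : C.Normal := ⟨fun a ha g => by
    obtain ⟨i, rfl⟩ := Subgroup.mem_zpowers_iff.mp ha
    rw [← conj_zpow]
    refine Subgroup.zpow_mem _ ?_ i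
    have h1 := hMM _ (hMn.conj_mem n hnM g) _ (hMn.conj_mem e0 (hlt.le he0) g)
    rwa [show ⁅g * n * g⁻¹, g * e0 * g⁻¹⁆ = g * ⁅n, e0⁆ * g⁻¹ by
      simp only [commutatorElement_def]; group] at h1⟩
  have hCcen : ∀ a ∈ C, ∀ g : S, Commute a g := fun a ha g => by
    have h1 := commutator_mem_of_layer hS (A := ⊥) (K := C) bot_le (by simp [hCc]) g ha
    exact (commutatorElement_eq_one_iff_commute.mp (Subgroup.mem_bot.mp h1)).symm
  have hACg : ∀ a ∈ A, ∀ g : S, ⁅g, a⁆ ∈ C := fun a ha g =>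
    commutator_mem_of_layer hS hCA (by rw [hAc, hCc, pow_two]) g ha
  set πC := QuotientGroup.mk' C
  have hAcC : ∀ a ∈ A, ∀ u : S, Commute (πC a) (πC u) := fun a ha u =>
    (MaxClass.mk_commutator_eq_one_iff.mpr (hACg a ha u)).symm
  have hnp : n ^ p ∈ E₀ := by
    haveI : (E₀.subgroupOf M).Normal := Subgroup.normal_in_normalizer
    have h1 := Subgroup.card_eq_card_quotient_mul_card_subgroup (E₀.subgroupOf M)
    rw [hMc, Nat.card_congr (Subgroup.subgroupOfEquivOfLe hlt.le).toEquiv, hcard, pow_succ' p 3] at h1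
    have h2 : (⟨n, hnM⟩ : M) ^ p ∈ E₀.subgroupOf M := by
      rw [← QuotientGroup.eq_one_iff]
      show QuotientGroup.mk' (E₀.subgroupOf M) ((⟨n, hnM⟩ : M) ^ p) = 1
      rw [map_pow, Nat.eq_of_mul_eq_mul_right (pow_pos hp.out.pos 3) h1, pow_card_eq_one']
    exact h2
  have hxsup : M ⊔ Subgroup.zpowers x = ⊤ := Subgroup.eq_top_of_le_card _ (by
    rw [hcardS, pow_succ' p 4, ← hMc]
    exact CfsgLib.PGroups.prime_mul_card_le hS (lt_of_le_of_ne le_sup_left fun he =>
      hxM (he ▸ Subgroup.mem_sup_right (Subgroup.mem_zpowers x))))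
  -- the automorphisms of `S` coming from the torus
  have hbeta : ∀ l m : ℕ, (p : ℤ) ∣ (l : ℤ) * m - 1 →
      ∃ (β : MulAut S) (μ : ℤ) (w : S) (a : S) (d : S), w ∈ M ∧ β x = w * x ^ μ ∧ a ∈ A ∧
        β n = a * n ^ (μ * m) ∧ (p : ℤ) ∣ μ * m - (l : ℤ) * l ∧ β c = c ^ l ∧ d ∈ A ∧ d ∉ C ∧
        β d = d := by
    intro l m hlm
    obtain ⟨T, hT, hTt, hTc, hTy, d, hd, hdC, hTd⟩ := exists_torus_elementary hS hF hE hcard hcom
      hexp hnE hnM (A := A) inf_le_left hAc (fun a ha => (hAM a ha n hnM).symm) hcA hdisp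
      (fun g _ => (hnA g).1) hlm
    obtain ⟨β, hβM, hβE⟩ := exists_extend_top hS hF hcardS hE hcard hMc hMne hnM hnE hT hTt
    have hβc : β c = c ^ l := Subtype.ext ((hβE c hcA.1).trans hTc)
    have hβd : β d = d := Subtype.ext ((hβE d hd.1).trans hTd)
    have hβe : β e0 * (e0 ^ m)⁻¹ ∈ A := hTy e0 he0 _ (hβE e0 he0).symm
    have hβE₀ : ∀ e ∈ E₀, β e ∈ E₀ := fun e he => by
      obtain ⟨y, hy, hye⟩ := exists_el (T (el E₀ e he))
      have : β e = y := Subtype.ext (by rw [hβE e he, ← hye]; rfl)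
      exact this ▸ hy
    obtain ⟨w, hw, b, ⟨μ, rfl⟩, hwx⟩ :=
      Subgroup.mem_sup_of_normal_left.mp (hxsup.ge (Subgroup.mem_top (β x)))
    replace hwx : β x = w * x ^ μ := hwx.symm
    have hβn : β n * (n ^ (μ * m))⁻¹ ∈ A := by
      rw [← QuotientGroup.eq_one_iff]
      show πA (β n * (n ^ (μ * m))⁻¹) = 1
      have h1 : πA (β e0) = πA e0 ^ (m : ℤ) := by
        have := (QuotientGroup.eq_one_iff _).mpr hβe
        rw [zpow_natCast, ← map_pow, ← mul_inv_eq_one, ← map_inv, ← map_mul]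
        exact this
      have h2 : Commute (πA w) (πA e0 ^ (m : ℤ)) :=
        Commute.zpow_right (MaxClass.mk_commutator_eq_one_iff.mpr
          (hCA (hMM w hw e0 (hlt.le he0)))) _
      have h3 : ∀ u, Commute ⁅πA x, πA e0⁆ u := fun u => by
        obtain ⟨v, rfl⟩ := QuotientGroup.mk'_surjective A u
        rw [← map_commutatorElement]
        exact hcenA x e0 v
      rw [map_mul, map_inv, map_zpow, hnd, map_commutatorElement β, hwx,
        map_commutatorElement πA, map_mul, map_zpow, h1,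
        show ⁅πA w * πA x ^ μ, πA e0 ^ (m : ℤ)⁆ =
          πA w * ⁅πA x ^ μ, πA e0 ^ (m : ℤ)⁆ * (πA w)⁻¹ * ⁅πA w, πA e0 ^ (m : ℤ)⁆ by
          simp only [commutatorElement_def]; group,
        commutatorElement_eq_one_iff_commute.mpr h2, mul_one, MaxClass.commutator_zpow_zpow h3,
        ← ((h3 (πA w)).zpow_left _).eq, mul_inv_cancel_right, map_commutatorElement, mul_inv_cancel]
    -- the exponent
    have hμ : (p : ℤ) ∣ μ * m - (l : ℤ) * l := by
      set a := β n * (n ^ (μ * m))⁻¹ with had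
      have hpow : ∀ (k : ℕ) (z : ↥(E₀.map S.subtype)),
          (((conjAut (E₀.map S.subtype) n ((mem_normalizer_map_iff n).mpr hnM) ^ k) z :
            ↥(E₀.map S.subtype)) : Ω) = (n : Ω) ^ k * z * ((n : Ω) ^ k)⁻¹ := by
        intro k
        induction k with
        | zero => intro z; simp
        | succ k ih => intro z; rw [pow_succ' _ k, MulAut.mul_apply, conjAut_apply, ih]; group
      have hcomm : ∀ e ∈ E₀, Commute ((n ^ (l * l))⁻¹ * β n) (β e) := by
        intro e he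
        have hne' : n * e * n⁻¹ ∈ E₀ := (Subgroup.mem_normalizer_iff.mp hnM e).mp he
        have h1 : T (conjAut (E₀.map S.subtype) n ((mem_normalizer_map_iff n).mpr hnM) (el E₀ e he)) =
            (conjAut (E₀.map S.subtype) n ((mem_normalizer_map_iff n).mpr hnM) ^ (l * l))
              (T (el E₀ e he)) := DFunLike.congr_fun hTt (el E₀ e he)
        have h3 : β (n * e * n⁻¹) = n ^ (l * l) * β e * (n ^ (l * l))⁻¹ := Subtype.ext (by
          rw [hβE _ hne', show el E₀ _ hne' = conjAut (E₀.map S.subtype) n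
            ((mem_normalizer_map_iff n).mpr hnM) (el E₀ e he) from Subtype.ext rfl, h1, hpow,
            ← hβE e he]
          rfl)
        rw [map_mul, map_mul, map_inv] at h3
        show (n ^ (l * l))⁻¹ * β n * β e = β e * ((n ^ (l * l))⁻¹ * β n)
        calc (n ^ (l * l))⁻¹ * β n * β e
            = (n ^ (l * l))⁻¹ * (β n * β e * (β n)⁻¹) * β n := by group
          _ = _ := by rw [h3]; group
      have hu : (n ^ (l * l))⁻¹ * β n ∈ E₀ := by
        refine mem_of_centralizes hE fun e he => ?_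
        have hmap : E₀.map β.toMonoidHom = E₀ := Subgroup.eq_of_le_of_card_ge
          (by rintro _ ⟨e, he, rfl⟩; exact hβE₀ e he)
          (by rw [Subgroup.card_map_of_injective (MulEquiv.injective β)])
        obtain ⟨e', he', rfl⟩ := hmap.ge he
        exact hcomm e' he'
      refine dvd_of_zpow_mem hnp hnE ?_
      rw [show β n = a * n ^ (μ * m) by rw [had, inv_mul_cancel_right], ← zpow_natCast, ← zpow_neg,
        ← mul_assoc, ← ((hAM a hβn n hnM).zpow_right _).eq, mul_assoc, ← zpow_add] at hu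
      rw [show μ * m - (l : ℤ) * l = -((l * l : ℕ) : ℤ) + μ * m by push_cast; ring]
      exact (Subgroup.mul_mem_cancel_left E₀ hβn.1).mp hu
    exact ⟨β, μ, w, β n * (n ^ (μ * m))⁻¹, d, hw, hwx, hβn, (inv_mul_cancel_right _ _).symm, hμ,
      hβc, hd, hdC, hβd⟩
  -- `x` may be taken to commute with `n`
  obtain ⟨i, hi⟩ : ∃ i : ℤ, c ^ i = ⁅x, n⁆ := by
    refine Subgroup.mem_zpowers_iff.mp ?_
    have hp1 : ((p - 1 : ℕ) : ℤ) = (p : ℤ) - 1 := by have := hp.out.one_lt; omega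
    obtain ⟨β, μ, w, a, d, hw, hwx, ha, han, hμ, hβc, hd, hdC, hβd⟩ := hbeta (p - 1) (p - 1)
      ⟨(p : ℤ) - 2, by rw [hp1]; ring⟩
    obtain ⟨u, ⟨i, rfl⟩, v, ⟨j, rfl⟩, huv⟩ : ∃ u ∈ C, ∃ v ∈ Subgroup.zpowers d, u * v = ⁅x, n⁆ := by
      refine Subgroup.mem_sup_of_normal_left.mp ((Subgroup.eq_of_le_of_card_ge
        (sup_le hCA (Subgroup.zpowers_le.mpr hd)) ?_).ge (hnA x))
      rw [hAc, pow_two]
      nth_rw 2 [← hCc]
      exact CfsgLib.PGroups.prime_mul_card_le hS (lt_of_le_of_ne le_sup_left fun he =>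
        hdC (he ▸ Subgroup.mem_sup_right (Subgroup.mem_zpowers d)))
    simp only at huv
    have hπc : πC c = 1 := (QuotientGroup.eq_one_iff c).mpr (Subgroup.mem_zpowers c)
    have hπ : ⁅πC x, πC n⁆ = πC d ^ j := by
      rw [← map_commutatorElement, ← huv, map_mul, map_zpow, map_zpow, hπc, one_zpow, one_mul]
    have h3 : ∀ u, Commute ⁅πC x, πC n⁆ u := fun u => by
      obtain ⟨v, rfl⟩ := QuotientGroup.mk'_surjective C u
      rw [← map_commutatorElement]
      exact hAcC _ (hnA x) v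
    have hw' : ∀ y ∈ M, Commute (πC w) (πC y) := fun y hy =>
      MaxClass.mk_commutator_eq_one_iff.mpr (hMM w hw y hy)
    have h4 : πC d ^ j = (πC d ^ j) ^ (μ * (μ * (p - 1 : ℕ))) := by
      have h5 := congrArg (fun y => πC (β y)) huv
      simp only [map_mul, map_zpow, hβc, hβd, map_commutatorElement, hwx, han] at h5
      rw [map_pow, hπc, one_pow, one_zpow, one_mul] at h5
      conv_lhs => rw [h5]
      rw [show ∀ (W X A' N : S ⧸ C), ⁅W * X, A' * N⁆ =
          W * (⁅X, A'⁆ * (A' * ⁅X, N⁆ * A'⁻¹)) * W⁻¹ * ⁅W, A' * N⁆ from fun W X A' N => by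
          simp only [commutatorElement_def]; group,
        commutatorElement_eq_one_iff_commute.mpr
          ((hw' a (hlt.le ha.1)).mul_right ((hw' n hnM).zpow_right _)),
        commutatorElement_eq_one_iff_commute.mpr ((hAcC a ha x).zpow_right μ).symm, one_mul, mul_one,
        MaxClass.commutator_zpow_zpow h3, ← ((h3 (πC a)).zpow_left _).eq, mul_inv_cancel_right,
        ← ((h3 (πC w)).zpow_left _).eq, mul_inv_cancel_right, hπ]
    have hj : (p : ℤ) ∣ j := by
      rw [← zpow_mul, ← mul_inv_eq_one, ← zpow_neg, ← zpow_add, ← map_zpow] at h4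
      have h6 := dvd_of_zpow_mem (by rw [hexp d hd.1]; exact one_mem C) hdC
        ((QuotientGroup.eq_one_iff _).mp h4)
      obtain ⟨k, hk⟩ := h6
      obtain ⟨k', hk'⟩ := hμ
      rw [hp1] at hk hk'
      have h7 : (p : ℤ) ∣ 2 * j :=
        ⟨k + j * ((μ - p + 2 - k') + μ * ((p : ℤ) - 2 + k')), by
          linear_combination hk + (j * μ - j) * hk'⟩
      exact ((Nat.prime_iff_prime_int.mp hp.out).dvd_or_dvd h7).resolve_left fun h2 =>
        hp2 ((Nat.prime_dvd_prime_iff_eq hp.out Nat.prime_two).mp (Int.natCast_dvd_natCast.mp h2))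
    rw [← huv]
    refine C.mul_mem (Subgroup.zpow_mem _ (Subgroup.mem_zpowers c) i) ?_
    rw [zpow_eq_zpow_of_dvd (hexp d hd.1) (show (p : ℤ) ∣ j - 0 by rwa [sub_zero]), zpow_zero]
    exact one_mem C
  set x' := x * e0 ^ i with hx'
  have hx'M : x' ∉ M := fun h =>
    hxM ((Subgroup.mul_mem_cancel_right M (hlt.le (E₀.zpow_mem he0 i))).mp h)
  have he0n : ⁅e0 ^ i, n⁆ = (c ^ i)⁻¹ := by
    rw [← commutatorElement_inv, MaxClass.commutator_zpow_right (hCcen c (Subgroup.mem_zpowers c))]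
  have hx'n : Commute x' n := by
    refine commutatorElement_eq_one_iff_commute.mp ?_
    rw [hx', show ⁅x * e0 ^ i, n⁆ = x * ⁅e0 ^ i, n⁆ * x⁻¹ * ⁅x, n⁆ by
      simp only [commutatorElement_def]; group, he0n,
      (hCcen _ (inv_mem (Subgroup.zpow_mem _ (Subgroup.mem_zpowers c) i)) x).eq.symm,
      mul_inv_cancel_right, ← hi, inv_mul_cancel]
  have hx'e : ⁅x', e0⁆ = n := by
    rw [hx', show ⁅x * e0 ^ i, e0⁆ = x * ⁅e0 ^ i, e0⁆ * x⁻¹ * ⁅x, e0⁆ by
      simp only [commutatorElement_def]; group,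
      commutatorElement_eq_one_iff_commute.mpr ((Commute.refl e0).zpow_left i), mul_one,
      mul_inv_cancel, one_mul]
  obtain ⟨d₁, hd₁, hd₁x⟩ : ∃ d₁ ∈ A, ⁅x', d₁⁆ ≠ 1 := by
    by_contra! hall
    refine hx'M (sup_le (fun a ha => hlt.le ha.1) (Subgroup.zpowers_le.mpr hnM)
      (hab.mem hS (A := A ⊔ Subgroup.zpowers n) ?_ (fun a ha b hb => commute_sup_zpowers
        (fun a ha b hb => hAM a ha b (hlt.le hb.1)) (fun a ha => hAM a ha n hnM) ha hb) ?_))
    · rw [pow_succ' p 2, ← hAc]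
      exact CfsgLib.PGroups.prime_mul_card_le hS (lt_of_le_of_ne le_sup_left fun he =>
        hnE (he ▸ Subgroup.mem_sup_right (Subgroup.mem_zpowers n) : n ∈ A).1)
    · intro a ha
      have hle : A ⊔ Subgroup.zpowers n ≤ Subgroup.centralizer ({x'} : Set S) := by
        refine sup_le (fun b hb => Subgroup.mem_centralizer_singleton_iff.mpr ?_)
          (Subgroup.zpowers_le.mpr (Subgroup.mem_centralizer_singleton_iff.mpr hx'n.eq.symm))
        exact (commutatorElement_eq_one_iff_commute.mp (hall b hb)).eq.symm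
      exact Subgroup.mem_centralizer_singleton_iff.mp (hle ha)
  have hd₁C : ⁅x', d₁⁆ ∈ C := hACg d₁ hd₁ x'
  have hzC : Subgroup.zpowers ⁅x', d₁⁆ = C := Subgroup.eq_of_le_of_card_ge
    (Subgroup.zpowers_le.mpr hd₁C) (by
      rw [hCc, Nat.card_zpowers, orderOf_eq_prime (hexp _ (hCA hd₁C).1) hd₁x])
  have hTB : TypeB p S := ⟨x', e0, d₁, hd₁x, hCcen _ hd₁C, hexp _ (hCA hd₁C).1,
    hcom e0 he0 d₁ hd₁.1, by rw [hx'e]; exact (hAM d₁ hd₁ n hnM).symm,
    by rw [hx'e]; exact hx'n.symm, by rw [hx'e, hzC]; exact Subgroup.mem_zpowers c,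
    by rw [hx'e]; exact hc1, by rw [hexp e0 he0]; exact one_mem _,
    by rw [hexp d₁ hd₁.1]; exact one_mem _⟩
  -- for `p ≥ 5` the subgroup `A` is central
  refine hgoal ⟨?_, hTB⟩
  by_contra hp3
  obtain ⟨m, hm⟩ := exists_mul_modEq (p := p) (i := 2) (fun h2 =>
    hp2 ((Nat.prime_dvd_prime_iff_eq hp.out Nat.prime_two).mp (Int.natCast_dvd_natCast.mp h2))) 1
  obtain ⟨β, μ, w, a, d, hw, hwx, ha, han, hμ, hβc, hd, hdC, hβd⟩ := hbeta 2 m (by exact_mod_cast hm)
  obtain ⟨k, hk⟩ := Subgroup.mem_zpowers_iff.mp (hACg d hd x)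
  have h3 : ∀ u, Commute ⁅x, d⁆ u := hCcen _ (hACg d hd x)
  have h4 : c ^ (2 * k) = c ^ (k * μ) := by
    have h5 := congrArg β hk
    rw [map_zpow, hβc, map_commutatorElement, hwx, hβd,
      show ⁅w * x ^ μ, d⁆ = w * ⁅x ^ μ, d⁆ * w⁻¹ * ⁅w, d⁆ by simp only [commutatorElement_def]; group,
      commutatorElement_eq_one_iff_commute.mpr (hAM d hd w hw).symm, mul_one] at h5
    have h6 := MaxClass.commutator_zpow_zpow h3 μ 1
    rw [zpow_one, mul_one] at h6
    rw [h6, ← ((h3 w).zpow_left μ).eq, mul_inv_cancel_right, ← hk, ← zpow_natCast, ← zpow_mul,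
      ← zpow_mul] at h5
    exact h5
  have hk0 : (p : ℤ) ∣ k := by
    rw [← mul_inv_eq_one, ← zpow_neg, ← zpow_add] at h4
    have h5 : (p : ℤ) ∣ k * (2 - μ) := by
      rw [show k * (2 - μ) = 2 * k + -(k * μ) by ring]
      exact dvd_of_zpow_mem (H := ⊥) (Subgroup.mem_bot.mpr hcp) (fun h => hc1 (Subgroup.mem_bot.mp h))
        (Subgroup.mem_bot.mpr h4)
    refine ((Nat.prime_iff_prime_int.mp hp.out).dvd_or_dvd h5).resolve_right fun h6 => hp3 ?_
    obtain ⟨k1, hk1⟩ := h6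
    obtain ⟨k2, hk2⟩ := hμ
    obtain ⟨k3, hk3⟩ := hm
    have h7 : (p : ℤ) ∣ (3 : ℕ) := ⟨k3 - k2 - k1 * (m : ℤ), by
      push_cast at hk2 ⊢
      linear_combination hk3 - hk2 - (m : ℤ) * hk1⟩
    exact (Nat.prime_dvd_prime_iff_eq hp.out Nat.prime_three).mp (Int.natCast_dvd_natCast.mp h7)
  refine hd₁x ?_
  have hxd : Commute x d := commutatorElement_eq_one_iff_commute.mp (by
    rw [← hk, zpow_eq_zpow_of_dvd hcp (show (p : ℤ) ∣ k - 0 by rwa [sub_zero]), zpow_zero])
  have hdx' : Commute x' d := hxd.mul_left (((show Commute e0 d from hcom e0 he0 d hd.1)).zpow_left i)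
  have hle : C ⊔ Subgroup.zpowers d ≤ Subgroup.centralizer ({x'} : Set S) :=
    sup_le (fun b hb => Subgroup.mem_centralizer_singleton_iff.mpr (hCcen b hb x').eq)
      (Subgroup.zpowers_le.mpr (Subgroup.mem_centralizer_singleton_iff.mpr hdx'.eq.symm))
  have hsupA : C ⊔ Subgroup.zpowers d = A := Subgroup.eq_of_le_of_card_ge
    (sup_le hCA (Subgroup.zpowers_le.mpr hd)) (by
      rw [hAc, pow_two]
      nth_rw 2 [← hCc]
      exact CfsgLib.PGroups.prime_mul_card_le hS (lt_of_le_of_ne le_sup_left fun he =>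
        hdC (he ▸ Subgroup.mem_sup_right (Subgroup.mem_zpowers d))))
  exact commutatorElement_eq_one_iff_commute.mpr
    (Subgroup.mem_centralizer_singleton_iff.mp (hle (hsupA.ge hd₁))).symm

end CfsgLib.OrderDegrees.FusFifth
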