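import Cfsg.Agent.Lib.OrderDegrees.FusFifth.Quot

/-!
Elementary abelian essential subgroups of order `p ^ 3`: the transvection data, and the normal case.
-/

set_option autoImplicit false
set_option linter.style.haveILetI false
set_option linter.unusedSectionVars false
set_option linter.unusedVariables false

open scoped commutatorElement

namespace CfsgLib.OrderDegrees.FusFifth

open Cfsg Cfsg.FusionSystem CfsgLib.Alperin CfsgLib.FusionExamples CfsgLib.FusionExamples.SmallEssential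

variable {p : ℕ} [hp : Fact p.Prime] {Ω : Type*} [Group Ω] {S : Subgroup Ω} [Finite S]
  {F : FusionSystem S}

/-- A centric subgroup contains every element centralizing it. -/
theorem mem_of_centralizes {E₀ : Subgroup S} (hE : F.IsEssential p (E₀.map S.subtype)) {g : S}
    (hg : ∀ e ∈ E₀, Commute g e) : g ∈ E₀ := by
  obtain ⟨e, he, heg⟩ := hE.1.2 (E₀.map S.subtype) (isConj_refl F (Subgroup.map_subtype_le E₀))
    (show (g : Ω) ∈ centralizerIn S (E₀.map S.subtype) from ⟨g.2, by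
      rintro _ ⟨e, he, rfl⟩
      exact congrArg Subtype.val (hg e he).eq.symm⟩)
  exact (Subtype.ext heg : e = g) ▸ he

section

variable {E₀ : Subgroup S}

/-- The transvection data with the torus elements, read in `S`. -/
theorem exists_torus_elementary (hS : IsPGroup p S) (hF : F.IsSaturated p)
    (hE : F.IsEssential p (E₀.map S.subtype)) (hcard : Nat.card E₀ = p ^ 3)
    (hcom : ∀ x ∈ E₀, ∀ y ∈ E₀, x * y = y * x) (hexp : ∀ x ∈ E₀, x ^ p = 1)
    {n₀ : S} (hn₀ : n₀ ∉ E₀) (hn : n₀ ∈ Subgroup.normalizer (E₀ : Set S)) {A : Subgroup S}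
    (hA : A ≤ E₀) (hAcard : Nat.card A = p ^ 2) (hAfix : ∀ a ∈ A, Commute n₀ a) {c : S} (hc : c ∈ A)
    (hdisp : ∀ e ∈ E₀, ⁅n₀, e⁆ ∈ Subgroup.zpowers c)
    (hcent : ∀ g ∈ Subgroup.normalizer (E₀ : Set S), ⁅g, n₀⁆ ∈ E₀) {l m : ℕ}
    (hlm : (p : ℤ) ∣ (l : ℤ) * m - 1) :
    ∃ T ∈ F.autGroup (E₀.map S.subtype),
      T * conjAut (E₀.map S.subtype) n₀ ((mem_normalizer_map_iff n₀).mpr hn) =
        conjAut (E₀.map S.subtype) n₀ ((mem_normalizer_map_iff n₀).mpr hn) ^ (l * l) * T ∧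
      ((T (el E₀ c (hA hc)) : ↥(E₀.map S.subtype)) : Ω) = ((c ^ l : S) : Ω) ∧
      (∀ (e : S) (he : e ∈ E₀) (y : S),
        ((T (el E₀ e he) : ↥(E₀.map S.subtype)) : Ω) = (y : Ω) → y * (e ^ m)⁻¹ ∈ A) ∧
      ∃ (d : S) (hd : d ∈ A), d ∉ Subgroup.zpowers c ∧
        ((T (el E₀ d (hA hd)) : ↥(E₀.map S.subtype)) : Ω) = (d : Ω) := by
  set E := E₀.map S.subtype with hEd
  have hEle : E ≤ S := Subgroup.map_subtype_le E₀
  haveI := finite_of_le hEle
  haveI := finite_autGroup F hEle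
  have hcardE : Nat.card E = p ^ 3 := by rw [hEd, Subgroup.card_subtype, hcard]
  letI : CommGroup E := { (inferInstance : Group E) with
    mul_comm := by
      rintro ⟨_, x, hx, rfl⟩ ⟨_, y, hy, rfl⟩
      exact Subtype.ext (show (x : Ω) * y = y * x from congrArg Subtype.val (hcom x hx y hy)) }
  have hn' := (mem_normalizer_map_iff n₀).mpr hn
  set X := F.autGroup E
  obtain ⟨-, -, R, hR⟩ := centralized_automized_of_fullyNormalized hS hF hE.2.1
  set t : X := ⟨conjAut E n₀ hn', autInducedBy_le_autGroup F hEle (conjAut_mem n₀.2 hn')⟩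
  have hInn : Inn E = ⊥ := by
    refine le_bot_iff.mp ?_
    rintro _ ⟨u, rfl⟩
    refine Subgroup.mem_bot.mpr (MulEquiv.ext fun z => ?_)
    show u * z * u⁻¹ = z
    rw [mul_comm u z, mul_inv_cancel_right]
  obtain ⟨hnI, Y₀, hY₀⟩ := hE.2.2
  haveI := hnI
  set π := QuotientGroup.mk' ((Inn E).subgroupOf X)
  have hπinj : Function.Injective π := by
    rw [← MonoidHom.ker_eq_bot_iff, QuotientGroup.ker_mk', hInn, Subgroup.bot_subgroupOf]
  let T' : Sylow p (X ⧸ (Inn E).subgroupOf X) := R.mapSurjective (QuotientGroup.mk'_surjective _)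
  obtain ⟨Y', hY'ne, hY'⟩ := exists_core_le_of_stronglyPEmbedded hY₀ T'
  have hcore : kGeneratedCore p 1 (R : Subgroup X) ≤ Y'.comap π := by
    refine iSup_le fun Q n hn => ?_
    obtain ⟨Q, hQ, hQr⟩ := Q
    refine normalizer_le_of_core_le hY' (Q := Q.map π) (Subgroup.map_mono hQ) ?_ ?_
    · intro hb
      refine hQr fun B _ _ => ?_
      haveI : Subsingleton Q := by
        rw [(Subgroup.map_eq_bot_iff_of_injective _ hπinj).mp hb]; infer_instance
      simp [Nat.card_unique]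
    · exact Subgroup.le_normalizer_map π ⟨n, hn, rfl⟩
  let AV : Subgroup E := (A.map S.subtype).subgroupOf E
  let cV : E := el E₀ c (hA hc)
  have hconjE : ∀ e : S, (⁅n₀, e⁆ : S) * e = n₀ * e * n₀⁻¹ := fun e => by
    rw [commutatorElement_def, inv_mul_cancel_right]
  have D : Transvection.Data p X R (Y'.comap π) t AV cV := by
    refine ⟨?_, hcardE, ?_, hcore, ?_, ?_, ?_, ?_, ⟨c, hc, rfl⟩, ?_, ?_⟩
    · rintro ⟨_, x, hx, rfl⟩
      exact Subtype.ext (congrArg Subtype.val (hexp x hx) :)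
    · rw [show Nat.card AV = Nat.card (A.map S.subtype) from
        Nat.card_congr (Subgroup.subgroupOfEquivOfLe (Subgroup.map_mono hA)).toEquiv,
        Subgroup.card_subtype, hAcard]
    · intro htop
      refine hY'ne (eq_top_iff.mpr fun q _ => ?_)
      obtain ⟨x, rfl⟩ := QuotientGroup.mk'_surjective _ q
      exact htop.ge (Subgroup.mem_top x)
    · rw [hR]
      exact conjAut_mem n₀.2 hn'
    · intro q hq
      rw [hR] at hq
      obtain ⟨g, hg, hgx⟩ := mem_autInducedBy_iff.mp (Subgroup.mem_subgroupOf.mp hq)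
      set g' : S := ⟨g, hg⟩
      have hgN : g' ∈ Subgroup.normalizer (E₀ : Set S) :=
        (mem_normalizer_map_iff g').mp (normalizer_of_induced hgx)
      refine Subtype.ext (MulEquiv.ext ?_)
      rintro ⟨_, e, he, rfl⟩
      refine Subtype.ext ?_
      have h1 : ((t : MulAut E) ⟨_, e, he, rfl⟩ : E).1 = (n₀ * e * n₀⁻¹ : S) := rfl
      show (((q : MulAut E) ((t : MulAut E) ⟨_, e, he, rfl⟩)) : Ω) =
        ((t : MulAut E) ((q : MulAut E) ⟨_, e, he, rfl⟩) : E)
      rw [hgx, h1]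
      show g * ((n₀ * e * n₀⁻¹ : S) : Ω) * g⁻¹ = n₀ * ((q : MulAut E) ⟨_, e, he, rfl⟩ : E) * (n₀ : Ω)⁻¹
      rw [hgx]
      have h3 : g' * e * g'⁻¹ ∈ E₀ := (Subgroup.mem_normalizer_iff.mp hgN e).mp he
      have h2 : Commute ⁅g', n₀⁆ (n₀ * (g' * e * g'⁻¹) * n₀⁻¹) :=
        hcom _ (hcent g' hgN) _ ((Subgroup.mem_normalizer_iff.mp hn _).mp h3)
      have h4 : g' * (n₀ * e * n₀⁻¹) * g'⁻¹ = n₀ * (g' * e * g'⁻¹) * n₀⁻¹ := by
        calc g' * (n₀ * e * n₀⁻¹) * g'⁻¹
            = ⁅g', n₀⁆ * (n₀ * (g' * e * g'⁻¹) * n₀⁻¹) * ⁅g', n₀⁆⁻¹ := by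
              rw [commutatorElement_def]; group
          _ = _ := by rw [h2.eq, mul_inv_cancel_right]
      exact congrArg Subtype.val h4
    · intro h1
      refine hn₀ (mem_of_centralizes hE fun e he => ?_)
      have h2 := congrArg Subtype.val (DFunLike.congr_fun (congrArg Subtype.val h1) ⟨_, e, he, rfl⟩)
      exact Subtype.ext (mul_inv_eq_iff_eq_mul.mp h2 : (n₀ : Ω) * e = e * n₀)
    · rintro ⟨x, hx⟩ ⟨a, ha, hae⟩
      refine Subtype.ext ?_
      show (n₀ : Ω) * x * (n₀ : Ω)⁻¹ = x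
      rw [← (show (a : Ω) = x from hae)]
      show ((n₀ * a * n₀⁻¹ : S) : Ω) = a
      rw [(hAfix a ha).eq, mul_inv_cancel_right]
    · rintro ⟨_, e, he, rfl⟩
      obtain ⟨i, hi⟩ := Subgroup.mem_zpowers_iff.mp (hdisp e he)
      refine ⟨i, Subtype.ext ?_⟩
      show ((cV ^ i : E) : Ω) = ((e : Ω))⁻¹ * ((n₀ * e * n₀⁻¹ : S) : Ω)
      rw [Subgroup.coe_zpow, ← hconjE e, ← hi]
      show (c : Ω) ^ i = (e : Ω)⁻¹ * ((c ^ i * e : S) : Ω)
      rw [hcom _ (Subgroup.zpow_mem _ (hA hc) i) e he, Subgroup.coe_mul, inv_mul_cancel_left,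
        Subgroup.coe_zpow]
  obtain ⟨h, hhc, -, hhy, ⟨d, hd, hdc, hhd⟩, hht⟩ := exists_torus_data D hlm
  refine ⟨h, h.2, hht, ?_, fun e he y hy => ?_, ?_⟩
  · exact (congrArg Subtype.val hhc).trans (by simp [cV])
  · obtain ⟨a, ha, hae⟩ := hhy (el E₀ e he)
    have h1 : a = y * (e ^ m)⁻¹ := Subtype.ext (by
      show (a : Ω) = _
      rw [show (a : Ω) = _ from hae, map_mul, map_inv, map_pow]
      simp only [Subgroup.coe_subtype, hy, coe_el, Subgroup.coe_mul, Subgroup.coe_inv, Subgroup.coe_pow])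
    exact h1 ▸ ha
  · obtain ⟨a, ha, hae⟩ := hd
    have hd' : el E₀ a (hA ha) = d := Subtype.ext hae
    refine ⟨a, ha, fun hac => hdc ?_, ?_⟩
    · obtain ⟨i, hi⟩ := Subgroup.mem_zpowers_iff.mp hac
      refine ⟨i, Subtype.ext ?_⟩
      show ((cV ^ i : E) : Ω) = d
      rw [Subgroup.coe_zpow]
      exact ((congrArg Subtype.val hi :) : (c : Ω) ^ i = a).trans hae
    · rw [hd', hhd]
      exact hae.symm

/-- A group of order `p ^ 4` inside one of order `p ^ 5` is normal. -/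
theorem normal_of_card (hS : IsPGroup p S) (hcardS : Nat.card S = p ^ 5) {M : Subgroup S}
    (hM : Nat.card M = p ^ 4) : M.Normal := by
  haveI := hS.isNilpotent
  have hlt : M < Subgroup.normalizer (M : Set S) :=
    Group.normalizerCondition_of_isNilpotent (G := S) M (lt_top_iff_ne_top.mpr fun h => by
      rw [h, Subgroup.card_top, hcardS] at hM
      exact absurd (Nat.pow_right_injective hp.out.two_le hM) (by omega))
  refine Subgroup.normalizer_eq_top_iff.mp (Subgroup.eq_top_of_le_card _ ?_)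
  have h1 := CfsgLib.PGroups.prime_mul_card_le hS hlt
  rwa [hM, ← pow_succ', ← hcardS] at h1

/-- An element displacing `E₀` into a subgroup of order `p` fixes a subgroup of order `p ^ 2`. -/
theorem card_fixed (hS : IsPGroup p S) (hE : F.IsEssential p (E₀.map S.subtype))
    (hcard : Nat.card E₀ = p ^ 3) (hcom : ∀ x ∈ E₀, ∀ y ∈ E₀, x * y = y * x)
    {n₀ : S} (hn₀ : n₀ ∉ E₀) {c : S} (hc : c ∈ E₀) (hcp : c ^ p = 1)
    (hdisp : ∀ e ∈ E₀, ⁅n₀, e⁆ ∈ Subgroup.zpowers c) :
    Nat.card (E₀ ⊓ Subgroup.centralizer ({n₀} : Set S) : Subgroup S) = p ^ 2 := by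
  let f : E₀ →* S :=
    { toFun := fun e => ⁅n₀, (e : S)⁆
      map_one' := commutatorElement_one_right _
      map_mul' := fun a b => by
        have hc' : Commute ⁅n₀, (b : S)⁆ (a : S) :=
          hcom _ ((Subgroup.zpowers_le.mpr hc) (hdisp _ b.2)) _ a.2
        rw [Subgroup.coe_mul, show ⁅n₀, (a : S) * b⁆ = ⁅n₀, (a : S)⁆ * ((a : S) * ⁅n₀, (b : S)⁆ * (a : S)⁻¹) by
          simp only [commutatorElement_def]; group, ← hc'.eq, mul_inv_cancel_right] }
  have hker : f.ker.map E₀.subtype = E₀ ⊓ Subgroup.centralizer ({n₀} : Set S) := by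
    ext y
    constructor
    · rintro ⟨e, he, rfl⟩
      exact ⟨e.2, Subgroup.mem_centralizer_singleton_iff.mpr
        (commutatorElement_eq_one_iff_commute.mp (he : f e = 1)).eq.symm⟩
    · intro hy
      exact ⟨⟨y, hy.1⟩, commutatorElement_eq_one_iff_commute.mpr
        (Subgroup.mem_centralizer_singleton_iff.mp hy.2).symm, rfl⟩
  have hne : f.range ≠ ⊥ := fun hb => hn₀ (mem_of_centralizes hE fun e he =>
    commutatorElement_eq_one_iff_commute.mp (Subgroup.mem_bot.mp (hb ▸ ⟨⟨e, he⟩, rfl⟩)))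
  have hrange : f.range ≤ Subgroup.zpowers c := by rintro _ ⟨e, rfl⟩; exact hdisp _ e.2
  have hz : Nat.card (Subgroup.zpowers c) = p := by
    rw [Nat.card_zpowers]
    refine orderOf_eq_prime hcp fun h => hne (le_bot_iff.mp (hrange.trans ?_))
    rw [h, Subgroup.zpowers_one_eq_bot]
  have hr : Nat.card f.range = p :=
    (hp.out.eq_one_or_self_of_dvd _ (hz ▸ Subgroup.card_dvd_of_le hrange)).resolve_left
      fun h => hne (Subgroup.card_eq_one.mp h)
  have h1 := f.ker.card_mul_index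
  rw [Subgroup.index_ker, hr, hcard, pow_succ] at h1
  rw [← hker, Subgroup.card_subtype]
  exact Nat.eq_of_mul_eq_mul_right hp.out.pos h1

/-- An elementary abelian essential subgroup of order `p ^ 3` is not normal. -/
theorem not_normal_of_elementary (hS : IsPGroup p S) (hF : F.IsSaturated p)
    (hcardS : Nat.card S = p ^ 5) (hE : F.IsEssential p (E₀.map S.subtype))
    (hcard : Nat.card E₀ = p ^ 3) (hcom : ∀ x ∈ E₀, ∀ y ∈ E₀, x * y = y * x)
    (hexp : ∀ x ∈ E₀, x ^ p = 1) [E₀.Normal] : False := by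
  have hEne : E₀ ≠ ⊥ := fun h => by
    rw [h, Subgroup.card_bot] at hcard
    exact absurd hcard.symm (Nat.one_lt_pow (by omega) hp.out.one_lt).ne'
  obtain ⟨c, hc, hc1⟩ := CfsgLib.Transfer.exists_mem_inf_center_ne_one hS hEne
  set C := Subgroup.zpowers c
  haveI : C.Normal := ⟨fun x hx g => by
    rw [Subgroup.mem_center_iff.mp ((Subgroup.zpowers_le.mpr hc.2) hx) g, mul_inv_cancel_right]
    exact hx⟩
  have hcp := hexp c hc.1
  have hCc : Nat.card C = p := by rw [Nat.card_zpowers, orderOf_eq_prime hcp hc1]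
  set π := QuotientGroup.mk' C
  have hEπ : E₀.map π ≠ ⊥ := by
    intro h
    rw [Subgroup.map_eq_bot_iff, QuotientGroup.ker_mk'] at h
    have h1 := Subgroup.card_le_of_le h
    rw [hcard, hCc] at h1
    exact absurd h1 (not_le.mpr (by nlinarith [hp.out.two_le, pow_pos hp.out.pos 2]))
  haveI : (E₀.map π).Normal := (inferInstance : E₀.Normal).map π (QuotientGroup.mk'_surjective C)
  obtain ⟨e', he', he'1⟩ := CfsgLib.Transfer.exists_mem_inf_center_ne_one (hS.to_quotient C) hEπ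
  obtain ⟨e₂, he₂, rfl⟩ := he'.1
  have he₂C : e₂ ∉ C := fun h => he'1 ((QuotientGroup.eq_one_iff e₂).mpr h)
  set B := C ⊔ Subgroup.zpowers e₂
  have hBE : B ≤ E₀ := sup_le (Subgroup.zpowers_le.mpr hc.1) (Subgroup.zpowers_le.mpr he₂)
  have hBcom : ∀ b ∈ B, ∀ g : S, Commute (π g) (π b) := by
    intro b hb g
    have hle : B ≤ (Subgroup.center (S ⧸ C)).comap π := sup_le (fun x hx => by
        rw [Subgroup.mem_comap, show π x = 1 from (QuotientGroup.eq_one_iff x).mpr hx]; exact one_mem _)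
      (Subgroup.zpowers_le.mpr he'.2)
    exact Subgroup.mem_center_iff.mp (hle hb) (π g)
  obtain ⟨e₃, he₃, he₃B⟩ : ∃ e₃ ∈ E₀, e₃ ∉ B := by
    by_contra! hle
    have h2 := Subgroup.card_le_of_le (show E₀ ≤ B from hle)
    have h3 : Nat.card B ≤ p * p := by
      obtain ⟨-, -⟩ := And.intro hc1 hcp
      have hn : Subgroup.zpowers e₂ ≤ Subgroup.normalizer (C : Set S) := by
        rw [Subgroup.normalizer_eq_top C]; exact le_top
      let f : C × Subgroup.zpowers e₂ → B := fun q =>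
        ⟨(q.1 : S) * q.2, mul_mem (Subgroup.mem_sup_left q.1.2) (Subgroup.mem_sup_right q.2.2)⟩
      have hf : Function.Surjective f := by
        rintro ⟨b, hb⟩
        obtain ⟨u, hu, v, hv, rfl⟩ := Subgroup.mem_sup_of_normal_left.mp hb
        exact ⟨(⟨u, hu⟩, ⟨v, hv⟩), rfl⟩
      refine (Nat.card_le_card_of_surjective f hf).trans ?_
      rw [Nat.card_prod, hCc, Nat.card_zpowers]
      exact Nat.mul_le_mul_left p (Nat.le_of_dvd hp.out.pos (orderOf_dvd_of_pow_eq_one (hexp e₂ he₂)))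
    rw [hcard] at h2
    nlinarith [hp.out.two_le, pow_pos hp.out.pos 2]
  have hlayer : ∀ g : S, ⁅g, e₃⁆ ∈ B := by
    haveI : B.Normal := ⟨fun b hb g => by
      have h1 : ⁅g, b⁆ ∈ C := MaxClass.mk_commutator_eq_one_iff.mp (hBcom b hb g)
      have := B.mul_mem (Subgroup.mem_sup_left h1) hb
      rwa [commutatorElement_def, inv_mul_cancel_right] at this⟩
    intro g
    refine commutator_mem_of_layer hS hBE ?_ g he₃
    rw [hcard, pow_succ' p 2]
    refine Nat.mul_le_mul_left p ?_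
    rw [pow_two]
    exact le_trans (Nat.mul_le_mul_left p hCc.ge) (CfsgLib.PGroups.prime_mul_card_le hS
      (lt_of_le_of_ne le_sup_left fun he => he₂C (he ▸ Subgroup.mem_sup_right (Subgroup.mem_zpowers e₂))))
  let f : S →* S ⧸ C :=
    { toFun := fun g => π ⁅g, e₃⁆
      map_one' := by rw [commutatorElement_one_left, map_one]
      map_mul' := fun g h => by
        rw [show ⁅g * h, e₃⁆ = g * ⁅h, e₃⁆ * g⁻¹ * ⁅g, e₃⁆ by
          simp only [commutatorElement_def]; group, map_mul, map_mul, map_mul, map_inv,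
          (hBcom _ (hlayer h) g).eq, mul_inv_cancel_right, (hBcom _ (hlayer g) ⁅h, e₃⁆).eq] }
  have hrange : f.range ≤ B.map π := by rintro _ ⟨g, rfl⟩; exact ⟨_, hlayer g, rfl⟩
  obtain ⟨n₀, hn₀, hn₀E⟩ : ∃ n₀ ∈ f.ker, n₀ ∉ E₀ := by
    by_contra! hle
    have h1 := f.ker.card_mul_index
    rw [Subgroup.index_ker, hcardS] at h1
    have h2 : Nat.card f.range ≤ p := by
      refine (Subgroup.card_le_of_le hrange).trans ?_
      rw [Subgroup.map_sup, show C.map π = ⊥ by rw [Subgroup.map_eq_bot_iff, QuotientGroup.ker_mk'],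
        bot_sup_eq, MonoidHom.map_zpowers, Nat.card_zpowers]
      exact Nat.le_of_dvd hp.out.pos (orderOf_dvd_of_pow_eq_one (by
        rw [← map_pow, hexp e₂ he₂, map_one]))
    have h3 := Nat.mul_le_mul ((Subgroup.card_le_of_le (show f.ker ≤ E₀ from hle)).trans hcard.le) h2
    rw [h1, ← pow_succ] at h3
    exact absurd ((Nat.pow_le_pow_iff_right hp.out.one_lt).mp h3) (by omega)
  have hdisp : ∀ e ∈ E₀, ⁅n₀, e⁆ ∈ C := by
    intro e he
    refine MaxClass.mk_commutator_eq_one_iff.mp ?_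
    have hle : B ⊔ Subgroup.zpowers e₃ ≤ (Subgroup.centralizer ({π n₀} : Set (S ⧸ C))).comap π := by
      refine sup_le (fun b hb => ?_) (Subgroup.zpowers_le.mpr ?_) <;>
        refine Subgroup.mem_centralizer_singleton_iff.mpr ?_
      · exact (hBcom b hb n₀).symm.eq
      · exact (MaxClass.mk_commutator_eq_one_iff.mpr ((QuotientGroup.eq_one_iff _).mp hn₀)).symm.eq
    have heq : B ⊔ Subgroup.zpowers e₃ = E₀ := by
      refine Subgroup.eq_of_le_of_card_ge (sup_le hBE (Subgroup.zpowers_le.mpr he₃)) ?_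
      have h1 : p ^ 2 ≤ Nat.card B := by
        rw [pow_two]
        exact le_trans (Nat.mul_le_mul_left p hCc.ge) (CfsgLib.PGroups.prime_mul_card_le hS
          (lt_of_le_of_ne le_sup_left fun he' =>
            he₂C (he' ▸ Subgroup.mem_sup_right (Subgroup.mem_zpowers e₂))))
      rw [hcard, pow_succ' p 2]
      exact le_trans (Nat.mul_le_mul_left p h1) (CfsgLib.PGroups.prime_mul_card_le hS
        (lt_of_le_of_ne le_sup_left fun he' =>
          he₃B (he' ▸ Subgroup.mem_sup_right (Subgroup.mem_zpowers e₃))))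
    exact (Subgroup.mem_centralizer_singleton_iff.mp (hle (heq.ge he))).symm
  have hcent : ∀ g : S, (∀ e ∈ E₀, ⁅g, e⁆ ∈ E₀) → ⁅g, n₀⁆ ∈ E₀ := fun g _ => by
    refine MaxClass.mk_commutator_eq_one_iff.mp ?_
    refine commutative_of_card_le_sq (hS.to_quotient E₀) ?_ _ _
    have h1 := Subgroup.card_eq_card_quotient_mul_card_subgroup E₀
    rw [hcardS, hcard, show p ^ 5 = p ^ 2 * p ^ 3 by rw [← pow_add]] at h1
    exact (Nat.eq_of_mul_eq_mul_right (pow_pos hp.out.pos 3) h1).ge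
  set A := E₀ ⊓ Subgroup.centralizer ({n₀} : Set S)
  obtain ⟨hN, -⟩ := transvection_setup hS hF hE hcard hcom hexp hn₀E
    (fun e he => (Subgroup.zpowers_le.mpr hc.1) (hdisp e he)) (A := A) inf_le_left
    (card_fixed hS hE hcard hcom hn₀E hc.1 hcp hdisp)
    (fun a ha => (Subgroup.mem_centralizer_singleton_iff.mp ha.2).symm) (c := c)
    ⟨hc.1, Subgroup.mem_centralizer_singleton_iff.mpr (Subgroup.mem_center_iff.mp hc.2 n₀).symm⟩
    hdisp hcent
  have hnp : n₀ ^ p ∈ E₀ := mem_of_centralizes hE fun e he => by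
    have h1 := CfsgLib.PGroups.mulAut_iterate_eq (MulAut.conj n₀) (x := e) (d := e⁻¹ * (n₀ * e * n₀⁻¹))
      (mul_inv_cancel_left _ _).symm (by
        have hm : e⁻¹ * (n₀ * e * n₀⁻¹) = ⁅n₀, e⁆ := by
          rw [commutatorElement_def,
            hcom _ (E₀.inv_mem he) _ ((inferInstance : E₀.Normal).conj_mem e he n₀)]
        rw [hm, MulAut.conj_apply,
          Subgroup.mem_center_iff.mp ((Subgroup.zpowers_le.mpr hc.2) (hdisp e he)) n₀,
          mul_inv_cancel_right]) p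
    have hd1 : (e⁻¹ * (n₀ * e * n₀⁻¹)) ^ p = 1 :=
      hexp _ (E₀.mul_mem (E₀.inv_mem he) ((inferInstance : E₀.Normal).conj_mem e he n₀))
    rw [hd1, mul_one, ← map_pow, MulAut.conj_apply, mul_inv_eq_iff_eq_mul] at h1
    exact h1
  haveI : IsCyclic (S ⧸ E₀) := by
    refine ⟨⟨QuotientGroup.mk' E₀ n₀, fun q => ?_⟩⟩
    obtain ⟨g, rfl⟩ := QuotientGroup.mk'_surjective E₀ q
    obtain ⟨e, he, b, ⟨i, rfl⟩, rfl⟩ := Subgroup.mem_sup_of_normal_left.mp (hN g fun e he => by
      rw [commutatorElement_def]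
      exact E₀.mul_mem ((inferInstance : E₀.Normal).conj_mem e he g) (E₀.inv_mem he))
    exact ⟨i, by
      show (QuotientGroup.mk' E₀ n₀) ^ i = QuotientGroup.mk' E₀ (e * n₀ ^ i)
      rw [map_mul, map_zpow, show QuotientGroup.mk' E₀ e = 1 from (QuotientGroup.eq_one_iff e).mpr he,
        one_mul]⟩
  obtain ⟨w, hw⟩ := IsCyclic.exists_generator (α := S ⧸ E₀)
  have h1 := Subgroup.card_eq_card_quotient_mul_card_subgroup E₀
  rw [hcardS, hcard, show p ^ 5 = p ^ 2 * p ^ 3 by rw [← pow_add]] at h1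
  have h2 := (Nat.eq_of_mul_eq_mul_right (pow_pos hp.out.pos 3) h1).symm
  have h3 : ∀ q : S ⧸ E₀, q ^ p = 1 := fun q => by
    obtain ⟨g, rfl⟩ := QuotientGroup.mk'_surjective E₀ q
    obtain ⟨e, he, b, ⟨i, rfl⟩, rfl⟩ := Subgroup.mem_sup_of_normal_left.mp (hN g fun e he => by
      rw [commutatorElement_def]
      exact E₀.mul_mem ((inferInstance : E₀.Normal).conj_mem e he g) (E₀.inv_mem he))
    show (QuotientGroup.mk' E₀ (e * n₀ ^ i)) ^ p = 1
    rw [map_mul, map_zpow, show QuotientGroup.mk' E₀ e = 1 from (QuotientGroup.eq_one_iff e).mpr he,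
      one_mul, ← zpow_natCast, ← zpow_mul, mul_comm, zpow_mul, zpow_natCast, ← map_pow,
      show QuotientGroup.mk' E₀ (n₀ ^ p) = 1 from (QuotientGroup.eq_one_iff _).mpr hnp, one_zpow]
  have h4 : Nat.card (S ⧸ E₀) ≤ p := by
    rw [← orderOf_eq_card_of_forall_mem_zpowers hw]
    exact Nat.le_of_dvd hp.out.pos (orderOf_dvd_of_pow_eq_one (h3 w))
  rw [h2, pow_two] at h4
  nlinarith [hp.out.two_le]

end

end CfsgLib.OrderDegrees.FusFifth
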