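import Cfsg.Agent.Lib.OrderDegrees.FusFifth.Quot
import Cfsg.Agent.Lib.FusionExamples.MaxClassLayers
import Cfsg.Agent.Lib.FusionModels.PearlMaxClass
import Cfsg.Agent.Lib.MaxClassP.Basic

/-!
Fusion systems over a group of order `p ^ 5` all whose essential subgroups are pearls: none is
hyperfocal-full for `p ≠ 7`.
-/

set_option autoImplicit false
set_option linter.style.haveILetI false
set_option linter.unusedSectionVars false

open scoped commutatorElement

namespace CfsgLib.OrderDegrees.FusFifth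

open Cfsg Cfsg.FusionSystem CfsgLib.Alperin CfsgLib.FusionExamples.SmallEssential
  CfsgLib.FusionExamples.MaxClass

variable {p : ℕ} [hp : Fact p.Prime]

namespace Pearls

theorem sq_sub_one_three : ∀ r : ZMod 3, r ≠ 0 → r ^ 2 - 1 = 0 := by decide

section Group

variable {G : Type*} [Group G] [Finite G] (h : MaxClassP.MC p 5 G)

include h in
theorem hyp : Hyp p 5 G := by
  refine ⟨h.card, fun hb => ?_, by norm_num⟩
  have h1 := MaxClassP.card_L h (j := 3) (by norm_num) (by norm_num)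
  rw [show MaxClassP.L G 3 = ⊥ from hb, Subgroup.card_bot] at h1
  exact (Nat.one_lt_pow (by norm_num) hp.out.one_lt).ne h1

include h in
theorem lcs_four : lcs G 4 = ⊥ := (hyp h).lcs_top (by norm_num)

include h in
theorem card_lcs_three : Nat.card (lcs G 3) = p := by
  rw [(hyp h).card_lcs (by norm_num) (by norm_num)]
  norm_num

include h in
theorem three_le_center : lcs G 3 ≤ Subgroup.center G := fun x hx =>
  Subgroup.mem_center_iff.mpr fun g => by
    have h1 := commutator_mem (k := 4) (mem_zero g) hx le_rfl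
    rw [lcs_four h, Subgroup.mem_bot] at h1
    exact commutatorElement_eq_one_iff_mul_comm.mp h1

include h in
theorem twoStep_two : twoStep G 2 = twoStep G 1 := by
  by_contra hne
  exact absurd ((hyp h).even_of_ne hne) (by decide)

include h in
theorem small {e : G} (he : e ∉ twoStep G 1) : MaxClassP.Small 5 e := by
  refine ⟨fun h1 => he (lcs_one_le_twoStep 1 h1), fun j hj hjn hB => ?_⟩
  have h1 : e ∈ twoStep G j := mem_twoStep.mpr fun y hy => by
    rw [← commutatorElement_inv]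
    exact inv_mem (hB y hy)
  rcases (show j = 1 ∨ j = 2 by omega) with rfl | rfl
  exacts [he h1, he (twoStep_two h ▸ h1)]

include h in
theorem commute_two {s y : G} (hs : s ∈ twoStep G 1) (hy : y ∈ lcs G 2) : Commute s y := by
  rw [← twoStep_two h] at hs
  have h1 := mem_twoStep.mp hs y hy
  rw [lcs_four h, Subgroup.mem_bot] at h1
  exact commutatorElement_eq_one_iff_commute.mp h1

include h in
theorem commute_one {a b : G} (ha : a ∈ lcs G 1) (hb : b ∈ lcs G 1) : Commute a b := by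
  obtain ⟨y, hy, hy'⟩ := SetLike.exists_of_lt (MaxClassP.L_succ_lt h (j := 1) (by norm_num))
  have heq := MaxClassP.layer_eq h le_rfl (by norm_num) hy hy'
  rw [sup_comm] at heq
  exact commute_sup_zpowers (fun u hu v hv => commute_two h
      (lcs_one_le_twoStep 1 (Subgroup.lowerCentralSeries_antitone _ (by norm_num) hu)) hv)
    (fun u hu => (commute_two h (lcs_one_le_twoStep 1 hy) hu).symm) (heq.le ha) (heq.le hb)

include h in
theorem not_commute_layer (hab : NoAb p G) {s w : G} (hs : s ∈ twoStep G 1) (hs1 : s ∉ lcs G 1)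
    (hw : w ∈ lcs G 1) (hw2 : w ∉ lcs G 2) : ¬ Commute s w := by
  intro hc
  refine hs1 (hab.mem h.isPGroup (A := lcs G 1) ?_ (fun a ha b hb => commute_one h ha hb) fun a ha => ?_)
  · rw [(hyp h).card_lcs le_rfl (by norm_num)]
  · have heq := MaxClassP.layer_eq h le_rfl (by norm_num) hw hw2
    obtain ⟨u, hu, v, hv, rfl⟩ := Subgroup.mem_sup_of_normal_right.mp (heq.le ha)
    obtain ⟨i, rfl⟩ := Subgroup.mem_zpowers_iff.mp hu
    exact (hc.symm.zpow_left i).mul_left (commute_two h hs hv).symm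

include h in
theorem commutator_twoStep {a b : G} (ha : a ∈ twoStep G 1) (hb : b ∈ twoStep G 1) :
    ⁅a, b⁆ ∈ lcs G 3 := by
  obtain ⟨s, hs, hs1⟩ := (hyp h).exists_mem_twoStep (j := 1) le_rfl (by norm_num)
  obtain ⟨i, hi⟩ := (hyp h).exists_zpow_twoStep le_rfl (by norm_num) hs hs1 ha
  obtain ⟨k, hk⟩ := (hyp h).exists_zpow_twoStep le_rfl (by norm_num) hs hs1 hb
  refine mk_commutator_eq_one_iff.mp ?_
  have hsu : ∀ u ∈ lcs G 1,
      Commute (QuotientGroup.mk' (lcs G 3) s) (QuotientGroup.mk' (lcs G 3) u) := fun u hu =>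
    mk_commutator_eq_one_iff.mpr (mem_twoStep.mp hs u hu)
  rw [← mul_inv_cancel_left (s ^ i) a, ← mul_inv_cancel_left (s ^ k) b, map_mul _ (s ^ i),
    map_mul _ (s ^ k), map_zpow _ s i, map_zpow _ s k]
  exact (((Commute.refl _).zpow_zpow i k).mul_left ((hsu _ hi).symm.zpow_right k)).mul_right
    (((hsu _ hk).zpow_left i).mul_left
      (mk_commutator_eq_one_iff.mpr (commutator_mem hi hk le_rfl)))

include h in
/-- An automorphism acts on the layers through one scalar. -/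
theorem weights (hab : NoAb p G) {f : G →* G} (hf : Function.Surjective f) {c : G}
    (hc : c ∉ twoStep G 1) {m : ℤ} (hm : (c ^ m)⁻¹ * f c ∈ twoStep G 1) :
    ¬ (p : ℤ) ∣ m ∧ (∀ z ∈ lcs G 3, f z = z ^ (m ^ 5)) ∧
      ∀ s ∈ twoStep G 1, (s ^ (m ^ 2))⁻¹ * f s ∈ lcs G 1 := by
  have hy := hyp h
  have hinj : Function.Injective f := Finite.injective_iff_surjective.mpr hf
  obtain ⟨s, hs, hs1⟩ := hy.exists_mem_twoStep (j := 1) le_rfl (by norm_num)
  obtain ⟨l, hl⟩ := hy.exists_zpow_twoStep le_rfl (by norm_num) hs hs1 (map_twoStep hf hs)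
  have hq : ∀ {j : ℕ} {x : G} {k : ℤ},
      QuotientGroup.mk' (lcs G j) (f x) = QuotientGroup.mk' (lcs G j) x ^ k →
      (x ^ k)⁻¹ * f x ∈ lcs G j := fun {j x k} e => by
    rw [← QuotientGroup.eq_one_iff]
    show QuotientGroup.mk' (lcs G j) ((x ^ k)⁻¹ * f x) = 1
    rw [map_mul, map_inv, map_zpow, e, inv_mul_cancel]
  -- first layer
  set w1 := ⁅s, c⁆
  have hw1 : w1 ∈ lcs G 1 := commutator_mem (mem_zero s) (mem_zero c) le_rfl
  have hw1' : w1 ∉ lcs G 2 := hy.commutator_not_mem le_rfl (by norm_num) hs hs1 hc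
  have e1 := map_commutator_mod (N := lcs G 2) (f := f) (x := s) (y := c) (k := l) (l := m)
    (fun g => commutator_mem hw1 (mem_zero g) le_rfl)
    (fun u => Or.inl (commutator_mem hl (mem_zero u) le_rfl))
    (Subgroup.lowerCentralSeries_antitone _ (by norm_num)
      (commutator_twoStep h (Subgroup.zpow_mem _ hs l) hm))
  have hlm : ¬ (p : ℤ) ∣ l * m := by
    rintro ⟨k, hk⟩
    have h1 : QuotientGroup.mk' (lcs G 2) (f w1) = 1 := by
      rw [e1, hk, zpow_mul, zpow_natCast, ← map_pow, mk_eq_one (hy.pow_mem_succ le_rfl hw1), one_zpow]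
    have hmap : (lcs G 2).map f = lcs G 2 := by
      rw [Subgroup.map_lowerCentralSeries, Subgroup.map_top_of_surjective f hf]
    obtain ⟨u, hu, hu'⟩ := hmap.ge ((QuotientGroup.eq_one_iff _).mp h1)
    exact hw1' (hinj hu' ▸ hu)
  -- second and third layer
  set w2 := ⁅c, w1⁆
  have hw2 : w2 ∈ lcs G 2 := commutator_mem (mem_zero c) hw1 le_rfl
  have hw2' : w2 ∉ lcs G 3 := fun hh => hc (hy.mem_twoStep_of_commutator le_rfl hw1 hw1' hh)
  have e2 := map_commutator_layers (f := f) (x := c) (y := w1) (k := m) (l := l * m) (i := 0) (j := 1)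
    (m := 2) rfl (mem_zero c) hw1 (fun u hu => mem_twoStep.mp hm u hu) (hq e1)
  set w3 := ⁅c, w2⁆
  have hw3 : w3 ∈ lcs G 3 := commutator_mem (mem_zero c) hw2 le_rfl
  have hw3' : w3 ∉ lcs G 4 := fun hh => hc
    (twoStep_two h ▸ hy.mem_twoStep_of_commutator (by norm_num) hw2 hw2' hh)
  have hm2 : (c ^ m)⁻¹ * f c ∈ twoStep G 2 := by rw [twoStep_two h]; exact hm
  have e3 := map_commutator_layers (f := f) (x := c) (y := w2) (k := m) (l := m * (l * m)) (i := 0)
    (j := 2) (m := 3) rfl (mem_zero c) hw2 (fun u hu => mem_twoStep.mp hm2 u hu) (hq e2)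
  -- the commutator inside the two-step centralizer
  set w := ⁅s, w1⁆
  have hw : w ∈ lcs G 3 := mem_twoStep.mp hs w1 hw1
  have hw' : w ∉ lcs G 4 := fun hh => not_commute_layer h hab hs hs1 hw1 hw1'
    (commutatorElement_eq_one_iff_commute.mp (by rwa [lcs_four h, Subgroup.mem_bot] at hh))
  have ew := map_commutator_mod (N := lcs G 4) (f := f) (x := s) (y := w1) (k := l) (l := l * m)
    (fun g => commutator_mem hw (mem_zero g) le_rfl)
    (fun u => by
      by_cases hu : u ∈ ({w1 ^ (l * m), (w1 ^ (l * m))⁻¹ * f w1} : Set G)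
      · refine Or.inl ?_
        rw [commutatorElement_eq_one_iff_commute.mpr (commute_one h hl ?_)]
        · exact one_mem _
        rcases hu with rfl | rfl
        · exact Subgroup.zpow_mem _ hw1 _
        · exact Subgroup.lowerCentralSeries_antitone _ (by norm_num) (hq e1)
      · exact Or.inr hu)
    (by
      rw [commutatorElement_eq_one_iff_commute.mpr
        (commute_two h (Subgroup.zpow_mem _ hs l) (hq e1))]
      exact one_mem _)
  obtain ⟨a, ha⟩ := hy.exists_zpow (by norm_num) hw3 hw3' hw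
  have ew' : QuotientGroup.mk' (lcs G 4) (f w) =
      QuotientGroup.mk' (lcs G 4) w ^ (m * (m * (l * m))) := by
    have h1 : (w3 ^ a)⁻¹ * w ∈ lcs G 4 := by
      rw [← QuotientGroup.eq_one_iff]
      show QuotientGroup.mk' (lcs G 4) ((w3 ^ a)⁻¹ * w) = 1
      rw [map_mul, map_inv, map_zpow, ha, inv_mul_cancel]
    have h2 := mk_eq_one (map_lcs hf h1)
    rw [map_mul f, map_inv f, map_zpow f, map_mul, map_inv, map_zpow, inv_mul_eq_one] at h2
    rw [← h2, e3, ha, ← zpow_mul, ← zpow_mul, mul_comm]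
  have hd := hy.exp_eq (by norm_num) hw hw' (ew'.symm.trans ew)
  have hpI : Prime (p : ℤ) := Nat.prime_iff_prime_int.mp hp.out
  have hlm2 : (p : ℤ) ∣ m ^ 2 - l := by
    rw [show m * (m * (l * m)) - l * (l * m) = l * m * (m ^ 2 - l) by ring] at hd
    exact (hpI.dvd_or_dvd hd).resolve_left hlm
  refine ⟨fun hh => hlm (dvd_mul_of_dvd_right hh l), fun z hz => ?_, fun x hx => ?_⟩
  · obtain ⟨b, hb⟩ := hy.exists_zpow (by norm_num) hw3 hw3' hz
    have hker : ∀ u v : G, QuotientGroup.mk' (lcs G 4) u = QuotientGroup.mk' (lcs G 4) v → u = v :=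
      fun u v e => by
        obtain ⟨r, hr, rfl⟩ := (QuotientGroup.mk'_eq_mk' _).mp e
        rw [lcs_four h, Subgroup.mem_bot] at hr
        rw [hr, mul_one]
    have h3 : z = w3 ^ b := hker _ _ (by rw [map_zpow]; exact hb)
    have h4 : f w3 = w3 ^ (m * (m * (l * m))) := hker _ _ (by rw [map_zpow]; exact e3)
    have h5 : w3 ^ p = 1 := by
      have := hy.pow_mem_succ (by norm_num) hw3
      rwa [lcs_four h, Subgroup.mem_bot] at this
    rw [h3, map_zpow, h4, ← zpow_mul, ← zpow_mul]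
    refine zpow_eq_zpow_of_dvd h5 ?_
    rw [show m * (m * (l * m)) * b - b * m ^ 5 = -(m ^ 3 * b * (m ^ 2 - l)) by ring]
    exact (dvd_mul_of_dvd_right hlm2 _).neg_right
  · obtain ⟨j, hj⟩ := hy.exists_zpow_twoStep le_rfl (by norm_num) hs hs1 hx
    have h1 : QuotientGroup.mk' (lcs G 1) x = QuotientGroup.mk' (lcs G 1) s ^ j := by
      rw [← map_zpow]
      exact ((QuotientGroup.mk'_eq_mk' _).mpr ⟨_, hj, mul_inv_cancel_left _ _⟩).symm
    have h2 : QuotientGroup.mk' (lcs G 1) (f x) = QuotientGroup.mk' (lcs G 1) s ^ (l * j) := by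
      have h3 := mk_eq_one (map_lcs hf hj)
      rw [map_mul f, map_inv f, map_zpow f, map_mul, map_inv, map_zpow, inv_mul_eq_one] at h3
      rw [← h3, zpow_mul, ← map_zpow (QuotientGroup.mk' (lcs G 1)) s l]
      congr 1
      exact ((QuotientGroup.mk'_eq_mk' _).mpr ⟨_, hl, mul_inv_cancel_left _ _⟩).symm
    refine hq ?_
    rw [h2, h1, ← zpow_mul]
    refine zpow_eq_zpow_of_dvd (p := p) ?_ ?_
    · rw [← map_pow]
      exact mk_eq_one (MaxClassP.pow_mem_L_one h s)
    · rw [show l * j - j * m ^ 2 = -(j * (m ^ 2 - l)) by ring]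
      exact (dvd_mul_of_dvd_right hlm2 _).neg_right

/-! ### Subgroups generated by an element and a layer -/

/-- The subgroup generated by `e` and a layer. -/
abbrev P (e : G) (j : ℕ) : Subgroup G := Subgroup.zpowers e ⊔ lcs G j

theorem mem_self (e : G) (j : ℕ) : e ∈ P e j := Subgroup.mem_sup_left (Subgroup.mem_zpowers e)

theorem lcs_le_P (e : G) {i j : ℕ} (hij : j ≤ i) : lcs G i ≤ P e j :=
  (Subgroup.lowerCentralSeries_antitone _ hij).trans le_sup_right

variable {e : G} (he : e ∉ twoStep G 1) (hep : e ^ p = 1)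

include he hep in
theorem dvd_of_zpow_mem {i : ℤ} (hi : e ^ i ∈ twoStep G 1) : (p : ℤ) ∣ i := by
  by_contra hd
  obtain ⟨r, hr⟩ := exists_mul_modEq hd 1
  refine he ?_
  rw [← zpow_one e, ← zpow_eq_zpow_of_dvd hep hr, zpow_mul]
  exact Subgroup.zpow_mem _ hi _

include he hep in
theorem mem_lcs_of_mem {j : ℕ} (hj : 1 ≤ j) {x : G} (hx : x ∈ P e j) (hxM : x ∈ twoStep G 1) :
    x ∈ lcs G j := by
  obtain ⟨a, ha, b, hb, rfl⟩ := Subgroup.mem_sup_of_normal_right.mp hx
  obtain ⟨i, rfl⟩ := Subgroup.mem_zpowers_iff.mp ha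
  have hbM : b ∈ twoStep G 1 :=
    lcs_one_le_twoStep 1 (Subgroup.lowerCentralSeries_antitone _ hj hb)
  obtain ⟨k, rfl⟩ := dvd_of_zpow_mem he hep ((Subgroup.mul_mem_cancel_right _ hbM).mp hxM)
  rwa [zpow_mul, zpow_natCast, hep, one_zpow, one_mul]

include h he in
theorem card_P {j : ℕ} (hj : 1 ≤ j) (hj3 : j ≤ 3) : Nat.card (P e j) = p ^ (5 - j) :=
  MaxClassP.card_sup_L h (small h he) hj (by omega)

include h he in
theorem P_ne_top {j : ℕ} (hj : 1 ≤ j) (hj3 : j ≤ 3) : P e j ≠ ⊤ := fun ht => by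
  have h1 := card_P h he hj hj3
  rw [ht, Subgroup.card_top, h.card] at h1
  have := Nat.pow_right_injective hp.out.two_le h1
  omega

include h he hep in
theorem normalizer_P {j : ℕ} (hj : 2 ≤ j) (hj3 : j ≤ 3) :
    Subgroup.normalizer (P e j : Set G) = P e (j - 1) := by
  refine le_antisymm (fun x hx => ?_) (sup_le (Subgroup.zpowers_le.mpr
    (Subgroup.le_normalizer (mem_self e j))) fun u hu => mem_normalizer fun x hx => ?_)
  · refine MaxClassP.mem_sup_of_commutator_mem h (small h he) hj (by omega) ?_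
    refine mem_lcs_of_mem he hep (by omega) ?_
      (lcs_one_le_twoStep 1 (commutator_mem (mem_zero x) (mem_zero e) le_rfl))
    rw [commutatorElement_def]
    exact mul_mem ((Subgroup.mem_normalizer_iff.mp hx e).mp (mem_self e j)) (inv_mem (mem_self e j))
  · have h1 : ⁅u, x⁆ ∈ P e j := le_sup_right (a := Subgroup.zpowers e)
      (commutator_mem hu (mem_zero x) (by omega))
    have h2 := mul_mem h1 hx
    rwa [commutatorElement_def, inv_mul_cancel_right] at h2

theorem P_one_normal (e : G) : (P e 1).Normal := ⟨fun x hx g => by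
  have h2 := mul_mem (le_sup_right (a := Subgroup.zpowers e)
    (commutator_mem (mem_zero g) (mem_zero x) le_rfl)) hx
  rwa [commutatorElement_def, inv_mul_cancel_right] at h2⟩

include h he in
theorem exists_not_commute : ∃ y ∈ lcs G 2, ¬ Commute e y := by
  obtain ⟨y, hy, hy'⟩ := SetLike.exists_of_lt ((hyp h).lcs_succ_lt (j := 2) (by norm_num))
  refine ⟨y, hy, fun hc => he (twoStep_two h ▸
    (hyp h).mem_twoStep_of_commutator (by norm_num) hy hy' ?_)⟩
  rw [commutatorElement_eq_one_iff_commute.mpr hc]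
  exact one_mem _

include h in
theorem commutator_mem_P (j : ℕ) (e : G) {x y : G} (hx : x ∈ P e j) (hy : y ∈ P e j) :
    ⁅x, y⁆ ∈ lcs G (j + 1) := by
  obtain ⟨a, ha, u, hu, rfl⟩ := Subgroup.mem_sup_of_normal_right.mp hx
  obtain ⟨b, hb, v, hv, rfl⟩ := Subgroup.mem_sup_of_normal_right.mp hy
  obtain ⟨i, rfl⟩ := Subgroup.mem_zpowers_iff.mp ha
  obtain ⟨k, rfl⟩ := Subgroup.mem_zpowers_iff.mp hb
  refine mk_commutator_eq_one_iff.mp ?_
  have hcen : ∀ w ∈ lcs G j, ∀ g, Commute (QuotientGroup.mk' (lcs G (j + 1)) w)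
      (QuotientGroup.mk' (lcs G (j + 1)) g) := fun w hw g =>
    mk_commutator_eq_one_iff.mpr (commutator_mem hw (mem_zero g) (by omega))
  rw [map_mul, map_mul, map_zpow, map_zpow]
  exact (((Commute.refl _).zpow_zpow i k).mul_left ((hcen u hu e).zpow_right k)).mul_right
    (((hcen v hv e).symm.zpow_left i).mul_left (hcen u hu v))

include h in
/-- If the cube of every element outside the two-step centralizer is trivial, there is an abelian
subgroup of index `p`. -/
theorem false_of_cubes (hab : NoAb p G) {c s : G} (hc : c ∉ twoStep G 1) (hc3 : c ^ 3 = 1)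
    (hs : s ∈ twoStep G 1) (hs1 : s ∉ lcs G 1)
    (hall : ∀ g, g ∉ twoStep G 1 → g ^ 3 = 1) : False := by
  have hc2 : c * c ∉ twoStep G 1 := fun hh => hc (by
    have h1 : c = (c * c) * (c * c) := by
      calc c = c ^ 3 * c := by rw [hc3, one_mul]
        _ = _ := by simp only [pow_succ, pow_zero, one_mul, mul_assoc]
    rw [h1]
    exact mul_mem hh hh)
  have hcs := hall (c * s) fun hh => hc ((Subgroup.mul_mem_cancel_right _ hs).mp hh)
  have hccs := hall (c * c * s) fun hh => hc2 ((Subgroup.mul_mem_cancel_right _ hs).mp hh)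
  have hci : c⁻¹ = c * c := inv_eq_of_mul_eq_one_right (by rw [← mul_assoc, ← pow_two, ← pow_succ, hc3])
  have h3 : ∀ z, c * (c * (c * z)) = z := fun z => by
    rw [← mul_assoc, ← mul_assoc, ← pow_two, ← pow_succ, hc3, one_mul]
  set u1 := c * s * c⁻¹
  set u2 := c⁻¹ * s * c
  have h1 : u1 * u2 * s = 1 := by
    rw [← hcs]
    simp only [u1, u2, hci, pow_succ, pow_zero, one_mul]
    simp only [mul_assoc, h3]
  have h2 : u2 * u1 * s = 1 := by
    rw [← hccs]
    simp only [u1, u2, hci, pow_succ, pow_zero, one_mul]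
    simp only [mul_assoc]
  have h12 : Commute u1 u2 := mul_right_cancel (h1.trans h2.symm)
  have hcom : Commute s u1 := by
    have h4 : Commute (c * u1 * c⁻¹) (c * u2 * c⁻¹) := h12.conj c
    have e1 : c * u1 * c⁻¹ = u2 := by
      simp only [u1, u2, hci]
      simp only [mul_assoc, h3]
    have e2 : c * u2 * c⁻¹ = s := by simp only [u2]; group
    rw [e1, e2] at h4
    have h5 : Commute (c * u2 * c⁻¹) (c * s * c⁻¹) := h4.conj c
    rwa [e2] at h5
  refine not_commute_layer h hab hs hs1 (commutator_mem (mem_zero c) (mem_zero s) le_rfl) ?_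
    (by rw [commutatorElement_def]; exact hcom.mul_right (Commute.refl s).inv_right)
  intro hh
  refine (hyp h).commutator_not_mem le_rfl (by norm_num) hs hs1 hc ?_
  rw [← commutatorElement_inv]
  exact inv_mem hh

end Group

section Fusion

variable {Ω : Type*} [Group Ω] {S : Subgroup Ω} [Finite S] {F : FusionSystem S}

/-- Extension of a map to a normalizer one step larger. -/
theorem step (hS : IsPGroup p S) (hF : F.IsSaturated p) {Q R : Subgroup S}
    (hR : Subgroup.normalizer (Q : Set S) = R) (hQ : Q ≠ ⊤)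
    (hfn : F.IsFullyNormalized (Q.map S.subtype)) (hne : ¬ F.IsEssential p (Q.map S.subtype))
    (hcard : Nat.card R ≤ p * Nat.card Q) {g : S → S} (hg : Rep F Q g) (hgQ : ∀ x ∈ Q, g x ∈ Q) :
    ∃ g' : S → S, Rep F R g' ∧ (∀ x ∈ R, g' x ∈ R) ∧ ∀ x ∈ Q, g' x = g x := by
  subst hR
  obtain ⟨α, hα, hαx⟩ := hg.exists_aut hgQ
  obtain ⟨g', hg', hgN, hg'x⟩ :=
    exists_extension hS hF hfn hα (autGroup_le_normalizer hS hF hQ hfn hne hcard hα)
  exact ⟨g', hg', hgN, fun x hx => Subtype.ext ((hg'x x hx).trans (hαx x hx))⟩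

/-- The subgroup centralizing a centric subgroup lies in it. -/
theorem centralizer_le {E₀ : Subgroup S} (hE : F.IsEssential p (E₀.map S.subtype)) {g : S}
    (hg : ∀ x ∈ E₀, Commute g x) : g ∈ E₀ := by
  have h1 : (g : Ω) ∈ E₀.map S.subtype := by
    refine hE.1.2 _ (isConj_refl F hE.1.1) ⟨g.2, Subgroup.mem_centralizer_iff.mpr ?_⟩
    rintro _ ⟨x, hx, rfl⟩
    exact congrArg Subtype.val (hg x hx).eq.symm
  obtain ⟨x, hx, hxg⟩ := h1
  exact (Subtype.ext hxg : x = g) ▸ hx

variable (h : MaxClassP.MC p 5 S) (hS : IsPGroup p S) (hF : F.IsSaturated p)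

include h in
/-- The shape of a pearl. -/
theorem shape {E₀ : Subgroup S} (hE : F.IsEssential p (E₀.map S.subtype)) (hexp : ∀ x ∈ E₀, x ^ p = 1)
    (hc : Nat.card E₀ = p ^ 2 ∨ (Nat.card E₀ = p ^ 3 ∧ ∃ a ∈ E₀, ∃ b ∈ E₀, ¬ Commute a b)) :
    ∃ e, e ∈ E₀ ∧ e ∉ twoStep S 1 ∧ e ^ p = 1 ∧ ∃ j, (j = 2 ∨ j = 3) ∧ E₀ = P e j := by
  have hL3 : lcs S 3 ≤ E₀ := fun z hz => centralizer_le hE fun x _ =>
    (Subgroup.mem_center_iff.mp (three_le_center h hz) x).symm
  have hZ : ∀ {K : Subgroup S}, Nat.card K = p ^ 3 → (∃ a ∈ K, ∃ b ∈ K, ¬ Commute a b) →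
      lcs S 3 ≤ K → ∀ H : Subgroup S, H ≤ K → (∀ a ∈ H, ∀ b ∈ K, Commute a b) → H ≤ lcs S 3 := by
    intro K hK hna hL H hH hHc x hx
    have hna' : ¬ IsMulCommutative K := fun hcom => by
      obtain ⟨a, ha, b, hb, hab⟩ := hna
      exact hab (congrArg Subtype.val (hcom.is_comm.comm (⟨a, ha⟩ : K) ⟨b, hb⟩) :)
    have heq : (lcs S 3).subgroupOf K = Subgroup.center K := by
      refine Subgroup.eq_of_le_of_card_ge (fun z hz => Subgroup.mem_center_iff.mpr fun w =>
        Subtype.ext (Subgroup.mem_center_iff.mp (three_le_center h hz) w :)) ?_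
      rw [(FusionModels.Pearl.cube_facts hK hna').1,
        Nat.card_congr (Subgroup.subgroupOfEquivOfLe hL).toEquiv, card_lcs_three h]
    exact heq.ge (show (⟨x, hH hx⟩ : K) ∈ Subgroup.center K from
      Subgroup.mem_center_iff.mpr fun w => Subtype.ext (hHc x hx w w.2).eq.symm)
  have hnotle : ¬ E₀ ≤ twoStep S 1 := by
    intro hle
    have hL2 : lcs S 2 ≤ E₀ := fun z hz => centralizer_le hE fun x hx =>
      (commute_two h (hle hx) hz).symm
    have hc2 : Nat.card (lcs S 2) = p ^ 2 := (hyp h).card_lcs (by norm_num) (by norm_num)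
    rcases hc with hc | ⟨hc, hna⟩
    · have he : lcs S 2 = E₀ := Subgroup.eq_of_le_of_card_ge hL2 (by rw [hc, hc2])
      have hL1 : lcs S 1 ≤ E₀ := fun z hz => centralizer_le hE fun x hx =>
        commute_two h (lcs_one_le_twoStep 1 hz) (he.ge hx)
      have h1 := Subgroup.card_le_of_le hL1
      rw [(hyp h).card_lcs le_rfl (by norm_num), hc,
        Nat.pow_le_pow_iff_right hp.out.one_lt] at h1
      omega
    · have h1 := Subgroup.card_le_of_le
        (hZ hc hna hL3 (lcs S 2) hL2 fun a ha b hb => (commute_two h (hle hb) ha).symm)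
      rw [card_lcs_three h, hc2] at h1
      have := Nat.lt_pow_self hp.out.one_lt (n := 1)
      nlinarith [hp.out.two_le]
  obtain ⟨e, heE, he⟩ := SetLike.not_le_iff_exists.mp hnotle
  refine ⟨e, heE, he, hexp e heE, ?_⟩
  rcases hc with hc | ⟨hc, hna⟩
  · refine ⟨3, Or.inr rfl, (Subgroup.eq_of_le_of_card_ge
      (sup_le (Subgroup.zpowers_le.mpr heE) hL3) ?_).symm⟩
    rw [card_P h he (by norm_num) le_rfl, hc]
  · refine ⟨2, Or.inl rfl, Subgroup.eq_of_le_of_card_ge (fun x hx => ?_) ?_⟩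
    · refine MaxClassP.mem_sup_of_commutator_mem h (small h he) (m := 3) (by norm_num) (by norm_num) ?_
      have hna' : ¬ IsMulCommutative E₀ := fun hcom => by
        obtain ⟨a, ha, b, hb, hab⟩ := hna
        exact hab (congrArg Subtype.val (hcom.is_comm.comm (⟨a, ha⟩ : E₀) ⟨b, hb⟩) :)
      obtain ⟨-, -, hcc⟩ := FusionModels.Pearl.cube_facts hc hna'
      have hmem : ⁅(⟨x, hx⟩ : E₀), ⟨e, heE⟩⁆ ∈ Subgroup.center E₀ :=
        hcc ▸ Subgroup.commutator_mem_commutator (Subgroup.mem_top _) (Subgroup.mem_top _)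
      exact hZ hc hna hL3 ((Subgroup.center E₀).map E₀.subtype) (Subgroup.map_subtype_le _)
        (by
          rintro _ ⟨a, ha, rfl⟩ b hb
          exact (congrArg Subtype.val (Subgroup.mem_center_iff.mp ha ⟨b, hb⟩) :).symm)
        ⟨_, hmem, rfl⟩
    · rw [card_P h he (by norm_num) (by norm_num), hc]

variable {e : S} (he : e ∉ twoStep S 1) (hep : e ^ p = 1)

include h hS he hep in
theorem fullyNormalized_two : F.IsFullyNormalized ((P e 2).map S.subtype) := by
  refine fullyNormalized_of_card fun Q hQ => ?_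
  rw [normalizer_P h he hep le_rfl (by norm_num), card_P h he (by norm_num) (by norm_num)]
  by_contra hlt
  obtain ⟨ψ, hψ, hr⟩ := hQ
  have hQc : Nat.card Q = p ^ 3 := by
    rw [← Subgroup.card_subtype S Q, ← hr, card_range_eq (F.injective_of_mem hψ),
      Subgroup.card_subtype, card_P h he (by norm_num) (by norm_num)]
  have htop : Subgroup.normalizer (Q : Set S) = ⊤ := by
    refine Subgroup.eq_top_of_le_card _ ?_
    obtain ⟨i, hi⟩ := IsPGroup.iff_card.mp (hS.to_subgroup (Subgroup.normalizer (Q : Set S)))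
    rw [hi] at hlt ⊢
    rw [h.card]
    have := (Nat.pow_lt_pow_iff_right hp.out.one_lt).mp (not_le.mp hlt)
    exact Nat.pow_le_pow_right hp.out.pos (by omega)
  haveI : Q.Normal := Subgroup.normalizer_eq_top_iff.mp htop
  have hq : Nat.card (S ⧸ Q) = p ^ 2 := by
    have h1 := Q.card_mul_index
    rw [hQc, h.card, Subgroup.index_eq_card, show p ^ 5 = p ^ 3 * p ^ 2 by rw [← pow_add]] at h1
    exact Nat.eq_of_mul_eq_mul_left (pow_pos hp.out.pos _) h1
  have hL : lcs S 1 ≤ Q := by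
    show Subgroup.lowerCentralSeries (⊤ : Subgroup S) 1 ≤ Q
    rw [Subgroup.top_lowerCentralSeries_one, commutator_def, Subgroup.commutator_le]
    exact fun a _ b _ => mk_commutator_eq_one_iff.mp
      (((IsPGroup.isMulCommutative_of_card_eq_prime_sq hq).is_comm.comm _ _))
  have hQeq : lcs S 1 = Q :=
    Subgroup.eq_of_le_of_card_ge hL (by rw [hQc, (hyp h).card_lcs le_rfl (by norm_num)])
  obtain ⟨y, hy, hey⟩ := exists_not_commute h he
  refine hey ?_
  obtain ⟨a, ha, haψ⟩ := hr.le ⟨el (P e 2) e (mem_self e 2), rfl⟩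
  obtain ⟨b, hb, hbψ⟩ := hr.le ⟨el (P e 2) y (lcs_le_P e le_rfl hy), rfl⟩
  have h1 : (a : Ω) * b = b * a :=
    congrArg Subtype.val (commute_one h (hQeq.ge ha) (hQeq.ge hb)).eq
  rw [show (a : Ω) = _ from haψ, show (b : Ω) = _ from hbψ, ← map_mul, ← map_mul] at h1
  exact Subtype.ext (congrArg Subtype.val (F.injective_of_mem hψ h1) :)

include h hS hF he in
theorem extend_top (hne1 : ¬ F.IsEssential p ((P e 1).map S.subtype)) {g : S → S}
    (hg : Rep F (P e 1) g) (hgP : ∀ x ∈ P e 1, g x ∈ P e 1) :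
    ∃ β : MulAut S, ∀ x ∈ P e 1, β x = g x := by
  haveI := P_one_normal e
  obtain ⟨g', hg', -, hg'x⟩ := step hS hF (Subgroup.normalizer_eq_top (P e 1))
    (P_ne_top h he le_rfl (by norm_num)) (fullyNormalized_of_normal _) hne1
    (by rw [Subgroup.card_top, h.card, card_P h he le_rfl (by norm_num), ← pow_succ']) hg hgP
  obtain ⟨β, hβ⟩ := exists_mulAut hg'
  exact ⟨β, fun x hx => (hβ x).trans (hg'x x hx)⟩

include h hS hF he hep in
/-- A torus element of a pearl extended to an automorphism of `S`. -/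
theorem exists_torus_mulAut {j : ℕ} (hj : j = 2 ∨ j = 3)
    (hE : F.IsEssential p ((P e j).map S.subtype)) (hexp : ∀ x ∈ P e j, x ^ p = 1)
    (hne1 : ¬ F.IsEssential p ((P e 1).map S.subtype))
    (hne2 : j = 3 → ¬ F.IsEssential p ((P e 2).map S.subtype))
    {l m : ℕ} (hlm : (p : ℤ) ∣ (l : ℤ) * m - 1) :
    ∃ β : MulAut S, ∃ z ∈ lcs S j, ∃ c ∈ P e j, z ∉ lcs S (j + 1) ∧ c ∉ twoStep S 1 ∧
      (z ^ l)⁻¹ * β z ∈ lcs S (j + 1) ∧ (c ^ m)⁻¹ * β c ∈ lcs S (j + 1) := by
  have hj1 : 1 ≤ j := by omega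
  have hj3 : j ≤ 3 := by omega
  set E := (P e j).map S.subtype with hEd
  have hEle : E ≤ S := Subgroup.map_subtype_le _
  haveI := finite_of_le hEle
  set Mq := ((lcs S (j + 1)).map S.subtype).subgroupOf E with hMq
  have hiff : ∀ (x : S) (hx : x ∈ P e j), el (P e j) x hx ∈ Mq ↔ x ∈ lcs S (j + 1) :=
    fun x hx => ⟨fun ⟨y, hy, hyx⟩ => (Subtype.ext hyx : y = x) ▸ hy, fun hx' => ⟨x, hx', rfl⟩⟩
  have hEc : Nat.card E = p ^ (5 - j) := by rw [hEd, Subgroup.card_subtype, card_P h he hj1 hj3]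
  have hMqc : Nat.card Mq = p ^ (3 - j) := by
    rw [hMq, Nat.card_congr (Subgroup.subgroupOfEquivOfLe (Subgroup.map_mono
      (lcs_le_P e (Nat.le_succ j)))).toEquiv, Subgroup.card_subtype,
      (hyp h).card_lcs (by omega) (by omega)]
    congr 1
    omega
  have hMi : Mq.index = p ^ 2 := by
    have h1 := Mq.card_mul_index
    rw [hMqc, hEc, show p ^ (5 - j) = p ^ (3 - j) * p ^ 2 by rw [← pow_add]; congr 1; omega] at h1
    exact Nat.eq_of_mul_eq_mul_left (pow_pos hp.out.pos _) h1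
  have hMp : ∀ x : E, x ^ p ∈ Mq := by
    intro x
    obtain ⟨y, hy, rfl⟩ := exists_el x
    rw [show el (P e j) y hy ^ p = 1 from Subtype.ext (by
      rw [Subgroup.coe_pow, coe_el, ← Subgroup.coe_pow, hexp y hy]; rfl)]
    exact one_mem _
  have hMc : ∀ x y : E, ⁅x, y⁆ ∈ Mq := by
    intro x y
    obtain ⟨a, ha, rfl⟩ := exists_el x
    obtain ⟨b, hb, rfl⟩ := exists_el y
    exact ⟨⁅a, b⁆, commutator_mem_P h j e ha hb, rfl⟩
  have hchar : Mq.Characteristic ∧ Mq ≤ frattini E := by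
    rcases hj with rfl | rfl
    · obtain ⟨y, hy, hey⟩ := exists_not_commute h he
      have hna : ¬ IsMulCommutative E := fun hcom => hey (Subtype.ext
        (congrArg Subtype.val (hcom.is_comm.comm (el (P e 2) e (mem_self e 2))
          (el (P e 2) y (lcs_le_P e le_rfl hy))) :))
      obtain ⟨hZc, hZΦ, -⟩ := FusionModels.Pearl.cube_facts hEc hna
      have heq : Mq = Subgroup.center E := by
        refine Subgroup.eq_of_le_of_card_ge (fun x hx => Subgroup.mem_center_iff.mpr fun w => ?_) ?_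
        · obtain ⟨a, ha, rfl⟩ := exists_el x
          obtain ⟨b, hb, rfl⟩ := exists_el w
          exact Subtype.ext (congrArg Subtype.val
            (Subgroup.mem_center_iff.mp (three_le_center h ((hiff a ha).mp hx)) b) :)
        · rw [hZc, hMqc]; norm_num
      rw [heq]
      exact ⟨inferInstance, hZΦ.ge⟩
    · have heq : Mq = ⊥ := Subgroup.card_eq_one.mp (by rw [hMqc]; norm_num)
      rw [heq]
      exact ⟨inferInstance, bot_le⟩
  haveI := hchar.1
  have hΦ : frattini E = Mq := by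
    refine le_antisymm (PGroups.frattini_le_of (p := p) ?_ hMp) hchar.2
    rw [commutator_def, Subgroup.commutator_le]
    exact fun a _ b _ => hMc a b
  have hN := normalizer_P h he hep (show 2 ≤ j by omega) hj3
  have hNc : Nat.card (Subgroup.normalizer (P e j : Set S)) = p * Nat.card (P e j) := by
    rw [hN, card_P h he (by omega) (by omega), card_P h he hj1 hj3, ← pow_succ']
    congr 1; omega
  obtain ⟨n₀, hn₀, hn₀'⟩ := SetLike.exists_of_lt (lt_of_le_of_ne Subgroup.le_normalizer fun heq => by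
    rw [← heq] at hNc
    exact Nat.ne_of_lt ((Nat.lt_mul_iff_one_lt_left Nat.card_pos).mpr hp.out.one_lt) hNc :
      P e j < Subgroup.normalizer (P e j : Set S))
  have hgN := (mem_normalizer_map_iff n₀).mpr hn₀
  set t := conjAut E n₀ hgN with ht
  have htX : t ∈ F.autGroup E := autInducedBy_le_autGroup F hEle (conjAut_mem n₀.2 hgN)
  have hinv : ∀ (β : MulAut E) (x : E), x ∈ Mq → β x ∈ Mq := fun β x hx =>
    (Subgroup.characteristic_iff_map_eq.mp hchar.1 β).le ⟨x, hx, rfl⟩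
  have hinn : ∀ α ∈ F.autGroup E, (∀ x, x⁻¹ * α x ∈ Mq) → α ∈ Inn E := fun α hα h1 =>
    FusionModels.Pearl.mem_inn_of_stabilize hS hE Mq (fun β _ x hx => hinv β x hx) hα h1
      fun x hx => by rw [hΦ]; exact mul_mem (inv_mem hx) (hinv α x hx)
  have hnt : ∃ x : E, x⁻¹ * t x ∉ Mq := by
    by_contra hno
    push Not at hno
    obtain ⟨y, hy, hyn⟩ := FusionModels.Pearl.mem_of_mem_inn hE n₀.2 hgN (hinn t htX hno)
    exact hn₀' ((Subtype.ext hyn : y = n₀) ▸ hy)
  have hmove : ∀ K : Subgroup E, Mq ≤ K → K.index = p →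
      ∃ α ∈ F.autGroup E, ∃ x ∈ K, α x ∉ K := by
    intro K hK hKi
    by_contra hno
    push Not at hno
    haveI : K.Normal := ⟨fun x hx g => by
      have h1 := mul_mem (hK (hMc g x)) hx
      rwa [commutatorElement_def, inv_mul_cancel_right] at h1⟩
    refine FusionModels.Pearl.false_of_invariant_maximal hS hF hE K hKi (Or.inl ?_) hno
    have h1 := Subgroup.relIndex_mul_index hK
    rw [hMi, hKi, pow_two] at h1
    rw [hΦ]
    exact Nat.eq_of_mul_eq_mul_right hp.out.pos h1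
  obtain ⟨T, hT, z, c, hz, htz, -, hgen, -, hTz, hTc, hTt⟩ :=
    exists_torus_quot (F := F) hS hEle hMi hMp hMc n₀.2 hgN hnt hmove hlm
  have hTX : T ∈ F.autGroup E := (Subgroup.closure_le _).mpr (fun _ hβ => hβ.1) hT
  -- the torus normalizes the group induced by `S`
  have hTn : T * t * T⁻¹ ∈ autInducedBy S E := by
    set u := t ^ (l * l) with hu
    have huI : u ∈ autInducedBy S E := pow_mem (conjAut_mem n₀.2 hgN) _
    have hα : T * t * T⁻¹ * u⁻¹ ∈ Inn E := by
      refine hinn _ (mul_mem (mul_mem (mul_mem hTX htX) (inv_mem hTX))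
        (inv_mem (autInducedBy_le_autGroup F hEle huI))) fun y => ?_
      have h1 := inv_mem (hTt (T⁻¹ (u⁻¹ y)))
      rw [MulAut.apply_inv_self, MulAut.apply_inv_self, mul_inv_rev, inv_inv] at h1
      exact h1
    have h2 := mul_mem (inn_le_autInducedBy hEle hα) huI
    rwa [inv_mul_cancel_right] at h2
  obtain ⟨g, hg, hgN', hgx⟩ := exists_extension hS hF hE.2.1 hTX
    (mem_normalizer_autInducedBy hS hn₀ hn₀' hNc.le hTn)
  rw [hN] at hg hgN'
  obtain ⟨z₁, hz₁, rfl⟩ := exists_el z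
  obtain ⟨c₁, hc₁, rfl⟩ := exists_el c
  have hres : ∀ (x : S) (hx : x ∈ P e j) (k : ℕ),
      (T (el (P e j) x hx))⁻¹ * el (P e j) x hx ^ k ∈ Mq → (x ^ k)⁻¹ * g x ∈ lcs S (j + 1) := by
    intro x hx k hk
    obtain ⟨y, hy, hyx⟩ := inv_mem hk
    have hyy : y = (x ^ k)⁻¹ * g x := Subtype.ext (hyx.trans (by
      simp [mul_inv_rev, hgx x hx]))
    exact hyy ▸ hy
  -- `z` lies in the two-step centralizer
  have hzM : z₁ ∈ twoStep S 1 := by
    by_contra hzM
    have hPz : P z₁ j = P e j := by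
      refine Subgroup.eq_of_le_of_card_ge (sup_le (Subgroup.zpowers_le.mpr hz₁) le_sup_right) ?_
      rw [card_P h he hj1 hj3, card_P h hzM hj1 hj3]
    refine hn₀' ?_
    rw [← hPz]
    refine MaxClassP.mem_sup_of_commutator_mem h (small h hzM) (m := j + 1) (by omega) (by omega) ?_
    obtain ⟨y, hy, hyx⟩ := inv_mem htz
    have hyy : y = z₁⁻¹ * (n₀ * z₁ * n₀⁻¹) := Subtype.ext (hyx.trans (by
      simp [mul_inv_rev, conjAut_apply]))
    rw [show ⁅n₀, z₁⁆ = z₁ * y * z₁⁻¹ by rw [hyy, commutatorElement_def]; group]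
    exact (inferInstance : (lcs S (j + 1)).Normal).conj_mem y hy z₁
  have hcM : c₁ ∉ twoStep S 1 := by
    intro hcM
    obtain ⟨i, k, y, hy, hyx⟩ := hgen (el (P e j) e (mem_self e j))
    have hyy : y = (z₁ ^ i * c₁ ^ k)⁻¹ * e := Subtype.ext (hyx.trans (by simp [mul_inv_rev]))
    refine he ?_
    rw [← mul_inv_cancel_left (z₁ ^ i * c₁ ^ k) e, ← hyy]
    exact mul_mem (mul_mem (Subgroup.zpow_mem _ hzM i) (Subgroup.zpow_mem _ hcM k))
      (lcs_one_le_twoStep 1 (Subgroup.lowerCentralSeries_antitone _ (by omega) hy))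
  -- extend to `S`
  obtain ⟨β, hβ⟩ : ∃ β : MulAut S, ∀ x ∈ P e j, β x = g x := by
    rcases hj with rfl | rfl
    · obtain ⟨β, hβ⟩ := extend_top h hS hF he hne1 hg hgN'
      exact ⟨β, fun x hx => hβ x (hN.le (Subgroup.le_normalizer hx))⟩
    · obtain ⟨g', hg', hgP', hg'x⟩ := step hS hF (normalizer_P h he hep le_rfl (by norm_num))
        (P_ne_top h he (by norm_num) (by norm_num)) (fullyNormalized_two h hS he hep) (hne2 rfl)
        (by rw [card_P h he le_rfl (by norm_num), card_P h he (by norm_num) (by norm_num),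
          ← pow_succ']) hg hgN'
      obtain ⟨β, hβ⟩ := extend_top h hS hF he hne1 hg' hgP'
      refine ⟨β, fun x hx => ?_⟩
      have hx2 : x ∈ P e 2 := hN.le (Subgroup.le_normalizer hx)
      exact (hβ x ((normalizer_P h he hep le_rfl (by norm_num)).le
        (Subgroup.le_normalizer hx2))).trans (hg'x x hx2)
  refine ⟨β, z₁, mem_lcs_of_mem he hep hj1 hz₁ hzM, c₁, hc₁, fun hh => hz ((hiff _ hz₁).mpr hh),
    hcM, ?_, ?_⟩
  · rw [hβ z₁ hz₁]; exact hres z₁ hz₁ l hTz
  · rw [hβ c₁ hc₁]; exact hres c₁ hc₁ m hTc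

include h hS hF he hep in
/-- There are no extraspecial pearls. -/
theorem not_essential_two (hp2 : p ≠ 2) (hab : NoAb p S) (hexp : ∀ x ∈ P e 2, x ^ p = 1)
    (hne1 : ¬ F.IsEssential p ((P e 1).map S.subtype)) :
    ¬ F.IsEssential p ((P e 2).map S.subtype) := by
  intro hE
  have hp1 : 1 ≤ p := hp.out.pos
  have hlm : (p : ℤ) ∣ ((p - 1 : ℕ) : ℤ) * ((p - 1 : ℕ) : ℤ) - 1 :=
    ⟨(p : ℤ) - 2, by push_cast [hp1]; ring⟩
  obtain ⟨β, z, hz, c, -, hz', hc, hβz, hβc⟩ :=
    exists_torus_mulAut h hS hF he hep (Or.inl rfl) hE hexp hne1 (by norm_num) hlm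
  have hy := hyp h
  set v := ⁅c, z⁆
  have hv : v ∈ lcs S 3 := commutator_mem (mem_zero c) hz le_rfl
  have hv' : v ∉ lcs S 4 := fun hh =>
    hc (twoStep_two h ▸ hy.mem_twoStep_of_commutator (by norm_num) hz hz' hh)
  have e1 := map_commutator_layers (f := β.toMonoidHom) (x := c) (y := z) (k := ((p - 1 : ℕ) : ℤ))
    (l := ((p - 1 : ℕ) : ℤ)) (i := 0) (j := 2) (m := 3) rfl (mem_zero c) hz
    (fun u hu => commutator_mem (by rw [zpow_natCast]; exact hβc) hu (by norm_num))
    (by rw [zpow_natCast]; exact hβz)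
  obtain ⟨-, hw, -⟩ := weights h hab β.surjective (f := β.toMonoidHom) hc
    (m := ((p - 1 : ℕ) : ℤ)) (by
      rw [zpow_natCast]
      exact lcs_one_le_twoStep 1 (Subgroup.lowerCentralSeries_antitone _ (by norm_num) hβc))
  rw [hw v hv, map_zpow] at e1
  have hd := (ZMod.intCast_zmod_eq_zero_iff_dvd _ p).mpr (hy.exp_eq (by norm_num) hv hv' e1)
  push_cast [hp1] at hd
  rw [ZMod.natCast_self] at hd
  norm_num at hd
  have h2 : ((2 : ℕ) : ZMod p) = 0 := by
    push_cast
    linear_combination hd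
  rw [ZMod.natCast_eq_zero_iff] at h2
  exact hp2 ((Nat.prime_dvd_prime_iff_eq hp.out Nat.prime_two).mp h2)

end Fusion

end Pearls

open Pearls

/-- All essential subgroups are pearls: the system is not hyperfocal-full unless `p = 7`. -/
theorem false_of_pearls {Ω : Type*} [Group Ω] {S : Subgroup Ω} [Finite S] {F : FusionSystem S}
    (hS : IsPGroup p S) (hF : F.IsSaturated p) (hp2 : p ≠ 2) (hp7 : p ≠ 7)
    (hcard : Nat.card S = p ^ 5) (hab : NoAb p S)
    (hess : ∀ E, F.IsEssential p E → (∀ x ∈ E, x ^ p = 1) ∧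
      (Nat.card E = p ^ 2 ∨ (Nat.card E = p ^ 3 ∧ ¬ IsMulCommutative ↥E)))
    {E : Subgroup Ω} (hE : F.IsEssential p E) (hhyp : F.hyperfocalSubgroup p = S) : False := by
  -- maximal class
  obtain ⟨n, hn, -⟩ := FusionModels.Pearl.exists_mc_of_pearl hS hF hE (by
    obtain ⟨h1, h2 | h2⟩ := hess E hE
    · refine Or.inl ⟨h2, fun x hx => ⟨h1 x hx, ?_⟩⟩
      haveI := finite_of_le hE.1.1
      exact IsPGroup.isMulCommutative_of_card_eq_prime_sq h2
    · exact Or.inr h2)
  obtain rfl : n = 5 := Nat.pow_right_injective hp.out.two_le (hn.card.symm.trans hcard)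
  -- every essential subgroup is an abelian pearl or an extraspecial one
  have key : ∀ Q : Subgroup Ω, F.IsEssential p Q → ∃ e : S, e ∉ twoStep S 1 ∧ e ^ p = 1 ∧
      ∃ j, (j = 2 ∨ j = 3) ∧ Q = (P e j).map S.subtype ∧ ∀ x ∈ P e j, x ^ p = 1 := by
    intro Q hQ
    obtain ⟨h1, h2⟩ := hess Q hQ
    set Q₀ := Q.subgroupOf S with hQ₀
    have heq : Q₀.map S.subtype = Q := Subgroup.map_subgroupOf_eq_of_le hQ.1.1
    have hexp : ∀ x ∈ Q₀, x ^ p = 1 := fun x hx => Subtype.ext (h1 x hx)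
    have hc : Nat.card Q₀ = Nat.card Q := by rw [← heq, Subgroup.card_subtype]
    obtain ⟨e, -, he, hep, j, hj, hP⟩ := shape hn (E₀ := Q₀) (by rwa [heq]) hexp (by
      rw [hc]
      rcases h2 with h2 | ⟨h2, h3⟩
      · exact Or.inl h2
      · refine Or.inr ⟨h2, ?_⟩
        by_contra hall
        push Not at hall
        exact h3 ⟨⟨fun a b => Subtype.ext (congrArg Subtype.val
          (hall ⟨a, hQ.1.1 a.2⟩ a.2 ⟨b, hQ.1.1 b.2⟩ b.2).eq :)⟩⟩)
    exact ⟨e, he, hep, j, hj, by rw [← hP, heq], hP ▸ hexp⟩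
  have hne1 : ∀ e : S, e ∉ twoStep S 1 → ¬ F.IsEssential p ((P e 1).map S.subtype) := by
    intro e he hh
    have h4 : Nat.card ((P e 1).map S.subtype) = p ^ 4 := by
      rw [Subgroup.card_subtype, card_P hn he le_rfl (by norm_num)]
    rcases (hess _ hh).2 with h2 | ⟨h2, -⟩ <;>
      exact absurd (Nat.pow_right_injective hp.out.two_le (h4.symm.trans h2)) (by norm_num)
  have hne2 : ∀ e : S, e ∉ twoStep S 1 → e ^ p = 1 →
      ¬ F.IsEssential p ((P e 2).map S.subtype) := fun e he hep hh =>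
    not_essential_two hn hS hF he hep hp2 hab
      (fun x hx => Subtype.ext ((hess _ hh).1 x ⟨x, hx, rfl⟩)) (hne1 e he) hh
  have hab3 : ∀ Q : Subgroup Ω, F.IsEssential p Q → ∃ e : S, e ∉ twoStep S 1 ∧ e ^ p = 1 ∧
      Q = (P e 3).map S.subtype ∧ ∀ x ∈ P e 3, x ^ p = 1 := by
    intro Q hQ
    obtain ⟨e, he, hep, j, rfl | rfl, rfl, hexp⟩ := key Q hQ
    · exact absurd hQ (hne2 e he hep)
    · exact ⟨e, he, hep, rfl, hexp⟩
  obtain ⟨e, he, hep, rfl, hexp⟩ := hab3 E hE
  -- the torus element with `m = 2`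
  have hd2 : ¬ (p : ℤ) ∣ 2 := fun h =>
    hp2 ((Nat.prime_dvd_prime_iff_eq hp.out Nat.prime_two).mp (Int.natCast_dvd_natCast.mp h))
  obtain ⟨l, hl⟩ := exists_mul_modEq hd2 1
  obtain ⟨β, z, hz, c, hc', hz', hc, hβz, hβc⟩ := exists_torus_mulAut hn hS hF he hep (Or.inr rfl) hE
    hexp (hne1 e he) (fun _ => hne2 e he hep) (l := l) (m := 2) (by push_cast; rwa [mul_comm])
  rw [lcs_four hn, Subgroup.mem_bot, inv_mul_eq_one] at hβz hβc
  rw [lcs_four hn, Subgroup.mem_bot] at hz'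
  have hcM : (c ^ (2 : ℤ))⁻¹ * β.toMonoidHom c ∈ twoStep S 1 := by
    show (c ^ (2 : ℤ))⁻¹ * β c ∈ twoStep S 1
    rw [← hβc, show (c ^ (2 : ℤ)) = c ^ 2 from zpow_natCast c 2, inv_mul_cancel]
    exact one_mem _
  obtain ⟨-, hw3, hws⟩ := weights hn hab (f := β.toMonoidHom) β.surjective hc hcM
  have hp3 : p = 3 := by
    have hzp : orderOf z = p := orderOf_eq_prime (hexp z (lcs_le_P e le_rfl hz)) hz'
    have h1 : z ^ (((2 : ℤ) ^ 5) - (l : ℤ)) = 1 := by
      rw [zpow_sub, ← hw3 z hz]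
      show β z * _ = 1
      rw [← hβz, zpow_natCast, mul_inv_cancel]
    have h2 : (p : ℤ) ∣ (2 : ℤ) ^ 5 - l := by
      have := orderOf_dvd_iff_zpow_eq_one.mpr h1
      rwa [hzp] at this
    have h3 : (p : ℤ) ∣ 63 := by
      have := (h2.mul_left 2).add hl
      ring_nf at this
      exact this
    have h4 : p ∣ 3 * 3 * 7 := Int.natCast_dvd_natCast.mp (by exact_mod_cast h3)
    rcases (Nat.Prime.dvd_mul hp.out).mp h4 with h5 | h5
    · rcases (Nat.Prime.dvd_mul hp.out).mp h5 with h6 | h6 <;>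
        exact (Nat.prime_dvd_prime_iff_eq hp.out Nat.prime_three).mp h6
    · exact absurd ((Nat.prime_dvd_prime_iff_eq hp.out (by norm_num)).mp h5) hp7
  subst hp3
  have hc3 : c ^ 3 = 1 := hexp c hc'
  have hy := hyp hn
  have hβs : ∀ s ∈ twoStep S 1, s⁻¹ * β s ∈ lcs S 1 := fun s hs => by
    have h1 := mul_mem (MaxClassP.pow_mem_L_one hn s) (hws s hs)
    have h2 : s ^ 3 * ((s ^ ((2 : ℤ) ^ 2))⁻¹ * β s) = s⁻¹ * β s := by
      rw [show ((2 : ℤ) ^ 2) = ((4 : ℕ) : ℤ) by norm_num, zpow_natCast, pow_succ' s 3]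
      group
    exact h2 ▸ h1
  -- the subgroup containing all displacements
  set K := P c 1 with hKd
  haveI hKn : K.Normal := P_one_normal c
  have hL1K : lcs S 1 ≤ K := lcs_le_P c le_rfl
  have claim : ∀ x : S, x ∉ twoStep S 1 → x ^ 3 = 1 → x ∈ K := by
    intro x hx hx3
    by_contra hxK
    obtain ⟨i, hi⟩ := hy.exists_zpow_outside le_rfl (by norm_num) hc x
    have hni : ¬ ((3 : ℕ) : ℤ) ∣ i := fun ⟨k, hk⟩ => hx (by
      rwa [hk, zpow_mul, zpow_natCast, hc3, one_zpow, inv_one, one_mul] at hi)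
    set s := (c ^ i)⁻¹ * x with hsd
    have hs1 : s ∉ lcs S 1 := fun hh => hxK (by
      rw [← mul_inv_cancel_left (c ^ i) x]
      exact mul_mem (Subgroup.zpow_mem _ (mem_self c 1) i) (hL1K hh))
    refine false_of_cubes hn hab hc hc3 hi hs1 fun g hg => ?_
    obtain ⟨a, ha⟩ := hy.exists_zpow_outside le_rfl (by norm_num) hc g
    obtain ⟨b, hb⟩ := hy.exists_zpow_twoStep le_rfl (by norm_num) hi hs1 ha
    have hna : ¬ ((3 : ℕ) : ℤ) ∣ a := fun ⟨k, hk⟩ => hg (by
      rwa [hk, zpow_mul, zpow_natCast, hc3, one_zpow, inv_one, one_mul] at ha)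
    set π := QuotientGroup.mk' (lcs S 1) with hπ
    have hcomm : ∀ u v : S, Commute (π u) (π v) := fun u v =>
      mk_commutator_eq_one_iff.mpr (commutator_mem (mem_zero u) (mem_zero v) le_rfl)
    have hπc3 : π c ^ 3 = 1 := by rw [← map_pow, hc3, map_one]
    have hg' : π g = π c ^ a * π s ^ b := by
      have h1 := mk_eq_one (N := lcs S 1) hb
      rw [map_mul, map_inv, map_mul, map_inv, inv_mul_eq_one, eq_inv_mul_iff_mul_eq] at h1
      rw [← h1, map_zpow, map_zpow]
    have hx' : π x = π c ^ i * π s := by rw [← map_zpow, ← map_mul, hsd, mul_inv_cancel_left]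
    have hβx : π (β x) = π c ^ (2 * i) * π s := by
      rw [← mul_inv_cancel_left (c ^ i) x, ← hsd, map_mul β, map_mul π, map_zpow β, map_zpow π, ← hβc,
        map_pow, ← zpow_natCast, ← zpow_mul]
      congr 1
      exact ((QuotientGroup.mk'_eq_mk' _).mpr ⟨_, hβs s hi, mul_inv_cancel_left _ _⟩).symm
    obtain ⟨h', hh3, hh⟩ : ∃ h' : S, h' ^ 3 = 1 ∧ π h' = π g := by
      by_cases hb0 : ((3 : ℕ) : ℤ) ∣ b
      · refine ⟨c ^ a, ?_, ?_⟩
        · rw [← zpow_natCast, ← zpow_mul, mul_comm, zpow_mul, zpow_natCast, hc3, one_zpow]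
        · obtain ⟨k, hk⟩ := hb0
          rw [hg', map_zpow, hk, zpow_mul, zpow_natCast, ← map_pow,
            show π (s ^ 3) = 1 from mk_eq_one (MaxClassP.pow_mem_L_one hn s), one_zpow, mul_one]
      have hk0 : ¬ ((3 : ℕ) : ℤ) ∣ i * b := fun hh =>
        ((Nat.prime_iff_prime_int.mp Nat.prime_three).dvd_or_dvd hh).elim hni hb0
      by_cases hak : ((3 : ℕ) : ℤ) ∣ i * b - a
      · refine ⟨x ^ b, ?_, ?_⟩
        · rw [← zpow_natCast, ← zpow_mul, mul_comm, zpow_mul, zpow_natCast, hx3, one_zpow]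
        · rw [hg', map_zpow, hx', ((hcomm c s).zpow_left i).mul_zpow, ← zpow_mul,
            zpow_eq_zpow_of_dvd hπc3 hak]
      · refine ⟨β x ^ b, ?_, ?_⟩
        · rw [← zpow_natCast, ← zpow_mul, mul_comm, zpow_mul, zpow_natCast, ← map_pow, hx3, map_one,
            one_zpow]
        · have hd : ((3 : ℕ) : ℤ) ∣ 2 * i * b - a := by
            rw [mul_assoc]
            generalize i * b = k at hk0 hak ⊢
            obtain h1 | h1 : k % 3 = 1 ∨ k % 3 = 2 := by omega
            all_goals obtain h2 | h2 : a % 3 = 1 ∨ a % 3 = 2 := by omega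
            all_goals omega
          rw [hg', map_zpow, hβx, ((hcomm c s).zpow_left (2 * i)).mul_zpow, ← zpow_mul,
            zpow_eq_zpow_of_dvd hπc3 hd]
    obtain ⟨u, hu, hue⟩ := (QuotientGroup.mk'_eq_mk' _).mp hh
    have hh' : h' ∉ twoStep S 1 := fun hh' => hg (by
      rw [← hue]; exact mul_mem hh' (lcs_one_le_twoStep 1 hu))
    obtain ⟨v, hv⟩ := MaxClassP.exists_conj_eq hn (small hn hh') hu
    rw [← hue, ← hv, conj_pow, hh3, mul_one, mul_inv_cancel]
  have hKdisp : ∀ (γ : MulAut S) (x : S), x⁻¹ * γ x ∈ K := by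
    intro γ x
    obtain ⟨a, ha⟩ := hy.exists_zpow_outside le_rfl (by norm_num) hc (γ.toMonoidHom c)
    obtain ⟨hna, -, hγs⟩ := weights hn hab (f := γ.toMonoidHom) γ.surjective hc ha
    have hγc : γ c ∈ K := by
      refine claim _ (fun hh => hna ?_) (by rw [← map_pow, hc3, map_one])
      have h1 : (c ^ a)⁻¹ ∈ twoStep S 1 := (Subgroup.mul_mem_cancel_right _ hh).mp ha
      exact dvd_of_zpow_mem hc hc3 (inv_mem_iff.mp h1)
    obtain ⟨i, hi⟩ := hy.exists_zpow_outside le_rfl (by norm_num) hc x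
    set s := (c ^ i)⁻¹ * x with hsd
    have hγs' : s⁻¹ * γ s ∈ lcs S 1 := by
      have hsq : ((3 : ℕ) : ℤ) ∣ a ^ 2 - 1 := by
        rw [← ZMod.intCast_zmod_eq_zero_iff_dvd]
        push_cast
        have ha0 : (a : ZMod 3) ≠ 0 := fun hh => hna ((ZMod.intCast_zmod_eq_zero_iff_dvd a 3).mp hh)
        exact sq_sub_one_three _ ha0
      obtain ⟨k, hk⟩ := hsq
      have h1 := mul_mem (Subgroup.zpow_mem _ (MaxClassP.pow_mem_L_one hn s) k) (hγs s hi)
      have h2 : (s ^ 3) ^ k * ((s ^ (a ^ 2))⁻¹ * γ s) = s⁻¹ * γ s := by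
        rw [show a ^ 2 = ((3 : ℕ) : ℤ) * k + 1 by omega, zpow_add, zpow_mul, zpow_natCast]
        group
      exact h2 ▸ h1
    have h3 : x⁻¹ * γ x = s⁻¹ * ((c ^ i)⁻¹ * γ c ^ i) * s⁻¹⁻¹ * (s⁻¹ * γ s) := by
      rw [← mul_inv_cancel_left (c ^ i) x, ← hsd, map_mul, map_zpow]
      group
    rw [h3]
    exact mul_mem (hKn.conj_mem _ (mul_mem (inv_mem (Subgroup.zpow_mem _ (mem_self c 1) i))
      (Subgroup.zpow_mem _ hγc i)) _) (hL1K hγs')
  have hgen : ∀ Q : Subgroup Ω, (Q = S ∨ F.IsEssential 3 Q) → ∀ α ∈ F.autGroup Q, ∀ x : Q,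
      (x : Ω)⁻¹ * ((α x : Q) : Ω) ∈ K.map S.subtype := by
    rintro Q (hQ | hQ) α hα x
    · have hQ' : Q = (⊤ : Subgroup S).map S.subtype := by
        rw [hQ, ← MonoidHom.range_eq_map, Subgroup.range_subtype]
      subst hQ'
      obtain ⟨f, hf, -, hfx⟩ := Rep.of_aut hα
      obtain ⟨γ, hγ⟩ := exists_mulAut hf
      obtain ⟨y, hy', rfl⟩ := exists_el x
      refine ⟨_, hKdisp γ y, ?_⟩
      rw [hγ y]
      exact (congrArg (fun w : Ω => (y : Ω)⁻¹ * w) (hfx y hy')).symm
    · obtain ⟨e', he', hep', rfl, -⟩ := hab3 Q hQ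
      have hle : (P e' 3).map S.subtype ≤ K.map S.subtype := Subgroup.map_mono
        (sup_le (Subgroup.zpowers_le.mpr (claim e' he' hep')) (lcs_le_P c (by norm_num)))
      exact mul_mem (inv_mem (hle x.2)) (hle (α x).2)
  have hKc : commutator S ≤ K := by
    rw [← Subgroup.top_lowerCentralSeries_one]
    exact hL1K
  have hfin := hyperfocal_le hS hF hKc hgen
  rw [hhyp] at hfin
  refine P_ne_top hn hc le_rfl (by norm_num) (eq_top_iff.mpr fun x _ => ?_)
  obtain ⟨y, hy', hyx⟩ := hfin x.2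
  exact (Subtype.ext hyx : y = x) ▸ hy'

end CfsgLib.OrderDegrees.FusFifth
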