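import Cfsg.Agent.Lib.FusionExamples.Transvection
import Cfsg.Agent.Lib.FusionModels.TransvectionPair

/-!
Torus elements from two opposite transvections of an elementary abelian group.
-/

set_option autoImplicit false
set_option linter.style.haveILetI false
set_option linter.unusedSectionVars false

namespace CfsgLib.OrderDegrees.FusFifth

open CfsgLib.FusionExamples

variable {p : ℕ} [hp : Fact p.Prime]

theorem zpow_eq_zpow_of_dvd {W : Type*} [Group W] {a : W} (ha : a ^ p = 1) {i j : ℤ}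
    (h : (p : ℤ) ∣ i - j) : a ^ i = a ^ j := by
  obtain ⟨k, hk⟩ := h
  rw [show i = (p : ℤ) * k + j by omega, zpow_add, zpow_mul, zpow_natCast, ha, one_zpow, one_mul]

/-- An inverse modulo `p`, as a natural number. -/
theorem exists_mul_modEq {i : ℤ} (hi : ¬ (p : ℤ) ∣ i) (k : ℤ) : ∃ r : ℕ, (p : ℤ) ∣ i * r - k := by
  refine ⟨((k : ZMod p) * (i : ZMod p)⁻¹).val, ?_⟩
  rw [← ZMod.intCast_zmod_eq_zero_iff_dvd]
  push_cast
  rw [ZMod.natCast_val, ZMod.cast_id]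
  have hi0 : (i : ZMod p) ≠ 0 := by rwa [Ne, ZMod.intCast_zmod_eq_zero_iff_dvd]
  field_simp
  simp

variable {W : Type*} [Group W]

/-- The torus element attached to two opposite transvections. -/
theorem exists_torus (hcomm : ∀ a b : W, a * b = b * a) (hexp : ∀ a : W, a ^ p = 1)
    {τ u : MulAut W} {z c : W} (hτz : τ z = z) (hτc : τ c = c * z) (huc : u c = c)
    (huz : u z = z * c⁻¹) (hτd : ∀ a, ∃ k : ℤ, τ a = a * z ^ k) (hud : ∀ a, ∃ k : ℤ, u a = a * c ^ k)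
    {l m : ℕ} (hlm : (p : ℤ) ∣ (l : ℤ) * m - 1) :
    ∃ T ∈ Subgroup.closure ({τ, u} : Set (MulAut W)), T z = z ^ l ∧ T c = c ^ m ∧
      (∀ a, τ a = a → u a = a → T a = a) ∧ T * τ = τ ^ (l * l) * T := by
  letI : CommGroup W := { (inferInstance : Group W) with mul_comm := hcomm }
  have hfix : ∀ {f : MulAut W} {a : W}, f a = a → ∀ n : ℕ, (f ^ n) a = a := by
    intro f a h n
    induction n with
    | zero => rfl
    | succ n ih => rw [pow_succ, MulAut.mul_apply, h, ih]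
  have ht : ∀ n : ℕ, (τ ^ n) z = z ∧ (τ ^ n) c = c * z ^ n := fun n =>
    ⟨hfix hτz n, CfsgLib.PGroups.mulAut_iterate_eq τ hτc hτz n⟩
  have hu : ∀ n : ℕ, (u ^ n) c = c ∧ (u ^ n) z = z * (c⁻¹) ^ n := fun n =>
    ⟨hfix huc n, CfsgLib.PGroups.mulAut_iterate_eq u huz (by rw [map_inv, huc]) n⟩
  let w : ℕ → ℕ → MulAut W := fun a b => τ ^ a * u ^ b * τ ^ a
  have hw : ∀ a b : ℕ, (p : ℤ) ∣ (a : ℤ) * b - 1 → w a b z = c ^ (-(b : ℤ)) ∧ w a b c = z ^ a := by
    intro a b hab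
    have e : ∀ x : W, w a b x = (τ ^ a) ((u ^ b) ((τ ^ a) x)) := fun x => rfl
    have hzab : ∀ y : W, y ^ ((a : ℤ) * b) = y := fun y => by
      rw [zpow_eq_zpow_of_dvd (hexp y) hab, zpow_one]
    constructor
    · rw [e, (ht a).1, (hu b).2, map_mul, map_pow, map_inv, (ht a).1, (ht a).2]
      rw [inv_pow, mul_pow, ← pow_mul, ← zpow_natCast z (a * b), Nat.cast_mul, hzab, mul_inv_rev,
        mul_inv_cancel_left, zpow_neg, zpow_natCast]
    · rw [e, (ht a).2, map_mul, (hu b).1, map_pow, (hu b).2, map_mul, (ht a).2, map_pow, map_mul,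
        map_pow, map_inv, (ht a).1, (ht a).2]
      rw [mul_pow, ← pow_mul, inv_pow, ← zpow_natCast (c * z ^ a) (b * a), Nat.cast_mul,
        mul_comm (b : ℤ) (a : ℤ), hzab, mul_comm (z ^ a) (c * z ^ a)⁻¹, mul_inv_cancel_left]
  have h11 : (p : ℤ) ∣ ((1 : ℕ) : ℤ) * (1 : ℕ) - 1 := by simp
  obtain ⟨T, hT⟩ : ∃ T, T = w l m * (w 1 1)⁻¹ := ⟨_, rfl⟩
  have hTz : T z = z ^ l := by
    have h1 : (w 1 1)⁻¹ z = c := by
      rw [← (hw 1 1 h11).2.trans (pow_one z), MulAut.inv_apply_self]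
    rw [hT, MulAut.mul_apply, h1, (hw l m hlm).2]
  have hTc : T c = c ^ m := by
    have h1 : (w 1 1)⁻¹ c = z⁻¹ := by
      have h2 : w 1 1 z⁻¹ = c := by rw [map_inv, (hw 1 1 h11).1]; simp
      conv_lhs => rw [← h2]
      exact MulAut.inv_apply_self _ _ _
    rw [hT, MulAut.mul_apply, h1, map_inv, (hw l m hlm).1, ← zpow_neg, neg_neg, zpow_natCast]
  have hTf : ∀ a, τ a = a → u a = a → T a = a := by
    intro a h1 h2
    have h3 : ∀ i j : ℕ, w i j a = a := fun i j => by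
      show (τ ^ i) ((u ^ j) ((τ ^ i) a)) = a
      rw [hfix h1, hfix h2, hfix h1]
    rw [hT, MulAut.mul_apply]
    nth_rw 1 [← h3 1 1]
    rw [MulAut.inv_apply_self, h3]
  have hτm : τ ∈ Subgroup.closure ({τ, u} : Set (MulAut W)) := Subgroup.subset_closure (Or.inl rfl)
  have hum : u ∈ Subgroup.closure ({τ, u} : Set (MulAut W)) := Subgroup.subset_closure (Or.inr rfl)
  have hwm : ∀ i j, w i j ∈ Subgroup.closure ({τ, u} : Set (MulAut W)) := fun i j =>
    mul_mem (mul_mem (pow_mem hτm i) (pow_mem hum j)) (pow_mem hτm i)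
  refine ⟨T, hT ▸ mul_mem (hwm l m) (inv_mem (hwm 1 1)), hTz, hTc, hTf, ?_⟩
  refine CfsgLib.FusionModels.hom_ext_of_pair hcomm hτz hτc huc huz hτd hud ?_ ?_ fun a h1 h2 => ?_
  · rw [MulAut.mul_apply, MulAut.mul_apply, hτz, hTz, map_pow, (ht (l * l)).1]
  · rw [MulAut.mul_apply, MulAut.mul_apply, hτc, map_mul, hTz, hTc, map_pow, (ht (l * l)).2, mul_pow,
      ← pow_mul, ← zpow_natCast z (l * l * m), ← zpow_natCast z l]
    congr 1
    refine (zpow_eq_zpow_of_dvd (hexp z) ?_).symm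
    obtain ⟨k, hk⟩ := hlm
    exact ⟨k * l, by push_cast; linear_combination (l : ℤ) * hk⟩
  · rw [MulAut.mul_apply, MulAut.mul_apply, h1, hTf a h1 h2, hfix h1]

/-- A transvection of a group of order `p ^ 2` and an automorphism moving its line give a torus. -/
theorem exists_torus_sq [Finite W] (hcomm : ∀ a b : W, a * b = b * a) (hexp : ∀ a : W, a ^ p = 1)
    (hcard : Nat.card W = p ^ 2) {t A : MulAut W} {z₀ : W} (hz0 : z₀ ≠ 1) (htz : t z₀ = z₀)
    (htd : ∀ a, a⁻¹ * t a ∈ Subgroup.zpowers z₀) (ht1 : t ≠ 1) (hA : A z₀ ∉ Subgroup.zpowers z₀)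
    {l m : ℕ} (hlm : (p : ℤ) ∣ (l : ℤ) * m - 1) :
    ∃ T ∈ Subgroup.closure ({t, A * t * A⁻¹} : Set (MulAut W)), ∃ z c : W, z ≠ 1 ∧
      z ∈ Subgroup.zpowers z₀ ∧ c ∉ Subgroup.zpowers z₀ ∧ t c = c * z ∧
      (∀ a, ∃ i j : ℤ, a = z₀ ^ i * c ^ j) ∧ T z = z ^ l ∧ T c = c ^ m ∧
      T * t = t ^ (l * l) * T := by
  letI : CommGroup W := { (inferInstance : Group W) with mul_comm := hcomm }
  set c := A z₀ with hc
  have hW : IsPGroup p W := IsPGroup.of_card hcard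
  have hgen : ∀ y, y ∉ Subgroup.zpowers z₀ → ∀ a, ∃ i j : ℤ, a = z₀ ^ i * y ^ j := by
    intro y hy a
    have hlt : Subgroup.zpowers z₀ < Subgroup.zpowers z₀ ⊔ Subgroup.zpowers y :=
      lt_of_le_of_ne le_sup_left fun he => hy (he ▸ Subgroup.mem_sup_right (Subgroup.mem_zpowers y))
    have htop : Subgroup.zpowers z₀ ⊔ Subgroup.zpowers y = ⊤ := by
      refine Subgroup.eq_top_of_le_card _ ?_
      refine le_trans (le_of_eq ?_) (CfsgLib.PGroups.prime_mul_card_le hW hlt)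
      rw [hcard, Nat.card_zpowers, orderOf_eq_prime (hexp z₀) hz0, pow_two]
    obtain ⟨_, ⟨i, rfl⟩, _, ⟨j, rfl⟩, he⟩ := Subgroup.mem_sup.mp (htop.ge (Subgroup.mem_top a))
    exact ⟨i, j, he.symm⟩
  set z := c⁻¹ * t c with hz
  have htc : t c = c * z := (mul_inv_cancel_left _ _).symm
  have hzm : z ∈ Subgroup.zpowers z₀ := htd c
  have hz1 : z ≠ 1 := by
    intro h1
    refine ht1 (MulEquiv.ext fun a => ?_)
    obtain ⟨i, j, rfl⟩ := hgen c hA a
    rw [map_mul, map_zpow, map_zpow, htz, htc, h1, mul_one]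
    rfl
  have hzgen : z₀ ∈ Subgroup.zpowers z := Transvection.mem_zpowers_of_mem (p := p) (hexp z₀) hzm hz1
  have htzz : t z = z := by
    obtain ⟨i, hi⟩ := Subgroup.mem_zpowers_iff.mp hzm
    rw [← hi, map_zpow, htz]
  -- the displacement of `z` by a conjugate of a power of `t`
  obtain ⟨i, j, hij⟩ := hgen c hA (A⁻¹ z)
  obtain ⟨k, hk⟩ := Subgroup.mem_zpowers_iff.mp hzm
  obtain ⟨e, he⟩ := Subgroup.mem_zpowers_iff.mp hzgen
  have hj : ¬ (p : ℤ) ∣ j := by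
    rintro ⟨q, rfl⟩
    rw [zpow_mul, zpow_natCast, hexp, one_zpow, mul_one] at hij
    have h1 : z = c ^ i := by
      rw [hc, ← map_zpow, ← hij, MulAut.apply_inv_self]
    have h2 : z₀ = c ^ (i * e) := by rw [zpow_mul, ← h1, he]
    have h3 : c ^ (i * e) ≠ 1 := h2 ▸ hz0
    obtain ⟨q, hq⟩ := Subgroup.mem_zpowers_iff.mp
      (Transvection.mem_zpowers_of_mem (p := p) (hexp c) ⟨i * e, rfl⟩ h3)
    exact hA ⟨q, by rw [h2]; exact hq⟩
  have hk0 : ¬ (p : ℤ) ∣ k := by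
    rintro ⟨q, rfl⟩
    rw [zpow_mul, zpow_natCast, hexp, one_zpow] at hk
    exact hz1 hk.symm
  have hkj : ¬ (p : ℤ) ∣ j * k := fun h =>
    ((Int.prime_iff_natAbs_prime.mpr (by simpa using hp.out) : Prime (p : ℤ)).dvd_mul.mp h).elim hj hk0
  obtain ⟨r, hr⟩ := exists_mul_modEq hkj (-1)
  set u := A * t ^ r * A⁻¹ with hu
  have huA : ∀ a, u (A a) = A ((t ^ r) a) := fun a => by
    rw [hu, MulAut.mul_apply, MulAut.mul_apply, MulAut.inv_apply_self]
  have htr : ∀ a, (t ^ r) a = a * (a⁻¹ * t a) ^ r := fun a =>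
    CfsgLib.PGroups.mulAut_iterate_eq t (x := a) (d := a⁻¹ * t a) (mul_inv_cancel_left _ _).symm
      (by obtain ⟨q, hq⟩ := Subgroup.mem_zpowers_iff.mp (htd a); rw [← hq, map_zpow, htz]) r
  have huc : u c = c := by rw [hc, huA, htr, htz, inv_mul_cancel, one_pow, mul_one]
  have hud : ∀ a, ∃ q : ℤ, u a = a * c ^ q := fun a => by
    obtain ⟨a, rfl⟩ := A.surjective a
    obtain ⟨q, hq⟩ := Subgroup.mem_zpowers_iff.mp (Subgroup.pow_mem _ (htd a) r)
    exact ⟨q, by rw [huA, htr, ← hq, map_mul, map_zpow]⟩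
  have huz : u z = z * c⁻¹ := by
    have h1 : z = A (z₀ ^ i * c ^ j) := by rw [← hij, MulAut.apply_inv_self]
    have h2 : (z₀ ^ i * c ^ j)⁻¹ * t (z₀ ^ i * c ^ j) = z₀ ^ (k * j) := by
      rw [map_mul, map_zpow, map_zpow, htz, htc, mul_zpow, ← mul_assoc (z₀ ^ i) (c ^ j), inv_mul_cancel_left,
        ← hk, ← zpow_mul]
    nth_rw 1 [h1]
    rw [huA, htr, h2, map_mul, ← h1, ← zpow_natCast, ← zpow_mul, map_zpow, ← hc]
    congr 1
    rw [← zpow_neg_one]
    exact zpow_eq_zpow_of_dvd (hexp c) (by rw [mul_comm k j]; exact hr)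
  have htd' : ∀ a, ∃ q : ℤ, t a = a * z ^ q := fun a => by
    obtain ⟨q, hq⟩ := Subgroup.mem_zpowers_iff.mp (htd a)
    exact ⟨e * q, by rw [zpow_mul, he, hq, mul_inv_cancel_left]⟩
  obtain ⟨T, hT, hTz, hTc, -, hTt⟩ := exists_torus hcomm hexp htzz htc huc huz htd' hud hlm
  refine ⟨T, (Subgroup.closure_le _).mpr ?_ hT, z, c, hz1, hzm, hA, htc, hgen c hA, hTz, hTc, hTt⟩
  have htm : t ∈ Subgroup.closure ({t, A * t * A⁻¹} : Set (MulAut W)) := Subgroup.subset_closure (Or.inl rfl)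
  have hAm : A * t * A⁻¹ ∈ Subgroup.closure ({t, A * t * A⁻¹} : Set (MulAut W)) :=
    Subgroup.subset_closure (Or.inr rfl)
  rintro x (rfl | rfl)
  · exact htm
  · rw [hu, ← conj_pow]
    exact pow_mem hAm r

end CfsgLib.OrderDegrees.FusFifth

namespace CfsgLib.OrderDegrees.FusFifth

open Cfsg CfsgLib.FusionExamples

variable {p : ℕ} [hp : Fact p.Prime] {V : Type*} [CommGroup V] [Finite V] {X : Subgroup (MulAut V)}
  {T : Sylow p X} {Y : Subgroup X} {t : X} {A : Subgroup V} {c : V}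

/-- The torus at a transvection of an elementary abelian group of order `p ^ 3`. -/
theorem exists_torus_data (D : Transvection.Data p X T Y t A c) {l m : ℕ}
    (hlm : (p : ℤ) ∣ (l : ℤ) * m - 1) :
    ∃ h : X, (h : MulAut V) c = c ^ l ∧ (∀ a ∈ A, (h : MulAut V) a * a⁻¹ ∈ Subgroup.zpowers c) ∧
      (∀ y, (h : MulAut V) y * (y ^ m)⁻¹ ∈ A) ∧
      (∃ d ∈ A, d ∉ Subgroup.zpowers c ∧ (h : MulAut V) d = d) ∧
      (h : MulAut V) * (t : MulAut V) = (t : MulAut V) ^ (l * l) * (h : MulAut V) := by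
  obtain ⟨x, -, hx⟩ := SetLike.exists_of_lt (lt_top_iff_ne_top.mpr D.ne_top)
  have hc' := D.apply_not_mem hx
  have hcA : c ∉ A.map (x : MulAut V).toMonoidHom := by
    rintro ⟨a, ha, hac⟩
    refine D.apply_not_mem (x := x⁻¹) (fun h => hx (inv_mem_iff.mp h)) ?_
    show (x : MulAut V).symm c ∈ A
    rw [← hac]
    exact ((x : MulAut V).symm_apply_apply a).symm ▸ ha
  set c' := (x : MulAut V) c with hc'd
  have hxcA : (x : MulAut V).symm c ∉ A := fun h => hcA ⟨_, h, (x : MulAut V).apply_symm_apply c⟩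
  set z := c'⁻¹ * (t : MulAut V) c' with hz
  have hz1 : z ≠ 1 := D.exists_disp_ne hc'
  have hzc : c ∈ Subgroup.zpowers z := Transvection.mem_zpowers_of_mem (p := p) (D.exp c) (D.disp c') hz1
  obtain ⟨e, he⟩ := Subgroup.mem_zpowers_iff.mp hzc
  have htz : (t : MulAut V) z = z := D.fix_zpowers (D.disp c')
  -- the displacement of `z` by conjugates of powers of `t`
  set y := (x : MulAut V).symm z with hy
  have hxy : (x : MulAut V) y = z := (x : MulAut V).apply_symm_apply z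
  have hyA : y ∉ A := fun h => hxcA (by
    rw [← he, map_zpow]
    exact A.zpow_mem h e)
  have hd1 := D.exists_disp_ne hyA
  obtain ⟨q, hq⟩ := Subgroup.mem_zpowers_iff.mp (D.disp y)
  have hq0 : ¬ (p : ℤ) ∣ q := by
    rintro ⟨k, rfl⟩
    exact hd1 (by rw [← hq, zpow_mul, zpow_natCast, D.exp, one_zpow])
  obtain ⟨r, hr⟩ := exists_mul_modEq hq0 (-1)
  set u : X := x * t ^ r * x⁻¹ with hu
  have hut : ∀ a, (u : MulAut V) ((x : MulAut V) a) =
      (x : MulAut V) (a * (a⁻¹ * (t : MulAut V) a) ^ r) := fun a => by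
    rw [hu, Subgroup.coe_mul, Subgroup.coe_mul, Subgroup.coe_inv, Subgroup.coe_pow, MulAut.mul_apply,
      MulAut.mul_apply, MulAut.inv_apply_self,
      Transvection.pow_apply (fun b => D.fix_zpowers (D.disp b))]
  have huA : ∀ a ∈ A.map (x : MulAut V).toMonoidHom, (u : MulAut V) a = a := by
    rintro _ ⟨a, ha, rfl⟩
    show (u : MulAut V) ((x : MulAut V) a) = (x : MulAut V) a
    rw [hut, D.fix a ha, inv_mul_cancel, one_pow, mul_one]
  have huc : (u : MulAut V) c' = c' := huA _ ⟨c, D.c_mem, rfl⟩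
  have huz : (u : MulAut V) z = z * c'⁻¹ := by
    nth_rw 1 [← hxy]
    rw [hut, ← hq, map_mul, hxy, ← zpow_natCast, ← zpow_mul, map_zpow, ← hc'd,
      zpow_eq_zpow_of_dvd (j := -1) (by rw [hc'd, ← map_pow, D.exp, map_one]) hr, zpow_neg_one]
  obtain ⟨h, hh, hhz, hhc, hhf, hht⟩ := exists_torus (fun a b : V => mul_comm a b) D.exp
    (τ := (t : MulAut V)) (u := (u : MulAut V)) htz (mul_inv_cancel_left c' _).symm huc huz
    (fun a => by
      obtain ⟨i, hi⟩ := Subgroup.mem_zpowers_iff.mp (D.disp a)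
      exact ⟨e * i, by rw [zpow_mul, he, hi, mul_inv_cancel_left]⟩)
    (fun a => by
      obtain ⟨a, rfl⟩ := (x : MulAut V).surjective a
      obtain ⟨i, hi⟩ := Subgroup.mem_zpowers_iff.mp (Subgroup.pow_mem _ (D.disp a) r)
      exact ⟨i, by rw [hut, ← hi, map_mul, map_zpow]⟩)
    hlm
  have hX : h ∈ X := (Subgroup.closure_le X).mpr (by
    rintro v (rfl | rfl)
    · exact t.2
    · exact u.2) hh
  have hhc0 : h c = c ^ l := by
    rw [← he, map_zpow, hhz, ← zpow_natCast, ← zpow_mul, ← zpow_natCast, ← zpow_mul, mul_comm]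
  have hdec : ∀ a ∈ A, ∃ b ∈ A, ∃ i : ℤ, a = b * c ^ i ∧ h b = b := by
    intro a ha
    obtain ⟨b, hb, i, hbi⟩ := D.exists_decomp hcA a
    have hbA : b ∈ A := by
      have := A.mul_mem ha (A.zpow_mem D.c_mem (-i))
      rwa [hbi, zpow_neg, mul_inv_cancel_right] at this
    exact ⟨b, hbA, i, hbi, hhf b (D.fix b hbA) (huA b hb)⟩
  refine ⟨⟨h, hX⟩, hhc0, fun a ha => ?_, fun v => ?_, ?_, hht⟩
  · obtain ⟨b, -, i, rfl, hb⟩ := hdec a ha
    show h (b * c ^ i) * (b * c ^ i)⁻¹ ∈ Subgroup.zpowers c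
    rw [map_mul, hb, map_zpow, hhc0, mul_inv_rev, mul_comm (c ^ i)⁻¹, mul_assoc, ← mul_assoc _ b⁻¹,
      mul_comm _ b⁻¹, mul_assoc, mul_inv_cancel_left]
    exact Subgroup.mul_mem _ (Subgroup.zpow_mem _ (Subgroup.pow_mem _ (Subgroup.mem_zpowers c) l) i)
      (Subgroup.inv_mem _ (Subgroup.zpow_mem _ (Subgroup.mem_zpowers c) i))
  · have hmap : A.map ((1 : X) : MulAut V).toMonoidHom = A := by
      ext a
      exact ⟨fun ⟨a', ha', e'⟩ => by rw [← e']; exact ha', fun ha' => ⟨a, ha', rfl⟩⟩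
    obtain ⟨a, ha, i, rfl⟩ := D.exists_decomp (x := 1) (v := c') (by rw [hmap]; exact hc') v
    rw [hmap] at ha
    obtain ⟨b, hb, j, rfl, hhb⟩ := hdec a ha
    show h (b * c ^ j * c' ^ i) * ((b * c ^ j * c' ^ i) ^ m)⁻¹ ∈ A
    rw [map_mul, map_mul, hhb, map_zpow, map_zpow, hhc0, hhc, mul_pow, ← zpow_natCast c' m,
      ← zpow_mul, ← zpow_natCast (c' ^ i) m, ← zpow_mul, mul_comm (m : ℤ) i, mul_inv_rev,
      mul_assoc, mul_inv_cancel_left]
    exact A.mul_mem (A.mul_mem hb (A.zpow_mem (A.pow_mem D.c_mem l) j))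
      (A.inv_mem (A.pow_mem (A.mul_mem hb (A.zpow_mem D.c_mem j)) m))
  · obtain ⟨a, ha, ha'⟩ : ∃ a ∈ A, a ∉ Subgroup.zpowers c := by
      by_contra! hle
      have h1 := Subgroup.card_le_of_le (show A ≤ Subgroup.zpowers c from hle)
      rw [D.card_A, Nat.card_zpowers] at h1
      have h2 := Nat.le_of_dvd hp.out.pos (orderOf_dvd_of_pow_eq_one (D.exp c))
      nlinarith [hp.out.two_le]
    obtain ⟨b, hb, i, hai, hhb⟩ := hdec a ha
    exact ⟨b, hb, fun hm => ha' (hai ▸ Subgroup.mul_mem _ hm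
      (Subgroup.zpow_mem _ (Subgroup.mem_zpowers c) i)), hhb⟩

end CfsgLib.OrderDegrees.FusFifth
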