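import Cfsg.Agent.Lib.OrderDegrees.FusFifth.Basic
import Cfsg.Agent.Lib.OrderDegrees.FusFifth.Torus
import Cfsg.Agent.Lib.FusionModels.RankTwoEssential
import Mathlib.GroupTheory.GroupAction.Basic

/-!
Torus automorphisms of an essential subgroup on a characteristic quotient of order `p ^ 2`.
-/

set_option autoImplicit false
set_option linter.style.haveILetI false
set_option linter.unusedSectionVars false

open scoped commutatorElement

namespace CfsgLib.OrderDegrees.FusFifth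

open Cfsg Cfsg.FusionSystem CfsgLib.Alperin

variable {p : ℕ} [hp : Fact p.Prime] {Ω : Type*} [Group Ω] {S : Subgroup Ω} [Finite S]
  {F : FusionSystem S}

/-- A `p`-automorphism of a group of order `p ^ 2` fixes a nontrivial element. -/
theorem exists_fixed {W : Type*} [Group W] [Finite W] (hcard : Nat.card W = p ^ 2) {t : MulAut W}
    {r : ℕ} (hr : t ^ p ^ r = 1) : ∃ z : W, z ≠ 1 ∧ t z = z := by
  have hP : IsPGroup p (Subgroup.zpowers t) := by
    refine IsPGroup.of_card_dvd_pow (n := r) ?_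
    rw [Nat.card_zpowers]
    exact orderOf_dvd_of_pow_eq_one hr
  obtain ⟨z, hz, hz1⟩ := hP.exists_fixed_point_of_prime_dvd_card_of_fixed_point (α := W)
    (hcard ▸ dvd_pow_self p two_ne_zero) (a := 1) (fun g => map_one (g : MulAut W))
  exact ⟨z, hz1.symm, hz ⟨t, Subgroup.mem_zpowers t⟩⟩

/-- The torus on a characteristic quotient of order `p ^ 2` of an essential subgroup. -/
theorem exists_torus_quot (hS : IsPGroup p S) {E : Subgroup Ω} (hEle : E ≤ S) {M : Subgroup E}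
    [M.Normal] [M.Characteristic] (hM : M.index = p ^ 2) (hMp : ∀ x : E, x ^ p ∈ M)
    (hMc : ∀ x y : E, ⁅x, y⁆ ∈ M) {g : Ω} (hg : g ∈ S) (hgN : g ∈ Subgroup.normalizer (E : Set Ω))
    (hnt : ∃ x : E, x⁻¹ * conjAut E g hgN x ∉ M)
    (hmove : ∀ L : Subgroup E, M ≤ L → L.index = p → ∃ α ∈ F.autGroup E, ∃ x ∈ L, α x ∉ L)
    {l m : ℕ} (hlm : (p : ℤ) ∣ (l : ℤ) * m - 1) :
    ∃ T ∈ Subgroup.closure {β : MulAut E | β ∈ F.autGroup E ∧ ∃ k, β ^ p ^ k = 1}, ∃ z c : E, z ∉ M ∧ (conjAut E g hgN z)⁻¹ * z ∈ M ∧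
      (conjAut E g hgN c)⁻¹ * (c * z) ∈ M ∧
      (∀ a : E, ∃ i j : ℤ, (z ^ i * c ^ j)⁻¹ * a ∈ M) ∧
      (∀ i j : ℤ, z ^ i * c ^ j ∈ M → (p : ℤ) ∣ j) ∧
      (T z)⁻¹ * z ^ l ∈ M ∧ (T c)⁻¹ * c ^ m ∈ M ∧
      ∀ x : E, (T (conjAut E g hgN x))⁻¹ * (conjAut E g hgN ^ (l * l)) (T x) ∈ M := by
  haveI := finite_of_le hEle
  set q := QuotientGroup.mk' M with hq
  set ρ := CfsgLib.FusionModels.RankTwo.quotChar M with hρ
  set t := conjAut E g hgN with ht
  have hρq : ∀ (α : MulAut E) (x : E), ρ α (q x) = q (α x) := fun _ _ => rfl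
  have hq1 : ∀ x y : E, q x = q y ↔ x⁻¹ * y ∈ M := fun x y => QuotientGroup.eq
  have hq0 : ∀ x : E, q x = 1 ↔ x ∈ M := fun x => QuotientGroup.eq_one_iff x
  have hcard : Nat.card (E ⧸ M) = p ^ 2 := by rw [← Subgroup.index_eq_card, hM]
  have hexp : ∀ w : E ⧸ M, w ^ p = 1 := by
    intro w
    obtain ⟨x, rfl⟩ := QuotientGroup.mk'_surjective M w
    rw [← map_pow]
    exact (hq0 _).mpr (hMp x)
  have hcomm : ∀ a b : E ⧸ M, a * b = b * a := by
    intro a b
    obtain ⟨x, rfl⟩ := QuotientGroup.mk'_surjective M a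
    obtain ⟨y, rfl⟩ := QuotientGroup.mk'_surjective M b
    rw [← commutatorElement_eq_one_iff_mul_comm, ← map_commutatorElement]
    exact (hq0 _).mpr (hMc x y)
  obtain ⟨r, hr⟩ := CfsgLib.FusionModels.Pearl.exists_pow_conjAut hS hg hgN
  have hρr : ρ t ^ p ^ r = 1 := by rw [← map_pow, hr, map_one]
  obtain ⟨z₀, hz0, htz⟩ := exists_fixed (p := p) hcard hρr
  have ht1 : ρ t ≠ 1 := by
    obtain ⟨x, hx⟩ := hnt
    intro h
    refine hx ((hq1 x (t x)).mp ?_)
    rw [← hρq, h, MulAut.one_apply]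
  haveI hzn : (Subgroup.zpowers z₀).Normal := ⟨fun a ha b => by
    rw [hcomm b a, mul_inv_cancel_right]; exact ha⟩
  have hzcard : Nat.card (Subgroup.zpowers z₀) = p := by
    rw [Nat.card_zpowers, orderOf_eq_prime (hexp z₀) hz0]
  have htd : ∀ a, a⁻¹ * ρ t a ∈ Subgroup.zpowers z₀ := fun a =>
    CfsgLib.FusionExamples.MaxClass.trivial_mod (IsPGroup.of_card hcard) (L := ⊤) le_top
      (by rw [Subgroup.card_top, hcard, hzcard, pow_two])
      (fun x hx => by
        obtain ⟨i, rfl⟩ := Subgroup.mem_zpowers_iff.mp hx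
        rw [map_zpow, htz]
        exact Subgroup.zpow_mem _ (Subgroup.mem_zpowers z₀) i)
      (fun x _ => Subgroup.mem_top _) hρr (Subgroup.mem_top a)
  have hL : M ≤ (Subgroup.zpowers z₀).comap q := fun x hx => by
    rw [Subgroup.mem_comap, (hq0 x).mpr hx]; exact one_mem _
  have hLi : ((Subgroup.zpowers z₀).comap q).index = p := by
    rw [Subgroup.index_comap_of_surjective _ (QuotientGroup.mk'_surjective M)]
    have h1 := (Subgroup.zpowers z₀).card_mul_index
    rw [hzcard, hcard, pow_two] at h1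
    exact Nat.eq_of_mul_eq_mul_left hp.out.pos h1
  obtain ⟨α, hα, x, hx, hαx⟩ := hmove _ hL hLi
  have hA : ρ α z₀ ∉ Subgroup.zpowers z₀ := by
    intro h
    apply hαx
    obtain ⟨i, hi⟩ := Subgroup.mem_zpowers_iff.mp (Subgroup.mem_comap.mp hx)
    rw [Subgroup.mem_comap, ← hρq, ← hi, map_zpow]
    exact Subgroup.zpow_mem _ h i
  obtain ⟨T', hT', z', c', hz', hzm, hc'm, htc, hgen, hTz, hTc, hTt⟩ :=
    exists_torus_sq hcomm hexp hcard hz0 htz htd ht1 hA hlm
  have htX : t ∈ F.autGroup E := autInducedBy_le_autGroup F hEle (conjAut_mem hg hgN)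
  obtain ⟨T, hT, hTT⟩ : ∃ T ∈ Subgroup.closure {β : MulAut E | β ∈ F.autGroup E ∧ ∃ k, β ^ p ^ k = 1},
      ρ T = T' := by
    refine (Subgroup.closure_le ((Subgroup.closure {β : MulAut E |
      β ∈ F.autGroup E ∧ ∃ k, β ^ p ^ k = 1}).map ρ)).mpr ?_ hT'
    rintro w (rfl | rfl)
    · exact ⟨t, Subgroup.subset_closure ⟨htX, r, hr⟩, rfl⟩
    · exact ⟨α * t * α⁻¹, Subgroup.subset_closure ⟨mul_mem (mul_mem hα htX) (inv_mem hα), r,
        by rw [conj_pow, hr, mul_one, mul_inv_cancel]⟩, by rw [map_mul, map_mul, map_inv]⟩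
  obtain ⟨z, rfl⟩ := QuotientGroup.mk'_surjective M z'
  obtain ⟨c, rfl⟩ := QuotientGroup.mk'_surjective M c'
  have hzgen : z₀ ∈ Subgroup.zpowers (q z) :=
    CfsgLib.FusionExamples.Transvection.mem_zpowers_of_mem (p := p) (hexp z₀) hzm hz'
  obtain ⟨e, he⟩ := Subgroup.mem_zpowers_iff.mp hzgen
  have htz' : ρ t (q z) = q z := by
    obtain ⟨i, hi⟩ := Subgroup.mem_zpowers_iff.mp hzm
    rw [← hi, map_zpow, htz]
  refine ⟨T, hT, z, c, fun h => hz' ((hq0 z).mpr h), (hq1 _ _).mp (by rw [← hρq, htz']),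
    (hq1 _ _).mp (by rw [← hρq, map_mul]; exact htc), fun a => ?_, fun i j hij => ?_,
    (hq1 _ _).mp (by rw [← hρq, hTT, map_pow]; exact hTz),
    (hq1 _ _).mp (by rw [← hρq, hTT, map_pow]; exact hTc), fun x => (hq1 _ _).mp ?_⟩
  · obtain ⟨i, j, hij⟩ := hgen (q a)
    refine ⟨e * i, j, (hq1 _ _).mp ?_⟩
    rw [map_mul, map_zpow, map_zpow, zpow_mul, he, ← hij]
  · by_contra hj
    have h1 : q c ^ j ∈ Subgroup.zpowers z₀ := by
      have h2 := (hq0 _).mpr hij
      rw [map_mul, map_zpow, map_zpow, mul_eq_one_iff_eq_inv] at h2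
      rw [← inv_inv (q c ^ j), ← h2]
      exact Subgroup.inv_mem _ (Subgroup.zpow_mem _ hzm i)
    obtain ⟨k, hk⟩ := exists_mul_modEq hj 1
    refine hc'm ?_
    rw [← zpow_one (q c), ← zpow_eq_zpow_of_dvd (hexp _) hk, zpow_mul]
    exact Subgroup.zpow_mem _ h1 _
  · rw [← hρq, ← hρq, ← hρq, ← hρq, hTT, map_pow]
    exact DFunLike.congr_fun hTt (q x)

/-- When the normalizer is one step larger, the group induced by `S` is generated by inner
automorphisms and one conjugation. -/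
theorem autInducedBy_le (hS : IsPGroup p S) {P : Subgroup S} {n₀ : S}
    (hn₀ : n₀ ∈ Subgroup.normalizer (P : Set S)) (hn₀' : n₀ ∉ P)
    (hcard : Nat.card (Subgroup.normalizer (P : Set S)) ≤ p * Nat.card P) :
    autInducedBy S (P.map S.subtype) ≤
      Inn ↥(P.map S.subtype) ⊔
        Subgroup.zpowers (conjAut (P.map S.subtype) n₀ ((mem_normalizer_map_iff n₀).mpr hn₀)) := by
  haveI := finite_of_le (Subgroup.map_subtype_le P)
  intro a ha
  obtain ⟨g, hg, hga⟩ := mem_autInducedBy_iff.mp ha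
  set g' : S := ⟨g, hg⟩
  have hg' : g' ∈ Subgroup.normalizer (P : Set S) :=
    (mem_normalizer_map_iff g').mp (normalizer_of_induced hga)
  have htop : P ⊔ Subgroup.zpowers n₀ = Subgroup.normalizer (P : Set S) := by
    refine Subgroup.eq_of_le_of_card_ge (sup_le Subgroup.le_normalizer (Subgroup.zpowers_le.mpr hn₀))
      (hcard.trans ?_)
    exact CfsgLib.PGroups.prime_mul_card_le hS (lt_of_le_of_ne le_sup_left fun he =>
      hn₀' (he ▸ Subgroup.mem_sup_right (Subgroup.mem_zpowers n₀)))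
  obtain ⟨e₀, he₀, b, hb, heb⟩ : ∃ e₀ ∈ P, ∃ b ∈ Subgroup.zpowers n₀, e₀ * b = g' := by
    have h1 := htop.ge hg'
    rw [← SetLike.mem_coe, Subgroup.coe_mul_of_right_le_normalizer_left P (Subgroup.zpowers n₀)
      (Subgroup.zpowers_le.mpr hn₀)] at h1
    exact h1
  obtain ⟨i, rfl⟩ := Subgroup.mem_zpowers_iff.mp hb
  obtain ⟨e, he, hee⟩ : ∃ e, e ∈ P.map S.subtype ∧ g = e * (n₀ : Ω) ^ i :=
    ⟨e₀, ⟨e₀, he₀, rfl⟩, by
      rw [show g = (g' : Ω) from rfl, ← heb, Subgroup.coe_mul, Subgroup.coe_zpow]⟩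
  obtain ⟨t, ht⟩ : ∃ t, t = conjAut (P.map S.subtype) n₀ ((mem_normalizer_map_iff n₀).mpr hn₀) :=
    ⟨_, rfl⟩
  rw [← ht]
  have hti : ∀ (j : ℤ) (x : ↥(P.map S.subtype)),
      (((t ^ j) x : ↥(P.map S.subtype)) : Ω) = (n₀ : Ω) ^ j * x * ((n₀ : Ω) ^ j)⁻¹ := by
    intro j
    induction j using Int.induction_on with
    | zero => intro x; simp
    | succ j ih => intro x; rw [zpow_add_one, MulAut.mul_apply, ih, ht, conjAut_apply]; group
    | pred j ih =>
      intro x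
      rw [zpow_sub_one, MulAut.mul_apply, ih]
      obtain ⟨w, rfl⟩ := t.surjective x
      rw [MulAut.inv_apply_self, ht, conjAut_apply]
      group
  rw [show a = MulAut.conj (⟨e, he⟩ : ↥(P.map S.subtype)) * t ^ i from
    MulEquiv.ext fun x => Subtype.ext (by
      rw [hga, MulAut.mul_apply, MulAut.conj_apply, Subgroup.coe_mul, Subgroup.coe_mul,
        Subgroup.coe_inv, hti, hee]
      group)]
  exact mul_mem (Subgroup.mem_sup_left ⟨_, rfl⟩)
    (Subgroup.mem_sup_right (Subgroup.zpow_mem _ (Subgroup.mem_zpowers t) i))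

/-- An automorphism carrying the conjugation into the induced group normalizes it. -/
theorem mem_normalizer_autInducedBy (hS : IsPGroup p S) {P : Subgroup S} {n₀ : S}
    (hn₀ : n₀ ∈ Subgroup.normalizer (P : Set S)) (hn₀' : n₀ ∉ P)
    (hcard : Nat.card (Subgroup.normalizer (P : Set S)) ≤ p * Nat.card P)
    {T : MulAut ↥(P.map S.subtype)}
    (hT : T * conjAut (P.map S.subtype) n₀ ((mem_normalizer_map_iff n₀).mpr hn₀) * T⁻¹ ∈
      autInducedBy S (P.map S.subtype)) :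
    T ∈ Subgroup.normalizer
      (autInducedBy S (P.map S.subtype) : Set (MulAut ↥(P.map S.subtype))) := by
  haveI := finite_of_le (Subgroup.map_subtype_le P)
  haveI : Finite (MulAut ↥(P.map S.subtype)) := Finite.of_injective
    (fun f : MulAut ↥(P.map S.subtype) => (f : ↥(P.map S.subtype) → ↥(P.map S.subtype)))
    fun _ _ h => MulEquiv.ext (congrFun h)
  refine CfsgLib.FusionExamples.SmallEssential.mem_normalizer fun a ha => ?_
  have hle : (Inn ↥(P.map S.subtype) ⊔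
      Subgroup.zpowers (conjAut (P.map S.subtype) n₀ ((mem_normalizer_map_iff n₀).mpr hn₀))) ≤
      (autInducedBy S (P.map S.subtype)).comap (MulAut.conj T).toMonoidHom := by
    refine sup_le ?_ (Subgroup.zpowers_le.mpr hT)
    rintro _ ⟨e, rfl⟩
    show T * MulAut.conj e * T⁻¹ ∈ autInducedBy S (P.map S.subtype)
    rw [show T * MulAut.conj e * T⁻¹ = MulAut.conj (T e) from MulEquiv.ext fun x => by simp]
    exact inn_le_autInducedBy (Subgroup.map_subtype_le P) ⟨_, rfl⟩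
  exact hle (autInducedBy_le hS hn₀ hn₀' hcard ha)

end CfsgLib.OrderDegrees.FusFifth
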