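import Cfsg.Agent.Lib.OrderDegrees.FusFifth.TypeB
import Cfsg.Agent.Lib.FusionBasics.Focal
import Cfsg.Agent.Lib.Alperin.Supersoluble
import Cfsg.Agent.Lib.PGroups.Series
import Cfsg.Agent.Lib.PSolvable.FrattiniFacts
import Cfsg.Agent.S5096
import Cfsg.Agent.S5225

/-!
No saturated fusion system over the exceptional group of order `3 ^ 5` has full hyperfocal subgroup.
-/

set_option autoImplicit false
set_option linter.style.haveILetI false
set_option linter.unusedSectionVars false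

open scoped commutatorElement

namespace CfsgLib.OrderDegrees.FusFifth

open Cfsg Cfsg.FusionSystem CfsgLib.Alperin

namespace TBThree

variable {G : Type*} [Group G]

/-- A subgroup squeezed into an interval of index at most `3`. -/
theorem eq_of_between [Finite G] (hG : IsPGroup 3 G) {A B T : Subgroup G} [Fact (Nat.Prime 3)]
    (hA : A ≤ B) (hB : B < T) (hcard : Nat.card T ≤ 3 * Nat.card A) : B = A := by
  by_contra hne
  have h1 := CfsgLib.PGroups.prime_mul_card_le hG (lt_of_le_of_ne hA (Ne.symm hne))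
  have h2 := CfsgLib.PGroups.prime_mul_card_le hG hB
  have h3 : 0 < Nat.card A := Nat.card_pos
  omega

theorem commutator_conj (a b g : G) : ⁅g * a * g⁻¹, g * b * g⁻¹⁆ = g * ⁅a, b⁆ * g⁻¹ := by
  simp only [commutatorElement_def]; group

/-- Commutators with a power, when the commutator commutes with both entries. -/
theorem commutator_zpow_left {a b : G} (h1 : Commute ⁅a, b⁆ a) (i : ℤ) :
    ⁅a ^ i, b⁆ = ⁅a, b⁆ ^ i := by
  have hc : a * b * a⁻¹ = ⁅a, b⁆ * b := by rw [commutatorElement_def]; group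
  have key : ∀ j : ℕ, a ^ j * b * (a ^ j)⁻¹ = ⁅a, b⁆ ^ j * b := by
    intro j
    induction j with
    | zero => simp
    | succ j ih =>
      calc a ^ (j + 1) * b * (a ^ (j + 1))⁻¹ = a * (a ^ j * b * (a ^ j)⁻¹) * a⁻¹ := by
            rw [pow_succ']; group
        _ = (a * ⁅a, b⁆ ^ j * a⁻¹) * (a * b * a⁻¹) := by rw [ih]; group
        _ = ⁅a, b⁆ ^ j * (⁅a, b⁆ * b) := by
            rw [hc, (h1.symm.pow_right j).eq, mul_inv_cancel_right]
        _ = ⁅a, b⁆ ^ (j + 1) * b := by rw [pow_succ, mul_assoc]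
  obtain ⟨j, rfl | rfl⟩ := i.eq_nat_or_neg
  · rw [zpow_natCast, zpow_natCast, commutatorElement_def (a ^ j) b, key, mul_inv_cancel_right]
  · rw [zpow_neg, zpow_neg, zpow_natCast, zpow_natCast, commutatorElement_def (a ^ j)⁻¹ b, inv_inv]
    have hcomm : Commute (⁅a, b⁆ ^ j) (a ^ j) := (h1.pow_pow j j)
    have hk := key j
    generalize a ^ j = A, ⁅a, b⁆ ^ j = K at hk hcomm
    have h3 : b = A⁻¹ * (K * b) * A := by rw [← hk]; group
    have h5 : A⁻¹ * b * A = K⁻¹ * b := by
      calc A⁻¹ * b * A = A⁻¹ * (K⁻¹ * (K * b)) * A := by group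
        _ = K⁻¹ * (A⁻¹ * (K * b) * A) := by
            rw [← mul_assoc A⁻¹ K⁻¹, ← hcomm.inv_inv.eq]; group
        _ = K⁻¹ * b := by rw [← h3]
    rw [h5, mul_inv_cancel_right]

theorem commutator_zpow_right {a b : G} (h2 : Commute ⁅a, b⁆ b) (i : ℤ) :
    ⁅a, b ^ i⁆ = ⁅a, b⁆ ^ i := by
  have e : ⁅b, a⁆ = ⁅a, b⁆⁻¹ := (commutatorElement_inv a b).symm
  have h := commutator_zpow_left (a := b) (b := a) (e ▸ h2.inv_left) i
  rw [← commutatorElement_inv (b ^ i) a, h, e, inv_zpow, inv_inv]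

theorem commutator_zpow_zpow {a b : G} (h1 : Commute ⁅a, b⁆ a) (h2 : Commute ⁅a, b⁆ b) (i j : ℤ) :
    ⁅a ^ i, b ^ j⁆ = ⁅a, b⁆ ^ (i * j) := by
  have e := commutator_zpow_left h1 i
  rw [commutator_zpow_right (e ▸ h2.zpow_left i), e, zpow_mul]

theorem exponent_eq_one : ∀ K A B L E : ZMod 3,
    K ≠ 0 → K = A * B → E ≠ 0 → E * (K * A) = B * L * E → L = 1 := by
  decide

variable [Finite G] [Fact (Nat.Prime 3)] {x e d : G}

theorem zpow_eq_iff {g : G} (h3 : g ^ 3 = 1) (h1 : g ≠ 1) {i j : ℤ} :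
    g ^ i = g ^ j ↔ (i : ZMod 3) = j := by
  rw [zpow_eq_zpow_iff_modEq, orderOf_eq_prime h3 h1, ← ZMod.intCast_eq_intCast_iff]

/-- The structure of the exceptional group of order `3 ^ 5` needed below. -/
theorem structure_three (hG : IsPGroup 3 G) (hcard : Nat.card G = 3 ^ 5) (h : TBData 3 x e d) :
    (∃ N : Subgroup G, N.Normal ∧ commutator G ≤ N ∧ d ∉ N ∧ d ^ 3 ∈ N ∧
      ∀ β : MulAut G, d⁻¹ * β d ∈ N) ∧
    (∀ z ∈ Subgroup.center G, z ∈ Subgroup.zpowers ⁅x, d⁆) ∧
    ∀ g : G, g ^ 3 ∈ Subgroup.zpowers ⁅x, d⁆ := by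
  classical
  obtain ⟨hc1, hcc, hc3, hed, hnd, hnx, hmC, hm1, he3, hd3⟩ := h
  generalize hc : ⁅x, d⁆ = c at hc1 hcc hc3 hmC he3 hd3 ⊢
  generalize hn : ⁅x, e⁆ = n at hnd hnx hmC hm1
  generalize hm : ⁅n, e⁆ = m at hmC hm1
  obtain ⟨ε, hε⟩ := Subgroup.mem_zpowers_iff.mp hmC
  have hmc : ∀ g, Commute m g := fun g => hε ▸ (hcc g).zpow_left ε
  set C := Subgroup.zpowers c with hC
  have hCcard : Nat.card C = 3 := by rw [hC, Nat.card_zpowers, orderOf_eq_prime hc3 hc1]
  have hcC : c ∈ C := Subgroup.mem_zpowers c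
  have hCcen : ∀ u ∈ C, ∀ g, Commute u g := fun u hu g => by
    obtain ⟨i, rfl⟩ := Subgroup.mem_zpowers_iff.mp hu
    exact (hcc g).zpow_left i
  set N := C ⊔ Subgroup.zpowers n with hN
  set D := N ⊔ Subgroup.zpowers d with hD
  set E4 := D ⊔ Subgroup.zpowers e with hE4
  set M0 := D ⊔ Subgroup.zpowers x with hM0
  have hCN : C ≤ N := le_sup_left
  have hnN : n ∈ N := Subgroup.mem_sup_right (Subgroup.mem_zpowers n)
  have hND : N ≤ D := le_sup_left
  have hdD : d ∈ D := Subgroup.mem_sup_right (Subgroup.mem_zpowers d)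
  have hDE : D ≤ E4 := le_sup_left
  have heE : e ∈ E4 := Subgroup.mem_sup_right (Subgroup.mem_zpowers e)
  have hDM : D ≤ M0 := le_sup_left
  have hxM : x ∈ M0 := Subgroup.mem_sup_right (Subgroup.mem_zpowers x)
  have cle : ∀ {A : Subgroup G} {g a : G}, A ≤ Subgroup.centralizer {g} → Commute a g →
      A ⊔ Subgroup.zpowers a ≤ Subgroup.centralizer {g} := fun hA ha =>
    sup_le hA (Subgroup.zpowers_le.mpr (Subgroup.mem_centralizer_singleton_iff.mpr ha.eq))
  have hCg : ∀ g, C ≤ Subgroup.centralizer {g} := fun g u hu =>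
    Subgroup.mem_centralizer_singleton_iff.mpr (hCcen u hu g).eq
  have hNx : N ≤ Subgroup.centralizer {x} := cle (hCg x) hnx
  have hDn : D ≤ Subgroup.centralizer {n} := cle (cle (hCg n) (Commute.refl n)) hnd.symm
  have hE4d : E4 ≤ Subgroup.centralizer {d} := cle (cle (cle (hCg d) hnd) (Commute.refl d)) hed
  have hM0n : M0 ≤ Subgroup.centralizer {n} := cle hDn hnx.symm
  have hnC : n ∉ C := fun hh => hm1 (by
    rw [← hm, commutatorElement_eq_one_iff_commute]; exact hCcen n hh e)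
  have hdN : d ∉ N := fun hh => hc1 (by
    rw [← hc, commutatorElement_eq_one_iff_commute]
    exact (Subgroup.mem_centralizer_singleton_iff.mp (hNx hh)).symm)
  have hne' : ¬ Commute n e := fun hh => hm1 (by
    rw [← hm, commutatorElement_eq_one_iff_commute]; exact hh)
  have heD : e ∉ D := fun hh =>
    hne' (Subgroup.mem_centralizer_singleton_iff.mp (hDn hh)).symm
  have hxE : x ∉ E4 := fun hh => hc1 (by
    rw [← hc, commutatorElement_eq_one_iff_commute]
    exact Subgroup.mem_centralizer_singleton_iff.mp (hE4d hh))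
  have heM : e ∉ M0 := fun hh =>
    hne' (Subgroup.mem_centralizer_singleton_iff.mp (hM0n hh)).symm
  have step : ∀ {A : Subgroup G} {a : G}, a ∉ A →
      3 * Nat.card A ≤ Nat.card (A ⊔ Subgroup.zpowers a : Subgroup G) := fun ha =>
    CfsgLib.PGroups.prime_mul_card_le hG (left_lt_sup.mpr fun hh => ha (hh (Subgroup.mem_zpowers _)))
  have s1 : 3 * Nat.card C ≤ Nat.card N := step hnC
  have s2 : 3 * Nat.card N ≤ Nat.card D := step hdN
  have s3 : 3 * Nat.card D ≤ Nat.card E4 := step heD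
  have s4 : 3 * Nat.card E4 ≤ Nat.card (E4 ⊔ Subgroup.zpowers x : Subgroup G) := step hxE
  have s5 : 3 * Nat.card D ≤ Nat.card M0 := step fun hh => hxE (hDE hh)
  have hle : ∀ A : Subgroup G, Nat.card A ≤ 243 := fun A => by
    have := Subgroup.card_le_card_group A
    rw [hcard] at this; norm_num at this ⊢; exact this
  have stop : ∀ {A : Subgroup G} {a : G}, a ∉ A → 3 * Nat.card A ≤ 243 := fun ha =>
    le_trans (step ha) (hle _)
  have hTtop : E4 ⊔ Subgroup.zpowers x = ⊤ := by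
    refine Subgroup.eq_top_of_le_card _ ?_
    rw [hcard]; norm_num; omega
  have hMtop : M0 ⊔ Subgroup.zpowers e = ⊤ := by
    refine Subgroup.eq_top_of_le_card _ ?_
    have := step heM
    rw [hcard]; norm_num; omega
  have hcard4 : Nat.card E4 = 81 := by
    have := hle (E4 ⊔ Subgroup.zpowers x); omega
  have hcardM : Nat.card M0 = 81 := by
    have := stop heM; omega
  have hcardD : Nat.card D = 27 := by omega
  have hcardN : Nat.card N = 9 := by omega
  have hgen : ∀ H : Subgroup G, x ∈ H → e ∈ H → d ∈ H → H = ⊤ := by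
    intro H hx he hd
    have hcH : c ∈ H := hc ▸ (by
      rw [commutatorElement_def]
      exact mul_mem (mul_mem (mul_mem hx hd) (inv_mem hx)) (inv_mem hd))
    have hnH : n ∈ H := hn ▸ (by
      rw [commutatorElement_def]
      exact mul_mem (mul_mem (mul_mem hx he) (inv_mem hx)) (inv_mem he))
    rw [eq_top_iff, ← hTtop]
    simp only [hE4, hD, hN, hC, sup_le_iff, Subgroup.zpowers_le]
    exact ⟨⟨⟨⟨hcH, hnH⟩, hd⟩, he⟩, hx⟩
  -- `N` is normal with abelian quotient
  have hene : e * n * e⁻¹ = m⁻¹ * n := by rw [← hm, commutatorElement_def]; group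
  haveI hNn : N.Normal := by
    have hcon : ∀ g, g * n * g⁻¹ ∈ N → g ∈ Subgroup.normalizer (N : Set G) := by
      intro g hg
      have hle' : N ≤ N.comap (MulAut.conj g).toMonoidHom := by
        refine sup_le (fun u hu => ?_) (Subgroup.zpowers_le.mpr hg)
        show g * u * g⁻¹ ∈ N
        rw [← (hCcen u hu g).eq, mul_inv_cancel_right]
        exact hCN hu
      exact Subgroup.mem_normalizer_fintype fun u hu => hle' hu
    refine Subgroup.normalizer_eq_top_iff.mp (hgen _ (hcon x ?_) (hcon e ?_) (hcon d ?_))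
    · rw [← hnx.eq, mul_inv_cancel_right]; exact hnN
    · rw [hene]; exact mul_mem (hCN (inv_mem (hε ▸ Subgroup.zpow_mem _ hcC ε))) hnN
    · rw [← hnd.eq, mul_inv_cancel_right]; exact hnN
  have cmk : ∀ {R : Subgroup G} [R.Normal] {a b : G}, ⁅a, b⁆ ∈ R →
      Commute (QuotientGroup.mk' R a) (QuotientGroup.mk' R b) := fun {R} _ {a b} hab => by
    rw [← commutatorElement_eq_one_iff_commute, ← map_commutatorElement]
    exact (QuotientGroup.eq_one_iff _).mpr hab
  have cmk' : ∀ {R : Subgroup G} [R.Normal] {a b : G},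
      Commute (QuotientGroup.mk' R a) (QuotientGroup.mk' R b) → ⁅a, b⁆ ∈ R := fun {R} _ {a b} hab => by
    have h1 := commutatorElement_eq_one_iff_commute.mpr hab
    rw [← map_commutatorElement] at h1
    exact (QuotientGroup.eq_one_iff _).mp h1
  have hall : ∀ {R : Subgroup G} [R.Normal] (a : G), ⁅a, x⁆ ∈ R → ⁅a, e⁆ ∈ R → ⁅a, d⁆ ∈ R →
      ∀ g, ⁅a, g⁆ ∈ R := fun {R} _ a ha hb hd' g => by
    have : (Subgroup.centralizer {QuotientGroup.mk' R a}).comap (QuotientGroup.mk' R) = ⊤ :=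
      hgen _ (Subgroup.mem_centralizer_singleton_iff.mpr (cmk ha).eq.symm)
        (Subgroup.mem_centralizer_singleton_iff.mpr (cmk hb).eq.symm)
        (Subgroup.mem_centralizer_singleton_iff.mpr (cmk hd').eq.symm)
    exact cmk' (Subgroup.mem_centralizer_singleton_iff.mp (this.ge (Subgroup.mem_top g))).symm
  have hswap : ∀ {R : Subgroup G} {a b : G}, ⁅a, b⁆ ∈ R → ⁅b, a⁆ ∈ R := fun hab => by
    rw [← commutatorElement_inv]; exact inv_mem hab
  have hone : ∀ (R : Subgroup G) {a b : G}, Commute a b → ⁅a, b⁆ ∈ R := fun R {a b} hab => by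
    rw [commutatorElement_eq_one_iff_commute.mpr hab]; exact one_mem R
  have hxeN : ⁅x, e⁆ ∈ N := hn.symm ▸ hnN
  have hxdN : ⁅x, d⁆ ∈ N := hc.symm ▸ hCN hcC
  have hcomm : ∀ a b : G, ⁅a, b⁆ ∈ N := by
    intro a b
    refine hall a (hswap ?_) (hswap ?_) (hswap ?_) b
    · exact hall x (hone N (Commute.refl x)) hxeN hxdN a
    · exact hall e (hswap hxeN) (hone N (Commute.refl e)) (hone N hed) a
    · exact hall d (hswap hxdN) (hone N hed.symm) (hone N (Commute.refl d)) a
  have hcommN : commutator G ≤ N := by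
    rw [commutator_def]; exact Subgroup.commutator_le.mpr fun a _ b _ => hcomm a b
  haveI hCn : C.Normal := ⟨fun u hu g => by rwa [← (hCcen u hu g).eq, mul_inv_cancel_right]⟩
  haveI hDn' : D.Normal := ⟨fun u hu g => by
    have := mul_mem (hND (hcomm g u)) hu
    rwa [commutatorElement_def, inv_mul_cancel_right] at this⟩
  haveI : M0.Normal := ⟨fun u hu g => by
    have := mul_mem (hDM (hND (hcomm g u))) hu
    rwa [commutatorElement_def, inv_mul_cancel_right] at this⟩
  -- powers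
  have hm3 : m ^ 3 = 1 := by
    rw [← hε, ← zpow_natCast, ← zpow_mul, mul_comm, zpow_mul, zpow_natCast, hc3, one_zpow]
  have hn3 : n ^ 3 = 1 := by
    have h1 : x * e * x⁻¹ = n * e := by rw [← hn, commutatorElement_def]; group
    have h2 : (n * e) ^ 3 = e ^ 3 := by
      rw [← h1, conj_pow, ← (hCcen _ he3 x).eq, mul_inv_cancel_right]
    have hem : Commute e m⁻¹ := (hmc e).symm.inv_right
    have h4 : Commute n m⁻¹ := (hmc n).symm.inv_right
    have h3 : (n * e) ^ 3 = n ^ 3 * (m⁻¹) ^ 3 * e ^ 3 :=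
      calc (n * e) ^ 3 = n * (e * n * e⁻¹) * (e * (e * n * e⁻¹) * e⁻¹) * e ^ 3 := by
            simp only [pow_succ, pow_zero, one_mul]; group
        _ = n * (m⁻¹ * n) * (m⁻¹ * (m⁻¹ * n)) * e ^ 3 := by
            rw [hene, show e * (m⁻¹ * n) * e⁻¹ = m⁻¹ * (e * n * e⁻¹) by
              rw [← mul_assoc e, hem.eq]; group, hene]
        _ = n ^ 3 * (m⁻¹) ^ 3 * e ^ 3 := by
            congr 1
            generalize m⁻¹ = z at h4
            simp only [pow_succ, pow_zero, one_mul]
            simp only [mul_assoc, h4.eq, h4.left_comm]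
    rw [h2, inv_pow, hm3, inv_one, mul_one] at h3
    exact mul_eq_right.mp h3.symm
  have hn1 : n ≠ 1 := fun hh => hnC (hh ▸ one_mem C)
  have hcenC : ∀ z ∈ Subgroup.center G, z ∈ C := by
    intro z hz
    have hzc : ∀ g, z ∈ Subgroup.centralizer ({g} : Set G) := fun g =>
      Subgroup.mem_centralizer_singleton_iff.mpr (Subgroup.mem_center_iff.mp hz g).symm
    have hmax : ∀ {A : Subgroup G} {g a : G}, A ≤ Subgroup.centralizer {g} → Nat.card A = 81 →
        ¬ Commute a g → Subgroup.centralizer {g} = A := fun {A g a} hA hAc ha =>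
      eq_of_between hG hA (lt_top_iff_ne_top.mpr fun hh =>
        ha (Subgroup.mem_centralizer_singleton_iff.mp (hh.ge (Subgroup.mem_top a))))
        (by rw [Subgroup.card_top, hcard, hAc]; norm_num)
    have hdc : ¬ Commute x d := fun hh => hc1 (by
      rw [← hc, commutatorElement_eq_one_iff_commute]; exact hh)
    have z1 : z ∈ E4 := hmax hE4d hcard4 hdc ▸ hzc d
    have z2 : z ∈ M0 := hmax hM0n hcardM (fun hh => hne' hh.symm) ▸ hzc n
    have e1 : E4 ⊓ M0 = D := eq_of_between hG (le_inf hDE hDM)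
      (lt_of_le_of_ne inf_le_left fun hh => hxE (by
        have h1 : E4 = M0 := Subgroup.eq_of_le_of_card_ge (inf_eq_left.mp hh)
          (by omega)
        exact h1.ge hxM))
      (by omega)
    have z3 : z ∈ D := e1 ▸ ⟨z1, z2⟩
    have e2 : D ⊓ Subgroup.centralizer {x} = N := eq_of_between hG (le_inf hND hNx)
      (lt_of_le_of_ne inf_le_left fun hh => hdc
        (Subgroup.mem_centralizer_singleton_iff.mp (inf_eq_left.mp hh hdD)).symm)
      (by omega)
    have z4 : z ∈ N := e2 ▸ ⟨z3, hzc x⟩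
    have e3 : N ⊓ Subgroup.centralizer {e} = C := eq_of_between hG (le_inf hCN (hCg e))
      (lt_of_le_of_ne inf_le_left fun hh =>
        hne' (Subgroup.mem_centralizer_singleton_iff.mp (inf_eq_left.mp hh hnN)))
      (by omega)
    exact e3 ▸ ⟨z4, hzc e⟩
  have hx3 : x ^ 3 ∈ C := by
    have h1 : Subgroup.centralizer {x ^ 3} = ⊤ := by
      refine hgen _ ?_ ?_ ?_ <;> refine Subgroup.mem_centralizer_singleton_iff.mpr ?_
      · exact (Commute.self_pow x 3).eq
      · refine (commutatorElement_eq_one_iff_commute.mp ?_ : Commute (x ^ 3) e).eq.symm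
        rw [← zpow_natCast, commutator_zpow_left (hn.symm ▸ hnx), hn, zpow_natCast, hn3]
      · refine (commutatorElement_eq_one_iff_commute.mp ?_ : Commute (x ^ 3) d).eq.symm
        rw [← zpow_natCast, commutator_zpow_left (hc.symm ▸ hcc x), hc,
          zpow_natCast, hc3]
    exact hcenC _ (Subgroup.mem_center_iff.mpr fun g =>
      Subgroup.mem_centralizer_singleton_iff.mp (h1.ge (Subgroup.mem_top g)))
  have hNU : ∀ u ∈ N, ∀ g, ⁅u, g⁆ ∈ C := by
    have hn' : ∀ g, ⁅n, g⁆ ∈ C := hall n (hone C hnx) (hm.symm ▸ hmC) (hone C hnd)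
    intro u hu
    have : N ≤ (Subgroup.center (G ⧸ C)).comap (QuotientGroup.mk' C) :=
      sup_le (fun w hw => Subgroup.mem_center_iff.mpr fun q => by
          rw [show QuotientGroup.mk' C w = 1 from (QuotientGroup.eq_one_iff w).mpr hw, mul_one,
            one_mul])
        (Subgroup.zpowers_le.mpr (Subgroup.mem_center_iff.mpr fun q => by
          obtain ⟨g, rfl⟩ := QuotientGroup.mk_surjective q
          exact (cmk (hn' g)).eq.symm))
    intro g
    exact cmk' (Subgroup.mem_center_iff.mp (this hu) (QuotientGroup.mk' C g)).symm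
  have hN3 : ∀ u ∈ N, u ^ 3 = 1 := by
    intro u hu
    rw [hN, Subgroup.mem_sup_of_normal_left] at hu
    obtain ⟨u1, hu1, u2, hu2, rfl⟩ := hu
    obtain ⟨j, rfl⟩ := Subgroup.mem_zpowers_iff.mp hu2
    obtain ⟨i, rfl⟩ := Subgroup.mem_zpowers_iff.mp hu1
    rw [((hcc n).zpow_zpow i j).mul_pow, ← zpow_natCast, ← zpow_natCast (n ^ j), ← zpow_mul,
      ← zpow_mul, mul_comm, mul_comm j, zpow_mul, zpow_mul, zpow_natCast, zpow_natCast, hc3, hn3,
      one_zpow, one_zpow, one_mul]
  have hcube : ∀ g : G, g ^ 3 ∈ C := by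
    let H : Subgroup G :=
      { carrier := {g | g ^ 3 ∈ C}
        one_mem' := by simp
        mul_mem' := fun {a b} ha hb => by
          simp only [Set.mem_ofPred_eq] at ha hb ⊢
          refine (QuotientGroup.eq_one_iff _).mp ?_
          have hk := cmk (R := C) (hNU _ (hcomm b a) a)
          have hk' := cmk (R := C) (hNU _ (hcomm b a) b)
          have hK3 : (QuotientGroup.mk' C ⁅b, a⁆) ^ 3 = 1 := by
            rw [← map_pow, hN3 _ (hcomm b a), map_one]
          rw [← QuotientGroup.mk'_apply, map_pow, map_mul]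
          rw [← QuotientGroup.eq_one_iff, ← QuotientGroup.mk'_apply, map_pow] at ha hb
          rw [map_commutatorElement] at hk hk' hK3
          generalize QuotientGroup.mk' C a = A, QuotientGroup.mk' C b = B at ha hb hk hk' hK3
          have e1 : B * A * B⁻¹ = ⁅B, A⁆ * A := by rw [commutatorElement_def]; group
          generalize ⁅B, A⁆ = z at hk hk' hK3 e1
          calc (A * B) ^ 3 = A * (B * A * B⁻¹) * (B * (B * A * B⁻¹) * B⁻¹) * B ^ 3 := by
                  simp only [pow_succ, pow_zero, one_mul]; group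
            _ = A * (z * A) * (z * (z * A)) * 1 := by
                rw [hb, e1, show B * (z * A) * B⁻¹ = z * (B * A * B⁻¹) by
                  rw [← mul_assoc B, hk'.symm.eq]; group, e1]
            _ = A ^ 3 * z ^ 3 := by
                simp only [mul_one, pow_succ, pow_zero, one_mul]
                simp only [mul_assoc, hk.symm.eq, hk.symm.left_comm]
            _ = 1 := by rw [ha, hK3, one_mul]
        inv_mem' := fun {a} ha => by
          simp only [Set.mem_ofPred_eq] at ha ⊢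
          rw [inv_pow]; exact inv_mem ha }
    intro g
    have : H = ⊤ := hgen H hx3 he3 hd3
    exact this.ge (Subgroup.mem_top g)
  refine ⟨⟨N, hNn, hcommN, hdN, hCN hd3, fun β => ?_⟩, hcenC, hcube⟩
  -- an automorphism moves `d` inside its coset of `N`
  have hCcen' : Subgroup.center G = C := le_antisymm hcenC fun u hu =>
    Subgroup.mem_center_iff.mpr fun g => (hCcen u hu g).eq.symm
  have hβC : ∀ u : G, β u ∈ C ↔ u ∈ C := fun u => by
    rw [← hCcen', Subgroup.mem_center_iff, Subgroup.mem_center_iff]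
    exact ⟨fun hh g => β.injective (by rw [map_mul, map_mul]; exact hh _),
      fun hh g => by
        obtain ⟨g, rfl⟩ := β.surjective g
        rw [← map_mul, ← map_mul, hh]⟩
  have memD : ∀ u ∈ D, ∃ w ∈ N, ∃ l : ℤ, u = w * d ^ l := fun u hu => by
    rw [hD, Subgroup.mem_sup_of_normal_left] at hu
    obtain ⟨w, hw, v, hv, rfl⟩ := hu
    obtain ⟨l, rfl⟩ := Subgroup.mem_zpowers_iff.mp hv
    exact ⟨w, hw, l, rfl⟩
  have memM : ∀ u ∈ M0, ∃ w ∈ D, ∃ b : ℤ, u = w * x ^ b := fun u hu => by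
    rw [hM0, Subgroup.mem_sup_of_normal_left] at hu
    obtain ⟨w, hw, v, hv, rfl⟩ := hu
    obtain ⟨l, rfl⟩ := Subgroup.mem_zpowers_iff.mp hv
    exact ⟨w, hw, l, rfl⟩
  let π := QuotientGroup.mk' C
  have hDU : ∀ u ∈ D, ∀ g, Commute (π u) (π g) := by
    intro u hu g
    obtain ⟨w, hw, l, rfl⟩ := memD u hu
    rw [map_mul, map_zpow]
    refine Commute.mul_left (cmk (hNU w hw g)) (Commute.zpow_left ?_ l)
    refine cmk (hall d (hswap ?_) (hone C hed.symm) (hone C (Commute.refl d)) g)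
    rw [hc]; exact hcC
  have h3Q : π n ^ 3 = 1 := by rw [← map_pow, hn3, map_one]
  have h1Q : π n ≠ 1 := fun hh => hnC ((QuotientGroup.eq_one_iff n).mp hh)
  have hxnQ : ∀ g, Commute (π n) (π g) := hDU n (hND hnN)
  have hxeQ : ∀ i j : ℤ, ⁅π x ^ i, π e ^ j⁆ = π n ^ (i * j) := fun i j => by
    have hxe : ⁅π x, π e⁆ = π n := by rw [← map_commutatorElement, hn]
    rw [commutator_zpow_zpow (hxe ▸ hxnQ x) (hxe ▸ hxnQ e), hxe]
  -- the image of `n`
  obtain ⟨i, k, hk⟩ : ∃ i k : ℤ, β n = c ^ i * n ^ k := by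
    have h1 : β n ∈ N := by rw [← hn, map_commutatorElement]; exact hcomm _ _
    rw [hN, Subgroup.mem_sup_of_normal_left] at h1
    obtain ⟨u1, hu1, u2, hu2, he⟩ := h1
    obtain ⟨i, rfl⟩ := Subgroup.mem_zpowers_iff.mp hu1
    obtain ⟨j, rfl⟩ := Subgroup.mem_zpowers_iff.mp hu2
    exact ⟨i, j, he.symm⟩
  have hk0 : (k : ZMod 3) ≠ 0 := fun hh => hnC ((hβC n).mp (by
    rw [hk, ((zpow_eq_iff hn3 hn1).mpr (by simpa using hh) : n ^ k = n ^ (0 : ℤ)), zpow_zero,
      mul_one]
    exact Subgroup.zpow_mem _ hcC i))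
  -- the image of `x`
  have hxM' : β x ∈ M0 := by
    have h1 : Commute (β n) (β x) := hnx.map β
    have h2 : Commute (n ^ k) (β x) := by
      have h3 := ((hCcen _ (Subgroup.zpow_mem _ hcC i) (β x)).inv_left).mul_left (hk ▸ h1)
      rwa [inv_mul_cancel_left] at h3
    have h4 : Commute n (β x) := by
      obtain ⟨k', hk'⟩ : ∃ k' : ℤ, ((k * k' : ℤ) : ZMod 3) = 1 :=
        ⟨((k : ZMod 3)⁻¹).val, by
          rw [Int.cast_mul, Int.cast_natCast, ZMod.natCast_zmod_val, mul_inv_cancel₀ hk0]⟩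
      have := h2.zpow_left k'
      rwa [← zpow_mul, (zpow_eq_iff hn3 hn1).mpr (hk'.trans (by simp) : _ = ((1 : ℤ) : ZMod 3)),
        zpow_one] at this
    have hmax : Subgroup.centralizer {n} = M0 := eq_of_between hG hM0n
      (lt_top_iff_ne_top.mpr fun hh =>
        hne' (Subgroup.mem_centralizer_singleton_iff.mp (hh.ge (Subgroup.mem_top e))).symm)
      (by rw [Subgroup.card_top, hcard, hcardM]; norm_num)
    exact hmax ▸ Subgroup.mem_centralizer_singleton_iff.mpr h4.eq.symm
  obtain ⟨w1, hw1, b, hb⟩ := memM _ hxM'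
  -- the image of `e`
  obtain ⟨g, hg, a, ha⟩ : ∃ g ∈ M0, ∃ a : ℤ, β e = g * e ^ a := by
    have h1 : β e ∈ M0 ⊔ Subgroup.zpowers e := hMtop ▸ Subgroup.mem_top _
    rw [Subgroup.mem_sup_of_normal_left] at h1
    obtain ⟨g, hg, v, hv, he⟩ := h1
    obtain ⟨a, rfl⟩ := Subgroup.mem_zpowers_iff.mp hv
    exact ⟨g, hg, a, he.symm⟩
  -- the image of `d`
  have hdD' : β d ∈ D := by
    have hU : ∀ s, ⁅β d, s⁆ ∈ C := fun s => by
      obtain ⟨s, rfl⟩ := β.surjective s
      rw [← map_commutatorElement]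
      refine (hβC _).mpr (hall d (hswap ?_) (hone C hed.symm) (hone C (Commute.refl d)) s)
      rw [hc]; exact hcC
    have h1 : Commute (β d) n := by
      obtain ⟨c1, hc1', hux⟩ : ∃ c1 ∈ C, β d * x * (β d)⁻¹ = c1 * x :=
        ⟨_, hU x, by rw [commutatorElement_def]; group⟩
      obtain ⟨c2, hc2', hue⟩ : ∃ c2 ∈ C, β d * e * (β d)⁻¹ = c2 * e :=
        ⟨_, hU e, by rw [commutatorElement_def]; group⟩
      have := (commutator_conj x e (β d)).symm
      rw [hux, hue, commutatorElement_mul_left_eq_conj_mul, commutatorElement_mul_right_eq_mul_conj,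
        commutatorElement_eq_one_iff_commute.mpr (hCcen c1 hc1' (c2 * e)),
        commutatorElement_eq_one_iff_commute.mpr (hCcen c2 hc2' x).symm, one_mul, mul_one, hn,
        ← (hCcen c2 hc2' n).eq.symm, mul_inv_cancel_right, (hCcen c1 hc1' n).eq,
        mul_inv_cancel_right] at this
      exact (mul_inv_eq_iff_eq_mul.mp this)
    have hmem : β d ∈ M0 := by
      have hmax : Subgroup.centralizer {n} = M0 := eq_of_between hG hM0n
        (lt_top_iff_ne_top.mpr fun hh =>
          hne' (Subgroup.mem_centralizer_singleton_iff.mp (hh.ge (Subgroup.mem_top e))).symm)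
        (by rw [Subgroup.card_top, hcard, hcardM]; norm_num)
      exact hmax ▸ Subgroup.mem_centralizer_singleton_iff.mpr h1.eq
    obtain ⟨w, hw, r, hr⟩ := memM _ hmem
    have h2 : π n ^ r = π n ^ (0 : ℤ) := by
      have h4 : Commute (π (β d)) (π e) := cmk (hU e)
      have h5 : Commute (π x ^ r) (π e) := by
        have := ((hDU w hw e).inv_left).mul_left h4
        rwa [hr, map_mul, map_zpow, inv_mul_cancel_left] at this
      have h6 := hxeQ r 1
      rwa [zpow_one, mul_one, commutatorElement_eq_one_iff_commute.mpr h5, ← zpow_zero (π n),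
        eq_comm] at h6
    rw [hr]
    refine mul_mem hw ?_
    obtain ⟨j, rfl⟩ : (3 : ℤ) ∣ r := (ZMod.intCast_zmod_eq_zero_iff_dvd r 3).mp
      (by simpa using (zpow_eq_iff h3Q h1Q).mp h2)
    rw [zpow_mul, zpow_ofNat]
    exact Subgroup.zpow_mem _ (hND (hCN hx3)) j
  obtain ⟨w, hw, l, hl⟩ := memD _ hdD'
  -- the exponents
  have hkab : (k : ZMod 3) = a * b := by
    have h1 : π (β n) = π n ^ k := by
      rw [hk, map_mul, map_zpow, map_zpow,
        show π c = 1 from (QuotientGroup.eq_one_iff c).mpr hcC, one_zpow, one_mul]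
    have hgx : Commute (π g) (π x) := by
      obtain ⟨u, hu, j, rfl⟩ := memM g hg
      rw [map_mul, map_zpow]
      exact (hDU u hu x).mul_left ((Commute.refl _).zpow_left j)
    have h2 : π (β n) = π n ^ (b * a) := by
      rw [← hn, map_commutatorElement, hb, ha, map_commutatorElement, map_mul, map_mul, map_zpow,
        map_zpow, commutatorElement_mul_left_eq_conj_mul, commutatorElement_mul_right_eq_mul_conj,
        commutatorElement_eq_one_iff_commute.mpr (hgx.symm.zpow_left b), one_mul, hxeQ]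
      have h3 : ⁅π w1, π g * π e ^ a⁆ = 1 := commutatorElement_eq_one_iff_commute.mpr
        ((hDU w1 hw1 g).mul_right ((hDU w1 hw1 e).zpow_right a))
      rw [h3, mul_one, ← ((hxnQ g).zpow_left (b * a)).eq, mul_inv_cancel_right,
        ← ((hxnQ w1).zpow_left (b * a)).eq, mul_inv_cancel_right]
      rw [hn]
    have := (zpow_eq_iff h3Q h1Q).mp (h1.symm.trans h2)
    rw [this]; push_cast; ring
  have hwall : ∀ v ∈ M0, Commute w v := by
    intro v hv
    obtain ⟨u, hu, j, rfl⟩ := memM v hv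
    have hNd : N ≤ Subgroup.centralizer {d} := (hND.trans hDE).trans hE4d
    obtain ⟨u', hu', l', rfl⟩ := memD u hu
    refine (Commute.mul_right ?_ ((Commute.zpow_right
      (Subgroup.mem_centralizer_singleton_iff.mp (hNd hw)) l'))).mul_right
      (Commute.zpow_right (Subgroup.mem_centralizer_singleton_iff.mp (hNx hw)) j)
    have hNN : N ≤ Subgroup.centralizer {w} := sup_le (hCg w) (Subgroup.zpowers_le.mpr
      (Subgroup.mem_centralizer_singleton_iff.mpr
        (Subgroup.mem_centralizer_singleton_iff.mp ((hND.trans hDn) hw)).symm))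
    exact (Subgroup.mem_centralizer_singleton_iff.mp (hNN hu')).symm
  have hw1d : Commute w1 d := Subgroup.mem_centralizer_singleton_iff.mp (hE4d (hDE hw1))
  have hβc : β c = c ^ (b * l) := by
    rw [← hc, map_commutatorElement, hb, hl, commutatorElement_mul_right_eq_mul_conj,
      commutatorElement_eq_one_iff_commute.mpr (hb ▸ hwall _ hxM').symm, one_mul,
      commutatorElement_mul_left_eq_conj_mul,
      commutatorElement_eq_one_iff_commute.mpr (hw1d.zpow_right l), mul_one,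
      commutator_zpow_zpow (hc.symm ▸ hcc x) (hc.symm ▸ hcc d), hc,
      ← (((hcc w1).zpow_left (b * l))).eq, mul_inv_cancel_right,
      ← (((hcc w).zpow_left (b * l))).eq, mul_inv_cancel_right]
  have hβm : β m = c ^ (ε * (k * a)) := by
    have hgn' : Commute g n := Subgroup.mem_centralizer_singleton_iff.mp (hM0n hg)
    have hgn : Commute (n ^ k) g := hgn'.symm.zpow_left k
    have hnm : ⁅n, e⁆ = m := hm
    rw [← hm, map_commutatorElement, hk, ha, commutatorElement_mul_left_eq_conj_mul,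
      commutatorElement_eq_one_iff_commute.mpr
        ((hcc _).zpow_left i : Commute (c ^ i) (g * e ^ a)),
      mul_one, ← (((hcc _).zpow_left i : Commute (c ^ i) ⁅n ^ k, g * e ^ a⁆)).eq.symm,
      mul_inv_cancel_right, commutatorElement_mul_right_eq_mul_conj,
      commutatorElement_eq_one_iff_commute.mpr hgn, one_mul,
      commutator_zpow_zpow (hnm.symm ▸ hmc n) (hnm.symm ▸ hmc e), hnm,
      ← ((hmc g).zpow_left (k * a)).eq, mul_inv_cancel_right, ← hε, ← zpow_mul]
  have hl1 : (l : ZMod 3) = 1 := by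
    have h1 : c ^ (ε * (k * a)) = c ^ (b * l * ε) := by
      rw [← hβm, ← hε, map_zpow, hβc, ← zpow_mul]
    have h2 := (zpow_eq_iff hc3 hc1).mp h1
    have hεne : (ε : ZMod 3) ≠ 0 := fun hh => hm1 (by
      rw [← hε, (zpow_eq_iff hc3 hc1).mpr (by simpa using hh : (ε : ZMod 3) = ((0 : ℤ) : ZMod 3)),
        zpow_zero])
    push_cast at h2
    exact exponent_eq_one _ _ _ _ _ hk0 hkab hεne h2
  rw [hl]
  obtain ⟨j, hj⟩ : (3 : ℤ) ∣ l - 1 := by
    refine (ZMod.intCast_zmod_eq_zero_iff_dvd (l - 1) 3).mp ?_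
    push_cast; rw [hl1, sub_self]
  have hdl : d⁻¹ * (w * d ^ l) = w * (d ^ (3 : ℤ)) ^ j := by
    rw [← mul_assoc, ← ((hwall d (hDM hdD)).inv_right).eq, mul_assoc, ← zpow_mul, ← hj,
      ← zpow_neg_one, ← zpow_add, neg_add_eq_sub]
  rw [hdl, zpow_ofNat]
  exact mul_mem hw (Subgroup.zpow_mem _ (hCN hd3) j)

end TBThree

variable [Fact (Nat.Prime 3)] {Ω : Type*} [Group Ω] {S : Subgroup Ω} [Finite S] {F : FusionSystem S}

/-- A homomorphism detecting `d` and invariant under all automorphisms of the system on `S`. -/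
theorem exists_invariant_hom (hS : IsPGroup 3 S) (hF : F.IsSaturated 3) {N : Subgroup S} [N.Normal]
    (hcomm : commutator S ≤ N) {d : S} (hd : d ∉ N) (hd3 : d ^ 3 ∈ N)
    (hfix : ∀ β : MulAut S, d⁻¹ * β d ∈ N) :
    ∃ K : Subgroup S, d ∉ K ∧ ∀ α ∈ F.autGroup S, ∀ s : S, s⁻¹ * α s ∈ K := by
  classical
  haveI := finite_autGroup F (le_refl S)
  letI : CommGroup (S ⧸ N) := { (inferInstance : Group (S ⧸ N)) with
    mul_comm := fun u v =>
      ((Subgroup.Normal.quotient_commutative_iff_commutator_le).mpr hcomm).is_comm.comm u v }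
  set X := F.autGroup S with hX
  set I := (autInducedBy S S).subgroupOf X with hI
  haveI : (autInducedBy S S).Normal := autInducedBy_self_normal S
  haveI : I.Normal := inferInstance
  obtain ⟨-, R, hR⟩ :=
    (centralized_automized_of_fullyNormalized hS hF (isFullyNormalized_top F)).2
  have hidx : ¬ 3 ∣ I.index := by rw [hI, hX, ← hR]; exact R.not_dvd_index
  letI : Fintype (X ⧸ I) := Fintype.ofFinite _
  let θ : S →* S ⧸ N :=
    { toFun := fun s => ∏ q : X ⧸ I, QuotientGroup.mk' N ((q.out : MulAut S) s)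
      map_one' := by simp
      map_mul' := fun s t => by simp [Finset.prod_mul_distrib] }
  have hθ : ∀ α ∈ X, ∀ s, θ (α s) = θ s := by
    intro α hα s
    show ∏ q : X ⧸ I, QuotientGroup.mk' N ((q.out : MulAut S) (α s)) = _
    refine Fintype.prod_equiv (Equiv.mulRight (QuotientGroup.mk (⟨α, hα⟩ : X))) _ _ fun q => ?_
    set q' := Equiv.mulRight (QuotientGroup.mk (⟨α, hα⟩ : X)) q with hq'
    have hmem : q'.out⁻¹ * (q.out * ⟨α, hα⟩) ∈ I := by
      refine QuotientGroup.eq.mp ?_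
      rw [QuotientGroup.out_eq', QuotientGroup.mk_mul, QuotientGroup.out_eq', hq']
      rfl
    obtain ⟨g, hg, hgx⟩ := mem_autInducedBy_iff.mp hmem
    have e1 : ((q.out : MulAut S)) (α s) =
        (q'.out : MulAut S) (⟨g, hg⟩ * s * ⟨g, hg⟩⁻¹) := by
      have h1 : ((q'.out⁻¹ * (q.out * ⟨α, hα⟩) : X) : MulAut S) s = ⟨g, hg⟩ * s * ⟨g, hg⟩⁻¹ :=
        Subtype.ext (hgx s)
      rw [← h1]
      simp only [Subgroup.coe_mul, Subgroup.coe_inv, MulAut.mul_apply, MulAut.apply_inv_self]
    rw [e1]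
    simp only [map_mul, map_inv]
    rw [mul_comm (QuotientGroup.mk' N _), mul_inv_cancel_right]
  refine ⟨θ.ker, fun hh => ?_, fun α hα s => ?_⟩
  · have h1 : θ d = (QuotientGroup.mk' N d) ^ I.index := by
      show ∏ q : X ⧸ I, QuotientGroup.mk' N ((q.out : MulAut S) d) = _
      rw [Finset.prod_congr rfl (g := fun _ => QuotientGroup.mk' N d) fun q _ => ?_,
        Finset.prod_const, Finset.card_univ, ← Nat.card_eq_fintype_card, ← Subgroup.index_eq_card]
      exact (QuotientGroup.eq.mpr (hfix _)).symm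
    have h2 : orderOf (QuotientGroup.mk' N d) = 3 := orderOf_eq_prime
      (by rw [← map_pow]; exact (QuotientGroup.eq_one_iff _).mpr hd3)
      (fun h => hd ((QuotientGroup.eq_one_iff _).mp h))
    exact hidx (h2 ▸ orderOf_dvd_of_pow_eq_one (h1.symm.trans hh))
  · rw [MonoidHom.mem_ker, map_mul, map_inv, hθ α hα, inv_mul_cancel]

theorem false_of_typeB (hS : IsPGroup 3 S) (hF : F.IsSaturated 3) (hcard : Nat.card S = 3 ^ 5)
    (hab : NoAb 3 S) (hB : TypeB 3 S) (hhyp : F.hyperfocalSubgroup 3 = S) : False := by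
  obtain ⟨x, e, d, hdata⟩ := hB
  obtain ⟨⟨N, hNn, hcomm, hd, hd3, hfix⟩, hcen, hcube⟩ := TBThree.structure_three hS hcard hdata
  obtain ⟨K, hdK, hK⟩ := exists_invariant_hom hS hF hcomm hd hd3 hfix
  obtain ⟨M, hM⟩ := Cfsg.Agent.S5096.result F S le_rfl
  have hMK : M.focalSubgroup ≤ K.map S.subtype := by
    refine (Subgroup.closure_le _).mpr ?_
    rintro _ ⟨P, φ, v, hφ, rfl⟩
    rw [hM P] at hφ
    obtain ⟨hφF, -, -, ψ, hψ, hψx, -⟩ := hφ
    have hP : P ≤ S := dom_le hφF
    obtain ⟨α, hα, hαx⟩ := exists_aut_of_hom' F (restrict_mem hψ (le_sup_right : S ≤ P ⊔ S))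
      (fun w => apply_mem (restrict_mem hψ (le_sup_right : S ≤ P ⊔ S)) w)
    refine ⟨(⟨v, hP v.2⟩ : S)⁻¹ * α ⟨v, hP v.2⟩, hK α hα _, ?_⟩
    simp only [Subgroup.coe_subtype, Subgroup.coe_mul, Subgroup.coe_inv, hαx, MonoidHom.coe_comp,
      Function.comp_apply]
    rw [← hψx v]
    rfl
  have hne : M.focalSubgroup ≠ F.focalSubgroup := by
    intro heq
    have h1 : (d : Ω) ∈ M.focalSubgroup := by
      rw [heq]
      exact CfsgLib.FusionBasics.hyperfocalSubgroup_le_focalSubgroup F 3 (by rw [hhyp]; exact d.2)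
    obtain ⟨k, hk, hkd⟩ := hMK h1
    exact hdK (Subtype.ext hkd ▸ hk)
  obtain ⟨W, f, hf⟩ := Cfsg.Agent.S5225.result 3 hS F hF M hM hne
  have hfC : ∀ u : S, f (u ^ 3) = 1 := by
    have hker : f.ker ≠ ⊥ := by
      intro hbot
      have h1 := Nat.card_le_card_of_injective f ((MonoidHom.ker_eq_bot_iff f).mp hbot)
      have h2 : Nat.card W ∣ Nat.factorial (3 ^ 2) := by
        have h3 := (W : Subgroup (Equiv.Perm (Fin (3 ^ 2)))).card_subgroup_dvd_card
        rwa [Nat.card_perm, Nat.card_fin] at h3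
      obtain ⟨j, hj⟩ := IsPGroup.iff_card.mp W.isPGroup'
      rw [hj] at h1 h2
      rw [hcard] at h1
      have h5 : 3 ^ 5 ∣ 3 ^ j :=
        pow_dvd_pow 3 ((Nat.pow_le_pow_iff_right (by norm_num)).mp h1)
      exact absurd (h5.trans h2) (by decide)
    haveI := hS.isNilpotent
    have hne' := CfsgLib.PSolvable.inf_center_ne_bot hker
    obtain ⟨z, hz, hz1⟩ := (Subgroup.ne_bot_iff_exists_ne_one.mp hne').imp fun z hz =>
      And.intro z.2 (fun h => hz (Subtype.ext h))
    have hgenC : Subgroup.zpowers ⁅x, d⁆ ≤ f.ker := by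
      obtain ⟨i, hi⟩ := Subgroup.mem_zpowers_iff.mp (hcen _ (Subgroup.mem_inf.mp hz).2)
      have hc : orderOf ⁅x, d⁆ = 3 := orderOf_eq_prime hdata.c_pow hdata.c_ne
      have hC : Nat.card (Subgroup.zpowers ⁅x, d⁆) = 3 := by rw [Nat.card_zpowers, hc]
      haveI : Fact (Nat.card (Subgroup.zpowers ⁅x, d⁆)).Prime := ⟨hC ▸ Nat.prime_three⟩
      rcases Subgroup.eq_bot_or_eq_top_of_prime_card
        ((f.ker).subgroupOf (Subgroup.zpowers ⁅x, d⁆)) with h | h
      · exfalso
        apply hz1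
        have hmem : (⟨(z : S), hcen _ (Subgroup.mem_inf.mp hz).2⟩ : Subgroup.zpowers ⁅x, d⁆) ∈
            (f.ker).subgroupOf (Subgroup.zpowers ⁅x, d⁆) := (Subgroup.mem_inf.mp hz).1
        rw [h, Subgroup.mem_bot] at hmem
        exact Subtype.ext (by simpa using congrArg Subtype.val hmem)
      · exact Subgroup.subgroupOf_eq_top.mp h
    exact fun u => hgenC (hcube u)
  set r : Equiv.Perm (Fin (3 ^ 2)) := finRotate (3 ^ 2) with hr
  have hr9 : r ^ 9 = 1 := by rw [hr]; decide
  have hr3 : r ^ 3 ≠ 1 := by rw [hr]; decide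
  have hP : IsPGroup 3 (Subgroup.zpowers r) := by
    refine IsPGroup.of_card_dvd_pow (n := 2) ?_
    rw [Nat.card_zpowers]
    exact orderOf_dvd_of_pow_eq_one hr9
  obtain ⟨Q, hQ⟩ := hP.exists_le_sylow
  obtain ⟨g, hg⟩ := MulAction.exists_smul_eq (Equiv.Perm (Fin (3 ^ 2))) Q W
  have hw : g * r * g⁻¹ ∈ (W : Subgroup (Equiv.Perm (Fin (3 ^ 2)))) := by
    rw [← hg]
    exact Subgroup.smul_mem_pointwise_smul r (MulAut.conj g) (Q : Subgroup _)
      (hQ (Subgroup.mem_zpowers r))
  obtain ⟨u, hu⟩ := hf ⟨g * r * g⁻¹, hw⟩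
  have := hfC u
  rw [map_pow, hu] at this
  have h9 := congrArg Subtype.val this
  rw [Subgroup.coe_pow, Subgroup.coe_one, conj_pow] at h9
  exact hr3 (by simpa [mul_assoc] using congrArg (fun z => g⁻¹ * z * g) h9)

end CfsgLib.OrderDegrees.FusFifth
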